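import Cfsg.Agent.Lib.InvChar.KleinCentralizer

/-!
A group with a self-centralising four group as Sylow 2-subgroup and one class of involutions has at
most five Sylow 2-subgroups.
-/

set_option autoImplicit false
set_option linter.unusedSectionVars false

namespace CfsgLib.ReeType

open Subgroup Cfsg CfsgLib.Involutions CfsgLib.InvChar
open scoped ComplexConjugate

universe u

theorem three_recip_weak {a b c : ℤ} (hsum : a + b + c = -1) (ha : 4 ∣ a - 1) (hb : 4 ∣ b - 1)
    (hc : 4 ∣ c - 1) : (1 : ℝ) / 3 ≤ 1 + 1 / (a : ℝ) + 1 / b + 1 / c := by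
  have hcase : ∀ x : ℤ, 4 ∣ x - 1 → x ≤ -3 ∨ 1 ≤ x := fun x hx => by omega
  have hlow : ∀ x : ℤ, 4 ∣ x - 1 → -(1 : ℝ) / 3 ≤ 1 / (x : ℝ) ∧ (1 ≤ x → 0 ≤ 1 / (x : ℝ)) := by
    intro x hx
    refine ⟨?_, fun h => div_nonneg zero_le_one (by exact_mod_cast le_trans (by norm_num) h)⟩
    rcases hcase x hx with h | h
    · have h' : (x : ℝ) ≤ -3 := by exact_mod_cast h
      rw [le_div_iff_of_neg (by linarith)]
      linarith
    · have : (0 : ℝ) ≤ 1 / (x : ℝ) :=
        div_nonneg zero_le_one (by exact_mod_cast le_trans (by norm_num) h)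
      linarith
  obtain ⟨la, pa⟩ := hlow a ha
  obtain ⟨lb, pb⟩ := hlow b hb
  obtain ⟨lc, pc⟩ := hlow c hc
  rcases hcase a ha with h1 | h1
  · rcases hcase b hb with h2 | h2
    · rcases hcase c hc with h3 | h3
      · omega
      · linarith [pc h3]
    · linarith [pb h2]
  · linarith [pa h1]

section Counting

open scoped Classical

variable {K : Type u} [Group K] [Fintype K]

theorem card_invs_le (V : Sylow 2 K) (hV : IsKleinFour ↥(V : Subgroup K))
    (hone : ∀ s t : K, orderOf s = 2 → orderOf t = 2 → IsConj s t)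
    (hpair : ∀ s : K, orderOf s = 2 → ((invs K).filter fun s' => 2 ∣ orderOf (s * s')).card = 2) :
    (invs K).card ≤ 24 := by
  have hPC : PrincipalConstant.{u} := fun G _ _ M hM x hx y hy χ hχ =>
    Cfsg.Agent.S0942.result 2 M hM x ⟨1, by simp [hx]⟩ y hy χ hχ
  obtain ⟨M, hM⟩ := CfsgLib.KGV.exists_isPModular 2 Nat.prime_two
  obtain ⟨F⟩ := exists_kleinFamily (K := K) V hV hPC hM hone
  obtain ⟨t, ht⟩ : ∃ t : K, orderOf t = 2 := by
    obtain ⟨⟨b, hb, hb1⟩⟩ := (Nat.card_pos_iff.mp
      (by rw [klein_card_involutions V hV]; norm_num : 0 < Nat.card {a : K // a ∈ V ∧ a ≠ 1})).1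
    exact ⟨b, klein_orderOf V hV hb hb1⟩
  have hinvs : invs K = Finset.univ.filter (IsConj t) := by
    ext s
    simp only [mem_invs, Finset.mem_filter, Finset.mem_univ, true_and]
    exact ⟨hone t s ht, fun h => (orderOf_eq_of_isConj h).trans ht⟩
  have hirr : ∀ i, ∃ χ : IrrCharacter K, F.q i = (χ : K → ℂ) ∨ F.q i = -(χ : K → ℂ) := fun i =>
    CfsgLib.Characters.eq_irr_or_neg_of_classInner_self_eq_one (F.q_gen i) (by simp [F.q_inner])
  have hint : ∀ i, ∃ d : ℤ, F.q i 1 = (d : ℂ) ∧ 4 ∣ d - 1 := by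
    intro i
    obtain ⟨χ, hχ⟩ := hirr i
    obtain ⟨n, -, hn⟩ := CfsgLib.Characters.irr_exists_degree χ.2
    obtain ⟨d, hd⟩ : ∃ d : ℤ, F.q i 1 = (d : ℂ) := by
      rcases hχ with h | h
      · exact ⟨n, by rw [h, hn]; simp⟩
      · exact ⟨-n, by rw [h, Pi.neg_apply, hn]; simp⟩
    refine ⟨d, hd, ?_⟩
    have hres : IsGeneralizedCharacter ↥(V : Subgroup K) (fun v => F.q i v) := by
      obtain ⟨a, b, ha, hb, hab⟩ := F.q_gen i
      refine ⟨fun v => a v, fun v => b v, ?_, ?_, funext fun v => congrFun hab v⟩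
      · obtain ⟨m, ρ, rfl⟩ := ha
        exact ⟨m, ρ.comp (V : Subgroup K).subtype, rfl⟩
      · obtain ⟨m, ρ, rfl⟩ := hb
        exact ⟨m, ρ.comp (V : Subgroup K).subtype, rfl⟩
    obtain ⟨z, hz⟩ := CfsgLib.Characters.classInner_generalized_int hres
      CfsgLib.Characters.isGeneralizedCharacter_one
    have hsum : ∑ v : ↥(V : Subgroup K), F.q i v = (d : ℂ) + 3 := by
      rw [← Finset.add_sum_erase _ _ (Finset.mem_univ (1 : ↥(V : Subgroup K)))]
      have hev : ∀ v ∈ Finset.univ.erase (1 : ↥(V : Subgroup K)), F.q i (v : K) = 1 := fun v hv =>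
        F.q_even i (v : K) (by
          rw [klein_orderOf V hV v.2 (fun h => (Finset.mem_erase.1 hv).1 (Subtype.ext h))])
      rw [Finset.sum_congr rfl hev]
      rw [Finset.sum_const, Finset.card_erase_of_mem (Finset.mem_univ _), Finset.card_univ,
        ← Nat.card_eq_fintype_card, hV.card_four, OneMemClass.coe_one, hd]
      norm_num
    rw [classInner, hV.card_four] at hz
    simp only [Pi.one_apply, map_one, mul_one, hsum] at hz
    have h4 : d + 3 = 4 * z := by
      have : (d : ℂ) + 3 = 4 * z := by rw [← hz]; push_cast; ring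
      exact_mod_cast this
    omega
  choose d hd hd4 using hint
  have hd0 : d 0 = 1 := by exact_mod_cast (hd 0).symm.trans (F.q_zero 1)
  have hsum1 : d 0 + d 1 + d 2 + d 3 = 0 := by
    have := F.q_sum 1 (by simp)
    simp only [hd, Fin.sum_univ_four] at this
    exact_mod_cast this
  have hI : (0 : ℝ) < ((invs K).card : ℝ) := by
    exact_mod_cast Finset.card_pos.2 ⟨t, mem_invs.2 ht⟩
  have hkey : ((invs K).card : ℂ) ^ 2 * ∑ i, 1 / (d i : ℂ) = 8 * ((invs K).card : ℂ) := by
    rw [Finset.mul_sum]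
    calc ∑ i, ((invs K).card : ℂ) ^ 2 * (1 / (d i : ℂ))
        = ∑ i, ∑ a ∈ invs K, ∑ b ∈ invs K, F.q i (a * b) := by
          refine Finset.sum_congr rfl fun i _ => ?_
          rw [hinvs, CfsgLib.InvChar.KleinCentralizer.sum_char_class_products' (hirr i) t,
            F.q_even i t (by rw [ht]), hd]
          ring
      _ = ∑ a ∈ invs K, ∑ b ∈ invs K, ∑ i, F.q i (a * b) := by
          rw [Finset.sum_comm]
          exact Finset.sum_congr rfl fun a _ => Finset.sum_comm
      _ = ∑ a ∈ invs K, ∑ b ∈ (invs K).filter (fun b => 2 ∣ orderOf (a * b)), (4 : ℂ) := by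
          refine Finset.sum_congr rfl fun a _ => ?_
          rw [Finset.sum_filter]
          refine Finset.sum_congr rfl fun b _ => ?_
          split_ifs with h
          · simp [F.q_even _ _ h]
          · exact F.q_sum _ (Nat.not_even_iff_odd.1 fun he => h he.two_dvd)
      _ = 8 * ((invs K).card : ℂ) := by
          rw [Finset.sum_congr rfl (g := fun _ => (8 : ℂ)) fun a ha => by
            rw [Finset.sum_const, hpair a (mem_invs.1 ha)]; norm_num]
          rw [Finset.sum_const, nsmul_eq_mul]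
          ring
  have hkeyR : ((invs K).card : ℝ) ^ 2 * ∑ i, 1 / (d i : ℝ) = 8 * ((invs K).card : ℝ) := by
    have : (((invs K).card : ℝ) ^ 2 * ∑ i, 1 / (d i : ℝ) : ℂ) =
        ((8 * ((invs K).card : ℝ) : ℝ) : ℂ) := by push_cast; exact hkey
    exact_mod_cast this
  have hβ : (1 : ℝ) / 3 ≤ ∑ i, 1 / (d i : ℝ) := by
    rw [Fin.sum_univ_four, hd0]
    have := three_recip_weak (a := d 1) (b := d 2) (c := d 3) (by omega) (hd4 1) (hd4 2) (hd4 3)
    simpa using this
  have hle : ((invs K).card : ℝ) ≤ 24 := by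
    have h1 : ((invs K).card : ℝ) * ∑ i, 1 / (d i : ℝ) = 8 := by
      refine mul_left_cancel₀ hI.ne' ?_
      rw [← mul_assoc, ← pow_two, hkeyR]
      ring
    nlinarith
  exact_mod_cast hle

end Counting

/-- At most five Sylow 2-subgroups, and the order is twelve times their number. -/
theorem klein_self_centralizing {K : Type u} [Group K] [Finite K] (V : Sylow 2 K)
    (hV : IsKleinFour ↥(V : Subgroup K))
    (hcent : ∀ t : K, orderOf t = 2 → Nat.card (centralizer ({t} : Set K)) = 4)
    (hone : ∀ s t : K, orderOf s = 2 → orderOf t = 2 → IsConj s t) :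
    Nat.card K = 12 * Nat.card (Sylow 2 K) ∧ (Nat.card (Sylow 2 K) = 1 ∨ Nat.card (Sylow 2 K) = 5) := by
  classical
  letI := Fintype.ofFinite K
  have : Fact (Nat.Prime 2) := ⟨Nat.prime_two⟩
  have hQK : ∀ Q : Sylow 2 K, IsKleinFour ↥(Q : Subgroup K) := fun Q =>
    ⟨by rw [Nat.card_congr (Q.equiv V).toEquiv]; exact hV.card_four,
     by rw [Monoid.exponent_eq_of_mulEquiv (Q.equiv V)]; exact hV.exponent_two⟩
  have hfac : 2 ^ (Nat.card K).factorization 2 = 4 := by rw [← V.card_eq_multiplicity, hV.card_four]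
  have hsyl : ∀ t : K, orderOf t = 2 → ∀ Q : Sylow 2 K, t ∈ Q →
      (Q : Subgroup K) = centralizer ({t} : Set K) := by
    intro t ht Q htQ
    refine eq_of_le_of_card_ge (fun a ha => mem_centralizer_singleton_iff.2 ?_) ?_
    · exact congrArg Subtype.val ((klein_comm Q (hQK Q)).is_comm.comm ⟨a, ha⟩ ⟨t, htQ⟩)
    · rw [hcent t ht, (hQK Q).card_four]
  have hex : ∀ s : K, orderOf s = 2 → ∃ Q : Sylow 2 K, s ∈ Q := fun s hs => by
    obtain ⟨Q, hQ⟩ := (isPGroup_two_zpowers hs).exists_le_sylow
    exact ⟨Q, hQ (mem_zpowers s)⟩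
  have hQeq : ∀ s : K, orderOf s = 2 → ∀ Q R : Sylow 2 K, s ∈ Q → s ∈ R → Q = R :=
    fun s hs Q R hQ hR => Sylow.ext ((hsyl s hs Q hQ).trans (hsyl s hs R hR).symm)
  have hpair : ∀ s : K, orderOf s = 2 →
      ((invs K).filter fun s' => 2 ∣ orderOf (s * s')).card = 2 := by
    intro s hs
    obtain ⟨Q, hsQ⟩ := hex s hs
    have hset : ((invs K).filter fun s' => 2 ∣ orderOf (s * s')) =
        (Finset.univ.filter fun a => a ∈ Q ∧ a ≠ 1).erase s := by
      ext s'
      simp only [Finset.mem_filter, mem_invs, Finset.mem_erase, Finset.mem_univ, true_and]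
      constructor
      · rintro ⟨hs', hev⟩
        refine ⟨fun h => ?_, ?_, ne_one_of_involution hs'⟩
        · subst h
          rw [mul_self_eq_one hs, orderOf_one] at hev
          omega
        obtain ⟨m, hm⟩ := hev
        set g := s * s' with hg
        have hm0 : m ≠ 0 := by rintro rfl; exact (orderOf_pos g).ne' (by simpa using hm)
        have ht : orderOf (g ^ m) = 2 := by
          rw [orderOf_pow' _ hm0, hm, Nat.gcd_eq_right (dvd_mul_left m 2),
            Nat.mul_div_cancel _ (Nat.pos_of_ne_zero hm0)]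
        set t := g ^ m with htdef
        have hgt : g * t = t * g := ((Commute.refl g).pow_right m).eq
        have hst : s * t = t * s := by
          have h1 : s * g * s⁻¹ = g⁻¹ := by
            rw [hg, mul_inv_rev, inv_eq_self_of_involution hs, inv_eq_self_of_involution hs',
              ← mul_assoc, mul_self_eq_one hs, one_mul]
          have h2' : s * t * s⁻¹ = t := by
            rw [htdef, ← conj_pow, h1, inv_pow]
            exact inv_eq_self_of_involution ht
          exact mul_inv_eq_iff_eq_mul.1 h2'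
        obtain ⟨R, htR⟩ := hex t ht
        have hsR : s ∈ R := by
          rw [← SetLike.mem_coe]; show s ∈ (R : Subgroup K)
          rw [hsyl t ht R htR]; exact mem_centralizer_singleton_iff.2 hst
        have hs'R : s' ∈ R := by
          show s' ∈ (R : Subgroup K)
          rw [hsyl t ht R htR, show s' = s⁻¹ * g by rw [hg, inv_mul_cancel_left]]
          exact mul_mem (inv_mem (mem_centralizer_singleton_iff.2 hst))
            (mem_centralizer_singleton_iff.2 hgt)
        exact hQeq s hs R Q hsR hsQ ▸ hs'R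
      · rintro ⟨hne, hmem, hne1⟩
        refine ⟨klein_orderOf Q (hQK Q) hmem hne1, ?_⟩
        rw [klein_orderOf Q (hQK Q) ((Q : Subgroup K).mul_mem hsQ hmem) fun h =>
          hne ((inv_eq_of_mul_eq_one_right h).symm.trans (inv_eq_self_of_involution hs))]
    rw [hset, Finset.card_erase_of_mem (by simp [hsQ, ne_one_of_involution hs]),
      ← Fintype.card_subtype, ← Nat.card_eq_fintype_card, klein_card_involutions Q (hQK Q)]
  have h24 := card_invs_le V hV hone hpair
  have h3n : (invs K).card = 3 * Nat.card (Sylow 2 K) := by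
    have e : (invs K).card = Nat.card (Σ Q : Sylow 2 K, {a : K // a ∈ Q ∧ a ≠ 1}) := by
      rw [invs, ← Fintype.card_subtype, ← Nat.card_eq_fintype_card]
      refine (Nat.card_eq_of_bijective
        (fun y : Σ Q : Sylow 2 K, {a : K // a ∈ Q ∧ a ≠ 1} =>
          (⟨y.2.1, klein_orderOf y.1 (hQK y.1) y.2.2.1 y.2.2.2⟩ : {t : K // orderOf t = 2}))
        ⟨?_, ?_⟩).symm
      · rintro ⟨Q, a, ha⟩ ⟨R, b, hb⟩ h
        obtain rfl : a = b := congrArg Subtype.val h
        obtain rfl := hQeq a (klein_orderOf Q (hQK Q) ha.1 ha.2) Q R ha.1 hb.1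
        rfl
      · rintro ⟨a, ha⟩
        obtain ⟨Q, hQ⟩ := hex a ha
        exact ⟨⟨Q, a, hQ, ne_one_of_involution ha⟩, rfl⟩
    rw [e, Nat.card_sigma, Finset.sum_congr rfl fun Q _ => klein_card_involutions Q (hQK Q),
      Finset.sum_const, Finset.card_univ, Nat.card_eq_fintype_card, smul_eq_mul, mul_comm]
  have hmod : Nat.card (Sylow 2 K) % 4 = 1 := by
    have hb := MulAction.sum_card_fixedBy_eq_card_orbits_mul_card_group ↥(V : Subgroup K) (Sylow 2 K)
    have hfix : ∀ v : ↥(V : Subgroup K), v ≠ 1 →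
        Fintype.card (MulAction.fixedBy (Sylow 2 K) v) = 1 := by
      intro v hv
      rw [Fintype.card_eq_one_iff]
      refine ⟨⟨V, ?_⟩, ?_⟩
      · exact Sylow.smul_eq_iff_mem_normalizer.2 (le_normalizer v.2)
      · rintro ⟨Q, hQ⟩
        have hvn : (v : K) ∈ normalizer ((Q : Subgroup K) : Set K) :=
          Sylow.smul_eq_iff_mem_normalizer.1 hQ
        have hv2 : orderOf (v : K) = 2 := klein_orderOf V hV v.2 fun h => hv (Subtype.ext h)
        have hsup := (isPGroup_two_zpowers hv2).to_sup_of_normal_right' Q.isPGroup'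
          (zpowers_le.2 hvn)
        have hvQ : (v : K) ∈ Q :=
          (Q.is_maximal' hsup le_sup_right).le (mem_sup_left (mem_zpowers (v : K)))
        exact Subtype.ext (hQeq v hv2 Q V hvQ v.2)
    rw [← Finset.add_sum_erase _ _ (Finset.mem_univ (1 : ↥(V : Subgroup K))),
      Finset.sum_congr rfl fun v hv => hfix v (Finset.mem_erase.1 hv).1, Finset.sum_const,
      Finset.card_erase_of_mem (Finset.mem_univ _), Finset.card_univ, ← Nat.card_eq_fintype_card,
      ← Nat.card_eq_fintype_card, ← Nat.card_eq_fintype_card, hV.card_four] at hb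
    have hfix1 : Nat.card (MulAction.fixedBy (Sylow 2 K) (1 : ↥(V : Subgroup K))) =
        Nat.card (Sylow 2 K) := by
      rw [MulAction.fixedBy_one_eq_univ, Nat.card_univ]
    rw [hfix1] at hb
    simp only [smul_eq_mul] at hb
    omega
  refine ⟨?_, by omega⟩
  obtain ⟨t, ht⟩ : ∃ t : K, orderOf t = 2 := by
    obtain ⟨⟨b, hb, hb1⟩⟩ := (Nat.card_pos_iff.mp
      (by rw [klein_card_involutions V hV]; norm_num : 0 < Nat.card {a : K // a ∈ V ∧ a ≠ 1})).1
    exact ⟨b, klein_orderOf V hV hb hb1⟩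
  have hI : (invs K).card = (centralizer ({t} : Set K)).index := by
    rw [invs, ← Fintype.card_subtype, ← Nat.card_eq_fintype_card,
      ← CfsgLib.Characters.card_isConj_eq_index t]
    exact Nat.card_congr (Equiv.subtypeEquivRight fun s =>
      ⟨hone t s ht, fun h => (orderOf_eq_of_isConj h).trans ht⟩)
  have h := (centralizer ({t} : Set K)).card_mul_index
  rw [hcent t ht, ← hI, h3n] at h
  omega

end CfsgLib.ReeType
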