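import Cfsg.Agent.Lib.ReeType.Odd
import Cfsg.Agent.Lib.ReeType.Klein

/-!
The element of order three moves the odd part of the torus.
-/

set_option autoImplicit false
set_option linter.unusedSectionVars false

namespace CfsgLib.ReeType

open Cfsg

universe u

variable {G : Type u} [Group G] [Finite G]
variable {F : Type} [Field F] [Fintype F] [DecidableEq F]

theorem odd_pow_self {M : Type*} [Monoid M] {m : ℕ} (hm : Odd m) {u : M} (hu : u ^ 2 = 1) : u ^ m = u := by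
  obtain ⟨k, rfl⟩ := hm
  rw [pow_succ, pow_mul, hu, one_pow, one_mul]

namespace Frame

variable (Fr : Frame G F)

set_option maxHeartbeats 800000 in
theorem moved (h3 : ¬ 3 ∣ (Subgroup.centralizer ({Fr.t₀} : Set G)).index) :
    ∃ a ∈ Fr.A, a ^ Fr.n = 1 ∧ Fr.y⁻¹ * a * Fr.y ≠ a := by
  classical
  by_contra hcon
  push Not at hcon
  have : Fact (Nat.Prime 2) := ⟨Nat.prime_two⟩
  obtain ⟨h4, h27, hodd, h60⟩ := Fr.card_facts
  have hyw : Commute Fr.y Fr.w := by
    have h := hcon _ Fr.w_mem_A Fr.w_pow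
    show _ * _ = _ * _
    nth_rw 1 [← h]
    group
  set Y := Subgroup.centralizer ({Fr.w} : Set G) with hY
  have hyY : Fr.y ∈ Y := Subgroup.mem_centralizer_singleton_iff.2 hyw.eq
  have hAY : Fr.A ≤ Y := fun a ha => Subgroup.mem_centralizer_singleton_iff.2 (Fr.A_comm ha Fr.w_mem_A).eq
  let Av : Subgroup G :=
    { carrier := {a | a ∈ Fr.A ∧ a * a = 1}
      one_mem' := ⟨Subgroup.one_mem _, one_mul 1⟩
      mul_mem' := fun {a b} ha hb => ⟨Subgroup.mul_mem _ ha.1 hb.1, by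
        rw [(Fr.A_comm hb.1 ha.1).mul_mul_mul_comm, ha.2, hb.2, one_mul]⟩
      inv_mem' := fun {a} ha => ⟨Subgroup.inv_mem _ ha.1, by rw [← mul_inv_rev, ha.2, inv_one]⟩ }
  have hAvY : Av ≤ Y := fun a ha => hAY ha.1
  have hy' : Commute Fr.y⁻¹ Fr.w := hyw.inv_left
  -- centralizers in `Y` of the involutions of the four group
  have hcA : ∀ u ∈ Av, u ≠ 1 → ∀ x ∈ Y, Commute x u → x ∈ Fr.A := by
    intro u hu hu1 x hx hxu
    have hxw : Commute x Fr.w := Subgroup.mem_centralizer_singleton_iff.1 hx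
    have hs12 := Fr.y_s₁₂
    have hs2 : Fr.y⁻¹ * Fr.s₂ * Fr.y = Fr.s := Fr.y_s2
    have hback : ∀ g : G, Fr.y⁻¹ * x * Fr.y ∈ Fr.A → x ∈ Fr.A := fun _ h => by
      have := Fr.y_norm' h
      rwa [show Fr.y * (Fr.y⁻¹ * x * Fr.y) * Fr.y⁻¹ = x by group] at this
    rcases Fr.A_sq hu.1 hu.2 with rfl | rfl | rfl | rfl
    · exact absurd rfl hu1
    · exact Fr.mem_A_of_commute hxu hxw
    · refine hback x (Fr.mem_A_of_commute ?_ ((hy'.mul_left hxw).mul_left hyw))
      rw [← hs2]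
      show _ * _ = _ * _
      calc Fr.y⁻¹ * x * Fr.y * (Fr.y⁻¹ * Fr.s₂ * Fr.y) = Fr.y⁻¹ * (x * Fr.s₂) * Fr.y := by group
        _ = Fr.y⁻¹ * (Fr.s₂ * x) * Fr.y := by rw [hxu.eq]
        _ = _ := by group
    · have hs : Fr.y * (Fr.s * Fr.s₂) * Fr.y⁻¹ = Fr.s := by
        rw [show Fr.s * Fr.s₂ = Fr.y⁻¹ * Fr.s * Fr.y from Fr.y_s.symm]; group
      have h1 : Fr.y * x * Fr.y⁻¹ ∈ Fr.A := by
        refine Fr.mem_A_of_commute ?_ ((hyw.mul_left hxw).mul_left hy')
        rw [← hs]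
        show _ * _ = _ * _
        calc Fr.y * x * Fr.y⁻¹ * (Fr.y * (Fr.s * Fr.s₂) * Fr.y⁻¹) = Fr.y * (x * (Fr.s * Fr.s₂)) * Fr.y⁻¹ := by group
          _ = Fr.y * ((Fr.s * Fr.s₂) * x) * Fr.y⁻¹ := by rw [hxu.eq]
          _ = _ := by group
      have := Fr.y_norm _ h1
      rwa [show Fr.y⁻¹ * (Fr.y * x * Fr.y⁻¹) * Fr.y = x by group] at this
  -- the four group
  have hsAv : Fr.s ∈ Av := ⟨Fr.s_mem_A, Fr.s_mul_self⟩
  have hs2Av : Fr.s₂ ∈ Av := ⟨Fr.s₂_mem_A, CfsgLib.Involutions.mul_self_eq_one Fr.orderOf_s₂⟩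
  have hs1 : Fr.s ≠ 1 := CfsgLib.Involutions.ne_one_of_involution Fr.E.orderOf_s
  have hs21 : Fr.s₂ ≠ 1 := CfsgLib.Involutions.ne_one_of_involution Fr.orderOf_s₂
  have hss : Fr.s ≠ Fr.s₂ := fun e => by
    have h1 : Fr.E.kappa ⟨Fr.s₂, Fr.E.up_mem _⟩ = prj (Fr.c ^ Fr.n) := Fr.E.kappa_up _
    have h2 : (⟨Fr.s₂, Fr.E.up_mem _⟩ : Subgroup.centralizer ({Fr.s} : Set G)) =
        ⟨Fr.s, Subgroup.mem_centralizer_singleton_iff.2 rfl⟩ := Subtype.ext e.symm
    rw [h2, Fr.E.kappa_self] at h1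
    exact hs21 (by rw [s₂, ← h1, map_one])
  have hAv4 : Nat.card Av = 4 := by
    have hset : (Av : Set G) = ↑({1, Fr.s, Fr.s₂, Fr.s * Fr.s₂} : Finset G) := by
      ext a
      simp only [Finset.coe_insert, Finset.coe_singleton, Set.mem_insert_iff, Set.mem_singleton_iff,
        SetLike.mem_coe]
      constructor
      · exact fun ha => Fr.A_sq ha.1 ha.2
      · rintro (rfl | rfl | rfl | rfl)
        exacts [Subgroup.one_mem _, hsAv, hs2Av, Subgroup.mul_mem _ hsAv hs2Av]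
    rw [show Nat.card Av = Nat.card ↥(Av : Set G) from rfl, hset, Nat.card_coe_set_eq, Set.ncard_coe_finset]
    have n3 : (1 : G) ≠ Fr.s * Fr.s₂ := fun e => hss (by
      have := inv_eq_of_mul_eq_one_right e.symm
      rwa [CfsgLib.Involutions.inv_eq_self_of_involution Fr.E.orderOf_s] at this)
    have n4 : Fr.s ≠ Fr.s * Fr.s₂ := fun e => hs21 (left_eq_mul.1 e)
    have n5 : Fr.s₂ ≠ Fr.s * Fr.s₂ := fun e => hs1 (right_eq_mul.1 e)
    rw [Finset.card_insert_of_notMem (by simp [Ne.symm hs1, Ne.symm hs21, n3]),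
      Finset.card_insert_of_notMem (by simp [hss, n4]), Finset.card_pair n5]
  -- the Sylow 2-subgroup of `Y`
  set V := Av.subgroupOf Y with hV
  have hV4 : Nat.card V = 4 := by rw [hV, Nat.card_congr (Subgroup.subgroupOfEquivOfLe hAvY).toEquiv, hAv4]
  have hVp : IsPGroup 2 V := IsPGroup.of_card (n := 2) (by rw [hV4]; norm_num)
  obtain ⟨P, hP⟩ := hVp.exists_le_sylow
  have hpow2 : ∀ a ∈ Fr.A, ∀ k, a ^ (2 ^ k) = 1 → a * a = 1 := by
    intro a ha k hk
    have h2n : a ^ (2 * Fr.n) = 1 := by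
      obtain ⟨-, h⟩ := Fr.A_pow ha
      rwa [← pow_add, ← two_mul] at h
    rw [← pow_two, ← orderOf_dvd_iff_pow_eq_one]
    have hd := Nat.dvd_gcd (orderOf_dvd_of_pow_eq_one h2n) (orderOf_dvd_of_pow_eq_one hk)
    rcases k with _ | k
    · simp at hk; simp [hk]
    · rwa [pow_succ', Nat.gcd_mul_left,
        Nat.Coprime.gcd_eq_one ((Nat.coprime_two_right.2 hodd).pow_right k)] at hd
  have hPV : (P : Subgroup Y) = V := by
    refine le_antisymm ?_ hP
    have : Nontrivial (P : Subgroup Y) := by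
      refine ⟨⟨⟨⟨Fr.s, hAvY hsAv⟩, hP (Subgroup.mem_subgroupOf.2 hsAv)⟩, 1, fun e => hs1 ?_⟩⟩
      exact congrArg (fun z : (P : Subgroup Y) => ((z : Y) : G)) e
    have := P.isPGroup'.center_nontrivial
    obtain ⟨k, hk0, hk⟩ :=
      (P.isPGroup'.to_subgroup (Subgroup.center (P : Subgroup Y))).nontrivial_iff_card.1 inferInstance
    obtain ⟨⟨⟨⟨z, hzY⟩, hzP⟩, hzc⟩, hz⟩ := exists_prime_orderOf_dvd_card'
      (G := Subgroup.center (P : Subgroup Y)) 2 (hk ▸ dvd_pow_self 2 hk0.ne')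
    rw [Subgroup.orderOf_mk, Subgroup.orderOf_mk, Subgroup.orderOf_mk] at hz
    have hcomm : ∀ (a : Y), a ∈ (P : Subgroup Y) → Commute (a : G) z := fun a ha =>
      congrArg (fun v : (P : Subgroup Y) => ((v : Y) : G)) (Subgroup.mem_center_iff.1 hzc ⟨a, ha⟩)
    have hzA : z ∈ Fr.A :=
      hcA _ hsAv hs1 z hzY (hcomm ⟨Fr.s, hAvY hsAv⟩ (hP (Subgroup.mem_subgroupOf.2 hsAv))).symm
    intro a ha
    refine Subgroup.mem_subgroupOf.2 ?_
    have haA : (a : G) ∈ Fr.A := hcA z ⟨hzA, CfsgLib.Involutions.mul_self_eq_one hz⟩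
      (CfsgLib.Involutions.ne_one_of_involution hz) a a.2 (hcomm a ha)
    obtain ⟨m, hm⟩ := P.isPGroup' ⟨a, ha⟩
    exact ⟨haA, hpow2 _ haA m (congrArg (fun v : (P : Subgroup Y) => ((v : Y) : G)) hm)⟩
  -- the quotient by the central odd subgroup
  set N : Subgroup Y := (Subgroup.zpowers Fr.w).subgroupOf Y with hN
  have hNc : ∀ z ∈ N, ∀ g : Y, g * z = z * g := by
    intro z hz g
    obtain ⟨i, hi⟩ := Subgroup.mem_zpowers_iff.1 (Subgroup.mem_subgroupOf.1 hz)
    refine Subtype.ext ?_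
    show (g : G) * (z : G) = (z : G) * (g : G)
    rw [← hi]
    exact ((show Commute (g : G) Fr.w from Subgroup.mem_centralizer_singleton_iff.1 g.2).zpow_right i).eq
  have : N.Normal := ⟨fun z hz g => by rw [hNc z hz g, mul_inv_cancel_right]; exact hz⟩
  have hNn : ∀ z ∈ N, z ^ Fr.n = 1 := by
    intro z hz
    obtain ⟨i, hi⟩ := Subgroup.mem_zpowers_iff.1 (Subgroup.mem_subgroupOf.1 hz)
    refine Subtype.ext ?_
    rw [Subgroup.coe_pow, ← hi, ← zpow_natCast, ← _root_.zpow_mul, mul_comm, _root_.zpow_mul,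
      zpow_natCast, Fr.w_pow, _root_.one_zpow]
    rfl
  let π := QuotientGroup.mk' N
  have hπs : Function.Surjective π := QuotientGroup.mk'_surjective N
  have hkerN : ∀ {x : Y}, π x = 1 ↔ x ∈ N := fun {x} => QuotientGroup.eq_one_iff x
  have hsqN : ∀ {z : Y}, z ∈ N → z * z = 1 → z = 1 := fun {z} hz h => by
    have := hNn z hz
    rwa [odd_pow_self hodd (by rw [pow_two]; exact h)] at this
  have hVinj : ∀ a ∈ V, π a = 1 → a = 1 := fun a ha h =>
    hsqN (hkerN.1 h) (Subtype.ext (Subgroup.mem_subgroupOf.1 ha).2)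
  let P' : Sylow 2 (Y ⧸ N) := P.mapSurjective hπs
  have hP' : (P' : Subgroup (Y ⧸ N)) = V.map π := by
    show (P : Subgroup Y).map π = _
    rw [hPV]
  have hVsq : ∀ a ∈ V, a * a = 1 := fun a ha => Subtype.ext (Subgroup.mem_subgroupOf.1 ha).2
  have hP'k : IsKleinFour (P' : Subgroup (Y ⧸ N)) := by
    have hc : Nat.card (P' : Subgroup (Y ⧸ N)) = 4 := by
      rw [hP']
      have hinj : Function.Injective (π.comp V.subtype) := by
        rw [← MonoidHom.ker_eq_bot_iff, Subgroup.eq_bot_iff_forall]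
        exact fun a ha => Subtype.ext (hVinj a a.2 ha)
      rw [← Subgroup.range_subtype V, ← MonoidHom.range_comp, ← Nat.card_congr
        (MonoidHom.ofInjective hinj).toEquiv, hV4]
    refine ⟨hc, Nat.dvd_antisymm (Monoid.exponent_dvd_of_forall_pow_eq_one fun x => ?_) ?_⟩
    · obtain ⟨x, hx⟩ := x
      rw [hP'] at hx
      obtain ⟨a, ha, rfl⟩ := hx
      refine Subtype.ext ?_
      rw [Subgroup.coe_pow, ← map_pow, pow_two, hVsq a ha, map_one]
      rfl
    · have : Nontrivial (P' : Subgroup (Y ⧸ N)) := (Finite.one_lt_card_iff_nontrivial).1 (by rw [hc]; norm_num)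
      obtain ⟨m, hm⟩ := P'.isPGroup'.exists_card_eq
      obtain ⟨x, hx⟩ := exists_prime_orderOf_dvd_card' (G := (P' : Subgroup (Y ⧸ N))) 2 (by rw [hc]; norm_num)
      exact (dvd_of_eq hx.symm).trans (Monoid.order_dvd_exponent x)
  have hVclass : ∀ u : Y, u ∈ V → u ≠ 1 → IsConj (⟨Fr.s, hAvY hsAv⟩ : Y) u := by
    intro u hu hu1
    rcases Fr.A_sq (Subgroup.mem_subgroupOf.1 hu).1 (Subgroup.mem_subgroupOf.1 hu).2 with e | e | e | e
    · exact absurd (Subtype.ext e) hu1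
    · rw [show u = ⟨Fr.s, hAvY hsAv⟩ from Subtype.ext e]
    · refine isConj_iff.2 ⟨⟨Fr.y, hyY⟩, Subtype.ext ?_⟩
      show Fr.y * Fr.s * Fr.y⁻¹ = (u : G)
      rw [e, ← Fr.y_s2, s₂_def]; group
    · refine isConj_iff.2 ⟨(⟨Fr.y, hyY⟩ : Y)⁻¹, Subtype.ext ?_⟩
      show Fr.y⁻¹ * Fr.s * Fr.y⁻¹⁻¹ = (u : G)
      rw [inv_inv, e, Fr.y_s, s₂_def]
  have hlift : ∀ t : Y ⧸ N, orderOf t = 2 → IsConj (π ⟨Fr.s, hAvY hsAv⟩) t := by
    intro t ht
    obtain ⟨x, rfl⟩ := hπs t
    have hx2 : x ^ 2 ∈ N := hkerN.1 (by rw [map_pow, ← ht, pow_orderOf_eq_one])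
    set t' := x ^ Fr.n with ht'
    have hπt : π t' = π x := by
      rw [ht', map_pow, odd_pow_self hodd (by rw [← ht, pow_orderOf_eq_one])]
    have ht'2 : orderOf t' = 2 := by
      refine orderOf_eq_prime (by rw [ht', ← pow_mul, mul_comm, pow_mul, hNn _ hx2]) fun e => ?_
      rw [e, map_one] at hπt
      rw [← hπt, orderOf_one] at ht
      omega
    obtain ⟨Q, hQ⟩ := (CfsgLib.Involutions.isPGroup_two_zpowers ht'2).exists_le_sylow
    obtain ⟨g, hg⟩ := MulAction.exists_smul_eq Y Q P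
    have hgt : g * t' * g⁻¹ ∈ V := by
      rw [← hPV, ← hg, Sylow.coe_subgroup_smul]
      exact ⟨t', hQ (Subgroup.mem_zpowers t'), rfl⟩
    have hgt1 : g * t' * g⁻¹ ≠ 1 := fun e =>
      CfsgLib.Involutions.ne_one_of_involution ht'2 (conj_eq_one_iff.1 e)
    rw [← hπt]
    exact π.map_isConj ((hVclass _ hgt hgt1).trans (isConj_iff.2 ⟨g, rfl⟩).symm)
  have hone : ∀ a b : Y ⧸ N, orderOf a = 2 → orderOf b = 2 → IsConj a b := fun a b ha hb =>
    (hlift a ha).symm.trans (hlift b hb)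
  have hcent : ∀ t : Y ⧸ N, orderOf t = 2 → Nat.card (Subgroup.centralizer ({t} : Set (Y ⧸ N))) = 4 := by
    intro t ht
    rw [← CfsgLib.PSL2.card_centralizer_conj (hlift t ht)]
    have heq : Subgroup.centralizer ({π ⟨Fr.s, hAvY hsAv⟩} : Set (Y ⧸ N)) = (P' : Subgroup (Y ⧸ N)) := by
      rw [hP']
      refine le_antisymm ?_ ?_
      · intro g' hg'
        obtain ⟨g, rfl⟩ := hπs g'
        set u : Y := ⟨Fr.s, hAvY hsAv⟩
        have hc := Subgroup.mem_centralizer_singleton_iff.1 hg'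
        have hz : g * u * g⁻¹ * u⁻¹ ∈ N := hkerN.1 (by
          rw [map_mul, map_mul, map_mul, map_inv, map_inv, hc]; group)
        set z := g * u * g⁻¹ * u⁻¹ with hzdef
        have huu : u * u = 1 := Subtype.ext Fr.s_mul_self
        have hzu : g * u * g⁻¹ = z * u := by rw [hzdef]; group
        have hz1 : z = 1 := hsqN hz (by
          have h1 : (g * u * g⁻¹) * (g * u * g⁻¹) = 1 := by
            rw [show g * u * g⁻¹ * (g * u * g⁻¹) = g * (u * u) * g⁻¹ by group, huu]; group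
          rw [hzu, mul_assoc, ← mul_assoc u, (hNc z hz u)] at h1
          rw [mul_assoc z u u, huu, mul_one] at h1
          exact h1)
        rw [hz1, one_mul] at hzu
        have hgA : (g : G) ∈ Fr.A := by
          refine hcA _ hsAv hs1 g g.2 ?_
          exact congrArg Subtype.val (mul_inv_eq_iff_eq_mul.1 hzu)
        obtain ⟨h1, h2⟩ := Fr.A_pow hgA
        refine ⟨g ^ Fr.n, Subgroup.mem_subgroupOf.2 ⟨Subgroup.pow_mem _ hgA _, h2⟩, ?_⟩
        obtain ⟨m, hm⟩ := hodd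
        rw [map_pow, hm, pow_succ, pow_mul, ← map_pow,
          hkerN.2 (Subgroup.mem_subgroupOf.2 h1), one_pow, one_mul]
      · rintro _ ⟨a, ha, rfl⟩
        rw [Subgroup.mem_centralizer_singleton_iff, ← map_mul, ← map_mul]
        exact congrArg π (Subtype.ext (Fr.A_comm (Subgroup.mem_subgroupOf.1 ha).1 Fr.s_mem_A).eq)
    rw [heq, hP'k.card_four]
  obtain ⟨hcard, hsyl⟩ := klein_self_centralizing P' hP'k hcent hone
  have hcop : Fr.n.Coprime (Nat.card (Y ⧸ N)) := by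
    refine h60.coprime_dvd_right ?_
    rcases hsyl with e | e <;> rw [hcard, e] <;> norm_num
  have hinZ : ∀ x ∈ Y, x ^ Fr.n = 1 → x ∈ Subgroup.zpowers Fr.w := by
    intro x hx hxn
    have : (⟨x, hx⟩ : Y) ∈ N := hkerN.1 (MonoidHom.mem_ker.1
      (mem_ker_of_coprime π (k := Fr.n) (Subtype.ext hxn) hcop))
    exact Subgroup.mem_subgroupOf.1 this
  -- `E3` normalizes `Y`
  have h6 : Fr.n.Coprime 6 := h60.coprime_dvd_right (by norm_num)
  have hEY : ∀ e ∈ Fr.E3, ∀ x ∈ Y, e * x * e⁻¹ ∈ Y := by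
    intro e he x hx
    have he' : e⁻¹ ∈ Fr.E3 := Subgroup.inv_mem _ he
    have hw' : (e⁻¹ * Fr.w * e) ^ Fr.n = 1 := by
      rw [show e⁻¹ * Fr.w * e = e⁻¹ * Fr.w * (e⁻¹)⁻¹ by rw [inv_inv], conj_pow, Fr.w_pow, mul_one,
        mul_inv_cancel]
    have hcomm : Commute (e⁻¹ * Fr.w * e) Fr.w :=
      Fr.exists_odd_core h3 _ _ (((Fr.E3_y he').mul_left hyw.symm).mul_left (Fr.E3_y he)) hyw.symm
        Fr.n h6 hw' Fr.w_pow
    obtain ⟨i, hi⟩ := Subgroup.mem_zpowers_iff.1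
      (hinZ _ (Subgroup.mem_centralizer_singleton_iff.2 hcomm.eq) hw')
    have hxc : Commute x (e⁻¹ * Fr.w * e) :=
      hi ▸ (show Commute x Fr.w from Subgroup.mem_centralizer_singleton_iff.1 hx).zpow_right i
    refine Subgroup.mem_centralizer_singleton_iff.2 ?_
    calc e * x * e⁻¹ * Fr.w = e * (x * (e⁻¹ * Fr.w * e)) * e⁻¹ := by group
      _ = e * ((e⁻¹ * Fr.w * e) * x) * e⁻¹ := by rw [hxc.eq]
      _ = Fr.w * (e * x * e⁻¹) := by group
  -- the action on the Sylow subgroups of `Y`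
  let cj : Fr.E3 → Subgroup Y := fun e => (Av.map (MulAut.conj (e : G)).toMonoidHom).subgroupOf Y
  have hmapY : ∀ e : Fr.E3, Av.map (MulAut.conj (e : G)).toMonoidHom ≤ Y := by
    rintro e _ ⟨a, ha, rfl⟩
    exact hEY e e.2 a (hAvY ha)
  have hfac : 2 ^ (Nat.card Y).factorization 2 = 4 := by rw [← P.card_eq_multiplicity, hPV, hV4]
  let Φ : Fr.E3 → Sylow 2 Y := fun e => Sylow.ofCard (p := 2) (cj e) (by
    rw [Nat.card_congr (Subgroup.subgroupOfEquivOfLe (hmapY e)).toEquiv,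
      Subgroup.card_map_of_injective (MulAut.conj (e : G)).injective, hAv4, hfac])
  set H : Subgroup Fr.E3 := (Subgroup.normalizer (Av : Set G)).comap Fr.E3.subtype with hH
  have hΦ : ∀ e e' : Fr.E3, Φ e = Φ e' → e⁻¹ * e' ∈ H := by
    intro e e' he
    have h1 : cj e = cj e' := congrArg (fun Q : Sylow 2 Y => (Q : Subgroup Y)) he
    have h2 : Av.map (MulAut.conj (e : G)).toMonoidHom = Av.map (MulAut.conj (e' : G)).toMonoidHom := by
      rw [← inf_eq_left.2 (hmapY e), ← inf_eq_left.2 (hmapY e'), ← Subgroup.subgroupOf_map_subtype,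
        ← Subgroup.subgroupOf_map_subtype]
      exact congrArg _ h1
    refine Subgroup.mem_comap.2 (Subgroup.mem_normalizer_iff.2 fun a => ?_)
    have key : ∀ (g b : G), b ∈ Av.map (MulAut.conj g).toMonoidHom ↔ g⁻¹ * b * g ∈ Av := by
      intro g b
      constructor
      · rintro ⟨c, hc, rfl⟩
        show g⁻¹ * (g * c * g⁻¹) * g ∈ Av
        rwa [show g⁻¹ * (g * c * g⁻¹) * g = c by group]
      · intro hb
        exact ⟨_, hb, show g * (g⁻¹ * b * g) * g⁻¹ = b by group⟩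
    have h3' := key (e : G) ((e' : G) * a * (e' : G)⁻¹)
    rw [h2, key] at h3'
    show a ∈ Av ↔ ((e⁻¹ * e' : Fr.E3) : G) * a * ((e⁻¹ * e' : Fr.E3) : G)⁻¹ ∈ Av
    rw [Subgroup.coe_mul, Subgroup.coe_inv]
    rw [show ((e' : G))⁻¹ * ((e' : G) * a * (e' : G)⁻¹) * (e' : G) = a by group] at h3'
    rw [h3']
    constructor <;> intro h' <;> convert h' using 1 <;> group
  have hidx : H.index ≤ 5 := by
    have hsy : Nat.card (Sylow 2 Y) ≤ Nat.card (Sylow 2 (Y ⧸ N)) := by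
      refine Nat.card_le_card_of_injective (fun Q => Q.mapSurjective hπs) fun Q R hQR => Sylow.ext ?_
      have key : ∀ Q R : Sylow 2 Y, (Q : Subgroup Y).map π = (R : Subgroup Y).map π →
          (Q : Subgroup Y) ≤ (R : Subgroup Y) := by
        intro Q R h x hx
        obtain ⟨x', hx', he⟩ : π x ∈ (R : Subgroup Y).map π := h ▸ ⟨x, hx, rfl⟩
        have hz : x'⁻¹ * x ∈ N := hkerN.1 (by rw [map_mul, map_inv, he, inv_mul_cancel])
        have ord : ∀ (S : Sylow 2 Y) (a : Y), a ∈ S → a * a = 1 := by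
          intro S a ha
          obtain ⟨g, hg⟩ := MulAction.exists_smul_eq Y S P
          have : g * a * g⁻¹ ∈ V := by
            rw [← hPV, ← hg, Sylow.coe_subgroup_smul]; exact ⟨a, ha, rfl⟩
          have h2 := hVsq _ this
          rw [show g * a * g⁻¹ * (g * a * g⁻¹) = g * (a * a) * g⁻¹ by group, conj_eq_one_iff] at h2
          exact h2
        have hx2 := ord Q x hx
        have hx'2 := ord R x' hx'
        have hz1 : x'⁻¹ * x = 1 := hsqN hz (by
          have hcm : Commute x'⁻¹ (x'⁻¹ * x) := hNc _ hz x'⁻¹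
          have hcx : Commute x'⁻¹ x := by
            have := (Commute.refl x'⁻¹).inv_right.mul_right hcm
            rwa [← mul_assoc, inv_inv, mul_inv_cancel, one_mul] at this
          rw [hcx.symm.mul_mul_mul_comm, hx2, ← mul_inv_rev, hx'2, inv_one, one_mul])
        rwa [← inv_mul_eq_one.1 hz1]
      have h' : (Q : Subgroup Y).map π = (R : Subgroup Y).map π := congrArg Sylow.toSubgroup hQR
      exact le_antisymm (key Q R h') (key R Q h'.symm)
    have h5 : Nat.card (Sylow 2 (Y ⧸ N)) ≤ 5 := by rcases hsyl with e | e <;> omega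
    refine le_trans ?_ (hsy.trans h5)
    show Nat.card (Fr.E3 ⧸ H) ≤ _
    refine Nat.card_le_card_of_injective (fun q => Φ q.out) fun q q' h => ?_
    rw [← QuotientGroup.out_eq' q, ← QuotientGroup.out_eq' q']
    exact QuotientGroup.eq.2 (hΦ _ _ h)
  have hH6 : Nat.card H ≤ 6 := by
    let P3 : Finset (G × G) := ({Fr.s, Fr.s₂, Fr.s * Fr.s₂} : Finset G).offDiag
    have hval : ∀ x : H, (((x : Fr.E3) : G) * Fr.s * ((x : Fr.E3) : G)⁻¹,
        ((x : Fr.E3) : G) * Fr.s₂ * ((x : Fr.E3) : G)⁻¹) ∈ P3 := by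
      intro x
      have hn := Subgroup.mem_normalizer_iff.1 (Subgroup.mem_comap.1 x.2)
      have hin : ∀ u ∈ Av, u ≠ 1 → ((x : Fr.E3) : G) * u * ((x : Fr.E3) : G)⁻¹ ∈
          ({Fr.s, Fr.s₂, Fr.s * Fr.s₂} : Finset G) := by
        intro u hu hu1
        simp only [Finset.mem_insert, Finset.mem_singleton]
        rcases Fr.A_sq ((hn u).1 hu).1 ((hn u).1 hu).2 with e | e | e | e
        · exact absurd (conj_eq_one_iff.1 e) hu1
        · exact Or.inl e
        · exact Or.inr (Or.inl e)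
        · exact Or.inr (Or.inr e)
      exact Finset.mem_offDiag.2 ⟨hin _ hsAv hs1, hin _ hs2Av hs21,
        fun e => hss (mul_left_cancel (mul_right_cancel e))⟩
    have hinj : Function.Injective (fun x : H => (⟨_, hval x⟩ : P3)) := by
      intro x x' h
      have h1 := congrArg (fun p : P3 => (p : G × G).1) h
      have h2 := congrArg (fun p : P3 => (p : G × G).2) h
      simp only at h1 h2
      set a := ((x : Fr.E3) : G)
      set b := ((x' : Fr.E3) : G)
      have hc : ∀ u, a * u * a⁻¹ = b * u * b⁻¹ → Commute (b⁻¹ * a) u := fun u e => by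
        show _ * _ = _ * _
        calc b⁻¹ * a * u = b⁻¹ * (a * u * a⁻¹) * a := by group
          _ = b⁻¹ * (b * u * b⁻¹) * a := by rw [e]
          _ = u * (b⁻¹ * a) := by group
      have hmem : b⁻¹ * a ∈ Fr.E3 := Subgroup.mul_mem _ (Subgroup.inv_mem _ (x' : Fr.E3).2) (x : Fr.E3).2
      have hcs := hc _ h1
      have hcs2 := hc _ h2
      set d : Subgroup.centralizer ({Fr.s} : Set G) := ⟨b⁻¹ * a, Subgroup.mem_centralizer_singleton_iff.2 hcs.eq⟩
      have hd3 : Fr.E.kappa d ^ 3 = 1 := by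
        rw [← map_pow, show d ^ 3 = 1 from Subtype.ext (Fr.E3_cube hmem), map_one]
      have hd1 : Fr.E.kappa d = 1 := by
        by_contra hne
        have : Fact (Nat.Prime 3) := ⟨Nat.prime_three⟩
        have := Fr.char_three
        have hcr : Commute (prj (Fr.c ^ Fr.n)) (Fr.E.kappa d) := by
          have := (show Commute ⟨Fr.s₂, Fr.E.up_mem _⟩ d from Subtype.ext hcs2.eq.symm).map Fr.E.kappa
          rwa [show Fr.E.kappa ⟨Fr.s₂, Fr.E.up_mem _⟩ = prj (Fr.c ^ Fr.n) from Fr.E.kappa_up _] at this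
        refine not_commute_three ?_ (orderOf_eq_prime hd3 hne) hcr
        have h := Fr.orderOf_s₂
        rwa [s₂, orderOf_injective _ Fr.E.up_injective] at h
      rcases Fr.E.eq_one_or_self hcs hd1 with e | e
      · refine Subtype.ext (Subtype.ext ?_)
        exact (inv_mul_eq_one.1 e).symm
      · exfalso
        have h3' := Fr.E3_cube hmem
        rw [e, pow_succ, pow_two, Fr.s_mul_self, one_mul] at h3'
        exact hs1 h3'
    refine (Nat.card_le_card_of_injective _ hinj).trans ?_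
    rw [Nat.card_eq_finsetCard, Finset.offDiag_card]
    have h3c := Finset.card_le_three (a := Fr.s) (b := Fr.s₂) (c := Fr.s * Fr.s₂)
    interval_cases hh : ({Fr.s, Fr.s₂, Fr.s * Fr.s₂} : Finset G).card <;> norm_num
  have hH3 : Nat.card H ≤ 3 := by
    obtain ⟨k, -, hq⟩ := Fr.hq
    have hd := H.card_subgroup_dvd_card
    rw [Fr.card_E3, hq, Nat.dvd_prime_pow Nat.prime_three] at hd
    obtain ⟨j, -, hj⟩ := hd
    rw [hj] at hH6 ⊢
    rcases j with _ | _ | j
    · norm_num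
    · norm_num
    · exfalso
      have : 3 ^ 2 ≤ 3 ^ (j + 1 + 1) := Nat.pow_le_pow_right (by norm_num) (by omega)
      omega
  have := H.card_mul_index
  rw [Fr.card_E3] at this
  have hle : Nat.card H * H.index ≤ 3 * 5 := Nat.mul_le_mul hH3 hidx
  omega

end Frame

end CfsgLib.ReeType
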