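import Cfsg.Agent.Lib.ReeType.Exceptional
import Cfsg.Agent.Lib.ReeType.Moved
import Cfsg.Agent.Lib.SFour.Basic

/-!
The symmetric group of degree three is involved in every finite group of Ree type.
-/

set_option autoImplicit false
set_option linter.unusedSectionVars false

namespace CfsgLib.ReeType

open Cfsg

universe u

variable {G : Type u} [Group G] [Finite G]

/-- An involution inverting an element of order three gives a section isomorphic to `S₃`. -/
theorem not_inverted_three (h : CfsgLib.SFour.S3Free G) {t x : G} (ht : orderOf t = 2) (hx : orderOf x = 3) :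
    t * x * t⁻¹ ≠ x⁻¹ := by
  intro e
  have htt := CfsgLib.Involutions.mul_self_eq_one ht
  have hti := CfsgLib.Involutions.inv_eq_self_of_involution ht
  rw [hti] at e
  have hb : t * x * (t * x) = 1 := by
    rw [← mul_assoc, e, inv_mul_cancel]
  have hab : t * (t * x) = x := by rw [← mul_assoc, htt, one_mul]
  have h1 := h.eq_of_cube htt hb (by rw [hab, ← hx, pow_orderOf_eq_one])
  have : x = 1 := left_eq_mul.1 h1
  rw [this, orderOf_one] at hx
  omega

/-- An involution with centralizer two-part two spans a Sylow subgroup with central normalizer. -/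
theorem exists_sylow_two {L : Type*} [Group L] [Finite L] {t : L} (ht2 : orderOf t = 2)
    (hD2 : ∀ x : L, Commute x t → ∀ m : ℕ, x ^ (2 ^ m) = 1 → x = 1 ∨ x = t) :
    ∃ P : Sylow 2 L, (P : Subgroup L) = Subgroup.zpowers t ∧
      Subgroup.normalizer ((P : Subgroup L) : Set L) ≤ Subgroup.centralizer ((P : Subgroup L) : Set L) := by
  have : Fact (Nat.Prime 2) := ⟨Nat.prime_two⟩
  have hfix : ∀ g : L, g * t * g⁻¹ ∈ Subgroup.zpowers t → Commute g t := fun g h1 => by
    rcases CfsgLib.InvChar.KleinCentralizer.cases_of_mem_zpowers ht2 h1 with e | e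
    · exact absurd (conj_eq_one_iff.1 e) (CfsgLib.Involutions.ne_one_of_involution ht2)
    · exact mul_inv_eq_iff_eq_mul.1 e
  obtain ⟨P, hP⟩ := (CfsgLib.Involutions.isPGroup_two_zpowers ht2).exists_le_sylow
  have hPeq : (P : Subgroup L) = Subgroup.zpowers t := by
    refine le_antisymm ?_ hP
    by_contra hle
    have : Group.IsNilpotent (P : Subgroup L) := P.isPGroup'.isNilpotent
    have hlt : (Subgroup.zpowers t).subgroupOf (P : Subgroup L) < ⊤ :=
      lt_top_iff_ne_top.2 fun e => hle (Subgroup.subgroupOf_eq_top.1 e)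
    have := Group.normalizerCondition_of_isNilpotent (G := (P : Subgroup L)) _ hlt
    refine this.2 fun x hx => ?_
    rw [Subgroup.mem_normalizer_iff] at hx
    have h1 : (x : L) * t * (x : L)⁻¹ ∈ Subgroup.zpowers t :=
      (hx ⟨t, hP (Subgroup.mem_zpowers t)⟩).1 (Subgroup.mem_subgroupOf.2 (Subgroup.mem_zpowers t))
    obtain ⟨m, hm⟩ := P.isPGroup' x
    rw [Subgroup.mem_subgroupOf]
    rcases hD2 _ (hfix _ h1) m (congrArg Subtype.val hm) with e | e <;> rw [e]
    · exact Subgroup.one_mem _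
    · exact Subgroup.mem_zpowers t
  refine ⟨P, hPeq, fun g hg => ?_⟩
  rw [hPeq] at hg ⊢
  rw [Subgroup.mem_normalizer_iff] at hg
  rw [Subgroup.mem_centralizer_iff]
  rintro _ ⟨i, rfl⟩
  exact ((hfix g ((hg t).1 (Subgroup.mem_zpowers t))).zpow_right i).eq.symm

variable {F : Type} [Field F] [Fintype F] [DecidableEq F]

namespace Frame

variable (Fr : Frame G F)

/-- If `3` divides the index, an involution inverts an element of order three. -/
theorem exists_inverted (h3 : 3 ∣ (Subgroup.centralizer ({Fr.t₀} : Set G)).index) :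
    ∃ t x : G, orderOf t = 2 ∧ orderOf x = 3 ∧ t * x * t⁻¹ = x⁻¹ := by
  classical
  have : Fact (Nat.Prime 2) := ⟨Nat.prime_two⟩
  have : Fact (Nat.Prime 3) := ⟨Nat.prime_three⟩
  obtain ⟨k, hk, hq⟩ := Fr.hq
  set e := 2 * k + 1 with he
  have hcardE : Nat.card Fr.E3 = 3 ^ e := Fr.card_E3.trans hq
  have hdvd : 3 ^ (e + 1) ∣ Nat.card G := by
    rw [pow_succ, ← hq, Fr.card_eq]
    exact mul_dvd_mul (dvd_mul_right _ _) h3
  obtain ⟨P0, hP0, hEP⟩ := Sylow.exists_subgroup_card_pow_succ hdvd hcardE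
  have hP0N : P0 ≤ Subgroup.normalizer (Fr.E3 : Set G) := by
    have hidx : (Fr.E3.subgroupOf P0).index = 3 := by
      have h := (Fr.E3.subgroupOf P0).card_mul_index
      rw [Nat.card_congr (Subgroup.subgroupOfEquivOfLe hEP).toEquiv, hcardE, hP0] at h
      refine Nat.eq_of_mul_eq_mul_left (show 0 < 3 ^ e by positivity) ?_
      rw [h, pow_succ]
    have hnorm : (Fr.E3.subgroupOf P0).Normal := by
      refine Subgroup.normal_of_index_eq_minFac_card ?_
      rw [hidx, hP0]
      exact (Nat.prime_three.pow_minFac (by omega)).symm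
    exact Subgroup.normal_subgroupOf_iff_le_normalizer hEP |>.1 hnorm
  set C := Subgroup.centralizer (Fr.E3 : Set G) with hC
  have htC : Fr.t₀ ∈ C := Subgroup.mem_centralizer_iff.2 fun a ha => (Fr.E3_t₀ ha).eq
  have hCy : ∀ x ∈ C, Commute x Fr.y := fun x hx =>
    (Subgroup.mem_centralizer_iff.1 hx _ Fr.y_mem_E3).symm
  set t : C := ⟨Fr.t₀, htC⟩ with htdef
  have ht2 : orderOf t = 2 := by rw [htdef, Subgroup.orderOf_mk, Fr.orderOf_t₀]
  have hD2 : ∀ x : C, Commute x t → ∀ m : ℕ, x ^ (2 ^ m) = 1 → x = 1 ∨ x = t := by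
    intro x hx m hm
    have hm' : (x : G) ^ (2 ^ m) = 1 := congrArg Subtype.val hm
    obtain ⟨a, ha, e' | e'⟩ :=
      Fr.cases_of_commute (congrArg Subtype.val hx) (hCy x x.2)
    all_goals have hcop : Nat.Coprime 3 (2 ^ m) := Nat.Coprime.pow_right m (by norm_num)
    · left
      refine Subtype.ext ?_
      rw [e'] at hm'
      rw [e', OneMemClass.coe_one, ← orderOf_eq_one_iff]
      exact Nat.eq_one_of_dvd_coprimes hcop (orderOf_dvd_of_pow_eq_one (Fr.E3_cube ha))
        (orderOf_dvd_of_pow_eq_one hm')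
    · right
      refine Subtype.ext ?_
      rcases m with _ | m
      · exfalso
        rw [pow_zero, pow_one, e', mul_eq_one_iff_eq_inv] at hm'
        have h1 := Fr.E3_cube (Subgroup.inv_mem _ ha)
        rw [← hm', pow_succ, pow_two, CfsgLib.Involutions.mul_self_eq_one Fr.orderOf_t₀, one_mul] at h1
        exact CfsgLib.Involutions.ne_one_of_involution Fr.orderOf_t₀ h1
      · rw [e', (Fr.E3_t₀ ha).symm.mul_pow, pow_succ', pow_mul, pow_two,
          CfsgLib.Involutions.mul_self_eq_one Fr.orderOf_t₀, one_pow, one_mul, ← pow_succ'] at hm'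
        have : a = 1 := orderOf_eq_one_iff.1 (Nat.eq_one_of_dvd_coprimes hcop
          (orderOf_dvd_of_pow_eq_one (Fr.E3_cube ha)) (orderOf_dvd_of_pow_eq_one hm'))
        rw [e', this, mul_one]
  obtain ⟨P2, hP2, hP2n⟩ := exists_sylow_two ht2 hD2
  -- involutions of `C` are conjugate in `C`
  have hconj : ∀ u : C, orderOf u = 2 → ∃ d : C, d * t * d⁻¹ = u := by
    intro u hu
    obtain ⟨Q, hQ⟩ := (CfsgLib.Involutions.isPGroup_two_zpowers hu).exists_le_sylow
    obtain ⟨d, hd⟩ := MulAction.exists_smul_eq C P2 Q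
    have hmem : u ∈ (Q : Subgroup C) := hQ (Subgroup.mem_zpowers u)
    rw [← hd, Sylow.coe_subgroup_smul] at hmem
    obtain ⟨a, ha, rfl⟩ := hmem
    refine ⟨d, ?_⟩
    rcases CfsgLib.InvChar.KleinCentralizer.cases_of_mem_zpowers ht2 (hP2 ▸ ha) with h | h
    · exfalso
      rw [h] at hu
      simp at hu
    · rw [h]; rfl
  -- `P0` centralizes `E3`
  have hP0C : P0 ≤ C := by
    intro g hg
    have hgN := hP0N hg
    have hu : g * Fr.t₀ * g⁻¹ ∈ C := Subgroup.mem_centralizer_iff.2 fun a ha => by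
      have ha' : g⁻¹ * a * g ∈ Fr.E3 := (Subgroup.mem_normalizer_iff''.1 hgN a).1 ha
      calc a * (g * Fr.t₀ * g⁻¹) = g * ((g⁻¹ * a * g) * Fr.t₀) * g⁻¹ := by group
        _ = g * (Fr.t₀ * (g⁻¹ * a * g)) * g⁻¹ := by rw [(Fr.E3_t₀ ha').eq]
        _ = _ := by group
    obtain ⟨⟨d, hdC⟩, hd⟩ := hconj ⟨g * Fr.t₀ * g⁻¹, hu⟩
      (by rw [Subgroup.orderOf_mk, CfsgLib.Involutions.orderOf_conj_eq, Fr.orderOf_t₀])
    have hd' : d * Fr.t₀ * d⁻¹ = g * Fr.t₀ * g⁻¹ := congrArg Subtype.val hd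
    set hh := d⁻¹ * g with hhdef
    have hdN : d ∈ Subgroup.normalizer (Fr.E3 : Set G) := Subgroup.centralizer_le_normalizer _ hdC
    have hhN : hh ∈ Subgroup.normalizer (Fr.E3 : Set G) := Subgroup.mul_mem _ (Subgroup.inv_mem _ hdN) hgN
    set Ct := Subgroup.centralizer ({Fr.t₀} : Set G) with hCt
    have hhC : hh ∈ Ct := Subgroup.mem_centralizer_singleton_iff.2 (by
      rw [hhdef]
      calc d⁻¹ * g * Fr.t₀ = d⁻¹ * (g * Fr.t₀ * g⁻¹) * g := by group
        _ = d⁻¹ * (d * Fr.t₀ * d⁻¹) * g := by rw [hd']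
        _ = Fr.t₀ * (d⁻¹ * g) := by group)
    set N := Subgroup.normalizer (Fr.E3 : Set G) ⊓ Ct with hN
    set m := (Fintype.card F - 1) * (Fintype.card F + 1) with hm
    have hm3 : Nat.Coprime 3 m := by
      rw [Nat.prime_three.coprime_iff_not_dvd, hm, Nat.prime_three.dvd_mul]
      have h0 : Fintype.card F % 3 = 0 := by rw [hq, pow_succ]; exact Nat.mul_mod_left _ _
      have : 0 < Fintype.card F := Fintype.card_pos
      omega
    have hEN : Fr.E3 ≤ N := fun a ha =>
      ⟨Subgroup.le_normalizer ha, Subgroup.mem_centralizer_singleton_iff.2 (Fr.E3_t₀ ha).eq⟩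
    have hnE : (Fr.E3.subgroupOf N).Normal :=
      (Subgroup.normal_subgroupOf_iff_le_normalizer hEN).2 inf_le_left
    have hpow : hh ^ m ∈ Fr.E3 := by
      have hdvd : (Fr.E3.subgroupOf N).index ∣ m := by
        refine Nat.dvd_of_mul_dvd_mul_left (Fintype.card_pos (α := F)) ?_
        have h1 := (Fr.E3.subgroupOf N).card_mul_index
        rw [Nat.card_congr (Subgroup.subgroupOfEquivOfLe hEN).toEquiv, Fr.card_E3] at h1
        rw [h1, hm, ← Fr.E₀.card_cent_eq Fr.two_ne']
        exact Subgroup.card_dvd_of_le inf_le_right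
      obtain ⟨j, hj⟩ := hdvd
      have := (Fr.E3.subgroupOf N).pow_index_mem ⟨hh, hhN, hhC⟩
      have h2 := Subgroup.pow_mem _ this j
      rw [← pow_mul, ← hj] at h2
      exact Subgroup.mem_subgroupOf.1 h2
    have hsub : (C.subgroupOf (Subgroup.normalizer (Fr.E3 : Set G))).Normal := by
      infer_instance
    let π := QuotientGroup.mk' (C.subgroupOf (Subgroup.normalizer (Fr.E3 : Set G)))
    have hgπ : π ⟨g, hgN⟩ = π ⟨hh, hhN⟩ := by
      rw [show (⟨g, hgN⟩ : Subgroup.normalizer (Fr.E3 : Set G)) = ⟨d, hdN⟩ * ⟨hh, hhN⟩ from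
        Subtype.ext (by show g = d * hh; rw [hhdef, mul_inv_cancel_left]), map_mul,
        show π ⟨d, hdN⟩ = 1 from (QuotientGroup.eq_one_iff _).2 (Subgroup.mem_subgroupOf.2 hdC), one_mul]
    have h1 : π ⟨g, hgN⟩ ^ m = 1 := by
      rw [hgπ, ← map_pow]
      exact (QuotientGroup.eq_one_iff _).2 (Subgroup.mem_subgroupOf.2
        (show hh ^ m ∈ C from Subgroup.mem_centralizer_iff.2 fun a ha => (Fr.E3_comm ha hpow).eq))
    have h2 : π ⟨g, hgN⟩ ^ 3 ^ (e + 1) = 1 := by
      rw [← map_pow, show (⟨g, hgN⟩ : Subgroup.normalizer (Fr.E3 : Set G)) ^ 3 ^ (e + 1) = 1 from Subtype.ext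
        (show g ^ 3 ^ (e + 1) = 1 from congrArg Subtype.val
          (show (⟨g, hg⟩ : P0) ^ 3 ^ (e + 1) = 1 by rw [← hP0]; exact pow_card_eq_one')),
        map_one]
    have h3 := Nat.eq_one_of_dvd_coprimes ((hm3.pow_left (e + 1))) (orderOf_dvd_of_pow_eq_one h2)
      (orderOf_dvd_of_pow_eq_one h1)
    exact Subgroup.mem_subgroupOf.1 ((QuotientGroup.eq_one_iff _).1 (orderOf_eq_one_iff.1 h3))
  -- the normal 2-complement and a Sylow 3-subgroup normalized by an involution
  set O := (MonoidHom.transferSylow P2 hP2n).ker with hO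
  have hcompl := MonoidHom.ker_transferSylow_isComplement' P2 hP2n
  have hP2c : Nat.card (P2 : Subgroup C) = 2 := by rw [hP2, Nat.card_zpowers, ht2]
  have hcardC : Nat.card O * 2 = Nat.card C := by
    rw [← hcompl.card_mul_card, hP2c]
  have hO3 : 3 ^ (e + 1) ∣ Nat.card O := by
    refine (Nat.Coprime.pow_left (e + 1) (by norm_num : Nat.Coprime 3 2)).dvd_of_dvd_mul_right ?_
    rw [hcardC, ← hP0]
    exact Subgroup.card_dvd_of_le hP0C
  obtain ⟨P⟩ : Nonempty (Sylow 3 O) := inferInstance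
  have hPcard : 3 ^ (e + 1) ∣ Nat.card (P : Subgroup O) := P.pow_dvd_card_of_pow_dvd_card hO3
  set P' := (P : Subgroup O).map O.subtype with hP'
  have hfr : Subgroup.normalizer (P' : Set C) ⊔ O = ⊤ := Sylow.normalizer_sup_eq_top P
  obtain ⟨g, hgn, hgO⟩ : ∃ g ∈ Subgroup.normalizer (P' : Set C), g ∉ O := by
    by_contra hcon
    push Not at hcon
    have : O = ⊤ := by rw [← hfr, sup_eq_right.2 hcon]
    rw [this, Subgroup.card_top] at hcardC
    have := Nat.card_pos (α := C)
    omega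
  obtain ⟨u, hun, hu2⟩ : ∃ u ∈ Subgroup.normalizer (P' : Set C), orderOf u = 2 := by
    have hev : 2 ∣ Nat.card (Subgroup.normalizer (P' : Set C)) := by
      by_contra hodd
      refine hgO (mem_ker_of_coprime _ (k := Nat.card (Subgroup.normalizer (P' : Set C))) ?_ ?_)
      · exact congrArg Subtype.val (pow_card_eq_one' (x := (⟨g, hgn⟩ : Subgroup.normalizer (P' : Set C))))
      · rw [hP2c]
        exact Nat.coprime_comm.1 ((Nat.prime_two.coprime_iff_not_dvd).2 hodd)
    obtain ⟨⟨u, hun⟩, hu⟩ := exists_prime_orderOf_dvd_card'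
      (G := Subgroup.normalizer (P' : Set C)) 2 hev
    exact ⟨u, hun, by rwa [Subgroup.orderOf_mk] at hu⟩
  have hu2' : orderOf (u : G) = 2 := by rw [Subgroup.orderOf_coe, hu2]
  -- `u` does not centralize `P'`
  obtain ⟨x, hx, hxu⟩ : ∃ x ∈ P', ¬ Commute x u := by
    by_contra hcon
    push Not at hcon
    obtain ⟨d, hd⟩ := hconj u hu2
    let T : Subgroup C := P'.map (MulAut.conj d⁻¹).toMonoidHom
    have hT : T.map C.subtype ≤ Subgroup.centralizer ({Fr.t₀} : Set G) := by
      rintro _ ⟨_, ⟨z, hz, rfl⟩, rfl⟩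
      refine Subgroup.mem_centralizer_singleton_iff.2 ?_
      have hc := hcon z hz
      rw [← hd] at hc
      have : Commute (d⁻¹ * z * d) t := by
        show _ * _ = _ * _
        calc d⁻¹ * z * d * t = d⁻¹ * (z * (d * t * d⁻¹)) * d := by group
          _ = d⁻¹ * ((d * t * d⁻¹) * z) * d := by rw [hc.eq]
          _ = t * (d⁻¹ * z * d) := by group
      show ((d⁻¹ * z * d⁻¹⁻¹ : C) : G) * Fr.t₀ = Fr.t₀ * ((d⁻¹ * z * d⁻¹⁻¹ : C) : G)
      rw [inv_inv]
      exact congrArg Subtype.val this.eq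
    have hcT : Nat.card (T.map C.subtype) = Nat.card (P : Subgroup O) := by
      rw [Subgroup.card_map_of_injective C.subtype_injective,
        Subgroup.card_map_of_injective (MulAut.conj d⁻¹).injective, hP',
        Subgroup.card_map_of_injective O.subtype_injective]
    have h1 : 3 ^ (e + 1) ∣ Fintype.card F * ((Fintype.card F - 1) * (Fintype.card F + 1)) := by
      rw [← Fr.E₀.card_cent_eq Fr.two_ne']
      exact (hcT ▸ hPcard).trans (Subgroup.card_dvd_of_le hT)
    have h0 : Fintype.card F % 3 = 0 := by rw [hq, pow_succ]; exact Nat.mul_mod_left _ _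
    rw [pow_succ, ← hq] at h1
    have h2 := Nat.dvd_of_mul_dvd_mul_left Fintype.card_pos h1
    have := Fintype.card_pos (α := F)
    rcases Nat.prime_three.dvd_mul.1 h2 with h | h <;> omega
  set v := x⁻¹ * (u * x * u⁻¹) with hv
  have hvP : v ∈ P' := P'.mul_mem (P'.inv_mem hx) ((Subgroup.mem_normalizer_iff.1 hun x).1 hx)
  have hv1 : v ≠ 1 := fun h => hxu (by
    rw [hv, inv_mul_eq_one] at h
    exact (mul_inv_eq_iff_eq_mul.1 h.symm).symm)
  have hui := CfsgLib.Involutions.inv_eq_self_of_involution hu2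
  have huv : u * v * u⁻¹ = v⁻¹ := by
    have huu := CfsgLib.Involutions.mul_self_eq_one hu2
    rw [hv, hui, mul_inv_rev, inv_inv, mul_inv_rev, mul_inv_rev, hui]
    calc u * (x⁻¹ * (u * x * u)) * u = u * x⁻¹ * u * x * (u * u) := by group
      _ = u * (x⁻¹ * u) * x := by rw [huu]; group
  obtain ⟨j, hj⟩ : ∃ j, orderOf v = 3 ^ (j + 1) := by
    obtain ⟨z, hz, hzv⟩ := hvP
    obtain ⟨j, hj⟩ := IsPGroup.iff_orderOf.1 P.isPGroup' ⟨z, hz⟩
    rw [Subgroup.orderOf_mk, ← Subgroup.orderOf_coe, show ((z : O) : C) = v from hzv] at hj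
    rcases j with _ | j
    · exact absurd (orderOf_eq_one_iff.1 (hj.trans (pow_zero 3))) hv1
    · exact ⟨j, hj⟩
  refine ⟨u, ((v ^ 3 ^ j : C) : G), hu2', ?_, ?_⟩
  · rw [Subgroup.orderOf_coe, orderOf_pow' _ (pow_ne_zero _ (by norm_num)), hj, pow_succ,
      Nat.gcd_eq_right (dvd_mul_right _ _), Nat.mul_div_cancel_left _ (pow_pos (by norm_num) _)]
  · have h := congrArg Subtype.val (CfsgLib.Involutions.inverts_pow huv (3 ^ j))
    simpa using h

end Frame

/-- Every finite group of Ree type involves `S₃`. -/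
theorem involves_three (hG : IsReeType G) : Cfsg.Involves (Equiv.Perm (Fin 3)) G := by
  classical
  by_contra hfree
  obtain ⟨F, iF, iFT, iD, iC, ⟨Fr⟩⟩ := exists_frame hG
  have h3 : ¬ 3 ∣ (Subgroup.centralizer ({Fr.t₀} : Set G)).index := fun h => by
    obtain ⟨t, x, ht, hx, e⟩ := Fr.exists_inverted h
    exact not_inverted_three hfree ht hx e
  have : Fintype G := Fintype.ofFinite G
  have := Fr.char_three
  obtain ⟨h4, h27, -, -⟩ := Fr.card_facts
  have T : Cyc Fr.E Fr.c Fr.n Fr.A Fr.y :=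
    ⟨Fr.hAC, Fr.hA, Fr.y_cube, Fr.y_norm, Fr.y_s, Fr.y_s2, Fr.moved h3, by omega⟩
  obtain ⟨U, W, a₀, a₁, hUW, hU, hW, h0, h1⟩ := T.exists_pair Fr.data
  have hclass := three_dvd_class_card Fr.E.orderOf_s Fr.y_cube
    (fun a b ha hay hb hby hab => by
      obtain ⟨Ea⟩ := Fr.E.exists_of_isConj ha
      have : Fact (Nat.Prime 3) := ⟨Nat.prime_three⟩
      set b' : Subgroup.centralizer ({a} : Set G) := ⟨b, Subgroup.mem_centralizer_singleton_iff.2 hab.symm.eq⟩
      set y' : Subgroup.centralizer ({a} : Set G) := ⟨Fr.y, Subgroup.mem_centralizer_singleton_iff.2 hay.symm.eq⟩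
      have hb2 : Ea.kappa b' ^ 2 = 1 := by
        rw [← map_pow, show b' ^ 2 = 1 from Subtype.ext (by
          rw [Subgroup.coe_pow, ← hb, pow_orderOf_eq_one]; rfl), map_one]
      by_cases hkb : Ea.kappa b' = 1
      · rcases Ea.eq_one_or_self hab.symm hkb with e | e
        · exact absurd e (CfsgLib.Involutions.ne_one_of_involution hb)
        · exact e.symm
      · exfalso
        have hy1 : Ea.kappa y' ≠ 1 := fun e => by
          rcases Ea.eq_one_or_self hay.symm e with e' | e' <;> have h := Fr.y_three <;> rw [e'] at h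
          · simp at h
          · rw [Ea.orderOf_s] at h; omega
        exact not_commute_three (orderOf_eq_prime hb2 hkb)
          (orderOf_eq_prime (by rw [← map_pow, show y' ^ 3 = 1 from Subtype.ext Fr.y_cube, map_one]) hy1)
          ((show Commute b' y' from Subtype.ext hby.eq).map Ea.kappa))
    U W hUW hU hW h0 h1
  refine h3 ?_
  rw [CfsgLib.Characters.card_isConj_eq_index Fr.s] at hclass
  have h1' := (Subgroup.centralizer ({Fr.s} : Set G)).card_mul_index
  rw [← (Subgroup.centralizer ({Fr.t₀} : Set G)).card_mul_index,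
    ← CfsgLib.PSL2.card_centralizer_conj Fr.conj] at h1'
  rwa [← Nat.eq_of_mul_eq_mul_left Nat.card_pos h1']

end CfsgLib.ReeType
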