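import Cfsg.Agent.Lib.ReeType.Setup

/-!
Elementary consequences of a local frame.
-/

set_option autoImplicit false
set_option linter.unusedSectionVars false

namespace CfsgLib.ReeType

open Matrix Cfsg
open CfsgLib.SL2Char

universe u

variable {G : Type u} [Group G]
variable {F : Type} [Field F] [Fintype F] [DecidableEq F]

namespace CentData

variable {s : G} (E : CentData s F)

/-- The complement of `s` in its centralizer. -/
noncomputable def up : Matrix.ProjectiveSpecialLinearGroup (Fin 2) F →* G :=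
  (Subgroup.centralizer ({s} : Set G)).subtype.comp (E.e.symm.toMonoidHom.comp (MonoidHom.inr _ _))

theorem up_injective : Function.Injective E.up := fun a b e => by
  have := E.e.symm.injective (Subtype.ext e)
  exact (Prod.ext_iff.1 this).2

theorem up_commute (a : Matrix.ProjectiveSpecialLinearGroup (Fin 2) F) : Commute (E.up a) s :=
  Subgroup.mem_centralizer_singleton_iff.1 (E.e.symm (1, a)).2

theorem up_mem (a : Matrix.ProjectiveSpecialLinearGroup (Fin 2) F) :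
    E.up a ∈ Subgroup.centralizer ({s} : Set G) := (E.e.symm (1, a)).2

theorem kappa_up (a : Matrix.ProjectiveSpecialLinearGroup (Fin 2) F) :
    E.kappa ⟨E.up a, E.up_mem a⟩ = a := by
  show (E.e (E.e.symm (1, a))).2 = a
  rw [E.e.apply_symm_apply]

theorem elt_cases (x : Subgroup.centralizer ({s} : Set G)) :
    (x : G) = E.up (E.kappa x) ∨ (x : G) = s * E.up (E.kappa x) := by
  rcases E.sgn_cases x with ⟨h, -⟩ | ⟨h, -⟩
  · left
    show (x : G) = ((E.e.symm (1, (E.e x).2)) : G)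
    rw [← h, Prod.mk.eta, E.e.symm_apply_apply]
  · right
    show (x : G) = s * ((E.e.symm (1, (E.e x).2)) : G)
    have hs : ((E.e.symm (Multiplicative.ofAdd 1, 1)) : G) = s := by
      rw [← E.he, E.e.symm_apply_apply]
    conv_rhs => arg 1; rw [← hs]
    rw [← Subgroup.coe_mul, ← map_mul, Prod.mk_mul_mk, mul_one, one_mul, ← h, Prod.mk.eta,
      E.e.symm_apply_apply]

theorem eq_one_or_self {x : G} (hx : Commute x s)
    (hk : E.kappa ⟨x, Subgroup.mem_centralizer_singleton_iff.2 hx.eq⟩ = 1) : x = 1 ∨ x = s := by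
  rcases E.elt_cases ⟨x, Subgroup.mem_centralizer_singleton_iff.2 hx.eq⟩ with e | e <;>
    rw [hk, map_one] at e
  · exact Or.inl e
  · exact Or.inr (e.trans (mul_one s))

theorem commute_of_kappa {x x' : Subgroup.centralizer ({s} : Set G)}
    (h : Commute (E.kappa x) (E.kappa x')) : Commute (x : G) (x' : G) := by
  have h1 : Commute (E.e x) (E.e x') := Prod.ext (mul_comm _ _) h.eq
  have := h1.map E.e.symm.toMonoidHom
  simp only [MulEquiv.coe_toMonoidHom, E.e.symm_apply_apply] at this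
  exact congrArg Subtype.val this

theorem card_cent_eq (E : CentData s F) (h20 : (2 : F) ≠ 0) [Finite G] :
    Nat.card (Subgroup.centralizer ({s} : Set G)) =
      Fintype.card F * ((Fintype.card F - 1) * (Fintype.card F + 1)) := by
  classical
  have : Fintype G := Fintype.ofFinite G
  have : Fintype (Matrix.ProjectiveSpecialLinearGroup (Fin 2) F) := Fintype.ofFinite _
  rw [← CfsgLib.Schur.natCard_slTwo (F := F)]
  exact_mod_cast ((CentData.card_cent E).trans (card_sl_eq h20).symm)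

end CentData

namespace Frame

variable (Fr : Frame G F)

theorem char_three (Fr : Frame G F) : CharP F 3 := Fr.data.three

theorem two_ne' (Fr : Frame G F) : (2 : F) ≠ 0 := two_ne Fr.data

theorem card_facts :
    4 * Fr.n = Fintype.card F + 1 ∧ 27 ≤ Fintype.card F ∧ Odd Fr.n ∧ Nat.Coprime Fr.n 60 := by
  obtain ⟨k, hk, hq⟩ := Fr.hq
  have h1 := Fr.data.ds.card_eq
  have h2 := Fr.data.h_eq
  have h27 : 27 ≤ 3 ^ (2 * k + 1) :=
    le_trans (by norm_num) (Nat.pow_le_pow_right (by norm_num) (show 3 ≤ 2 * k + 1 by omega))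
  have h5 : ∀ j : ℕ, 3 ^ (2 * j + 1) % 5 = 3 ∨ 3 ^ (2 * j + 1) % 5 = 2 := by
    intro j
    induction j with
    | zero => left; rfl
    | succ j ih => rw [show 2 * (j + 1) + 1 = 2 * j + 1 + 2 by ring, pow_add]; omega
  have h3 : 3 ^ (2 * k + 1) % 3 = 0 := by rw [pow_succ]; exact Nat.mul_mod_left _ _
  refine ⟨by omega, by omega, Fr.data.n_odd, ?_⟩
  have c4 : Nat.Coprime Fr.n 4 := by
    rw [show (4 : ℕ) = 2 ^ 2 by norm_num]
    exact Nat.Coprime.pow_right 2 (Nat.coprime_two_right.2 Fr.data.n_odd)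
  have c3 : Nat.Coprime Fr.n 3 := Nat.coprime_comm.1 ((Nat.prime_three.coprime_iff_not_dvd).2 (by omega))
  have c5 : Nat.Coprime Fr.n 5 :=
    Nat.coprime_comm.1 ((Nat.prime_five.coprime_iff_not_dvd).2 (by have := h5 k; omega))
  rw [show (60 : ℕ) = 4 * 3 * 5 by norm_num]
  exact (c4.mul_right c3).mul_right c5

/-- The second involution. -/
noncomputable def s₂ : G := Fr.E.up (prj (Fr.c ^ Fr.n))

theorem s₂_def : Fr.s₂ = ((Fr.E.e.symm (1, prj (Fr.c ^ Fr.n))) : G) := rfl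

/-- The generator of the odd part of the torus. -/
noncomputable def w : G := Fr.E.up (prj Fr.c ^ 2)

theorem up_mem_A {a} (ha : a ∈ Subgroup.zpowers (prj Fr.c)) : Fr.E.up a ∈ Fr.A :=
  (Fr.hA ⟨_, Fr.E.up_mem a⟩).2 (by rwa [Fr.E.kappa_up])

theorem s_mem_A : Fr.s ∈ Fr.A :=
  (Fr.hA ⟨Fr.s, Subgroup.mem_centralizer_singleton_iff.2 rfl⟩).2
    (by rw [Fr.E.kappa_self]; exact Subgroup.one_mem _)

theorem s₂_mem_A : Fr.s₂ ∈ Fr.A := Fr.up_mem_A (by rw [map_pow]; exact Subgroup.npow_mem_zpowers _ _)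

theorem w_mem_A : Fr.w ∈ Fr.A := Fr.up_mem_A (Subgroup.npow_mem_zpowers _ _)

theorem w_pow : Fr.w ^ Fr.n = 1 := by
  rw [w, ← map_pow, ← pow_mul, ← Fr.ord_c, pow_orderOf_eq_one, map_one]

theorem orderOf_s₂ : orderOf Fr.s₂ = 2 := by
  rw [s₂, orderOf_injective _ Fr.E.up_injective, map_pow,
    orderOf_pow' _ Fr.data.n_odd.pos.ne', Fr.ord_c, Nat.gcd_eq_right (dvd_mul_left _ 2),
    Nat.mul_div_cancel _ Fr.data.n_odd.pos]

theorem orderOf_t₀ : orderOf Fr.t₀ = 2 := Fr.E₀.orderOf_s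

theorem A_comm {a b : G} (ha : a ∈ Fr.A) (hb : b ∈ Fr.A) : Commute a b := by
  obtain ⟨i, hi⟩ := Subgroup.mem_zpowers_iff.1 ((Fr.hA ⟨a, Fr.hAC ha⟩).1 ha)
  obtain ⟨j, hj⟩ := Subgroup.mem_zpowers_iff.1 ((Fr.hA ⟨b, Fr.hAC hb⟩).1 hb)
  exact Fr.E.commute_of_kappa (x := ⟨a, Fr.hAC ha⟩) (x' := ⟨b, Fr.hAC hb⟩)
    (hi ▸ hj ▸ (Commute.refl _).zpow_zpow i j)

theorem s_mul_self : Fr.s * Fr.s = 1 := CfsgLib.Involutions.mul_self_eq_one Fr.E.orderOf_s

/-- The involutions of the torus. -/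
theorem A_sq {a : G} (ha : a ∈ Fr.A) (h2 : a * a = 1) :
    a = 1 ∨ a = Fr.s ∨ a = Fr.s₂ ∨ a = Fr.s * Fr.s₂ := by
  set z : Subgroup.centralizer ({Fr.s} : Set G) := ⟨a, Fr.hAC ha⟩
  obtain ⟨i, hi⟩ := Subgroup.mem_zpowers_iff.1 ((Fr.hA z).1 ha)
  have hz2 : Fr.E.kappa z ^ 2 = 1 := by
    rw [← map_pow, show z ^ 2 = 1 from Subtype.ext (by rw [Subgroup.coe_pow, pow_two]; exact h2), map_one]
  have hk : Fr.E.kappa z = 1 ∨ Fr.E.kappa z = prj (Fr.c ^ Fr.n) := by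
    rw [← hi, ← zpow_natCast, ← _root_.zpow_mul, ← orderOf_dvd_iff_zpow_eq_one, Fr.ord_c] at hz2
    obtain ⟨j, hj⟩ : (Fr.n : ℤ) ∣ i := by
      obtain ⟨j, hj⟩ := hz2
      exact ⟨j, by push_cast at hj; linarith⟩
    have hfn : (prj Fr.c ^ Fr.n) ^ (2 : ℤ) = 1 := by
      rw [show (2 : ℤ) = ((2 : ℕ) : ℤ) from rfl, zpow_natCast, ← pow_mul, mul_comm, ← Fr.ord_c,
        pow_orderOf_eq_one]
    rw [← hi, hj, _root_.zpow_mul, zpow_natCast, map_pow]
    rcases Int.even_or_odd j with ⟨m, hm⟩ | ⟨m, hm⟩ <;> subst hm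
    · left
      rw [← two_mul, _root_.zpow_mul, hfn, _root_.one_zpow]
    · right
      rw [_root_.zpow_add, zpow_one, _root_.zpow_mul, hfn, _root_.one_zpow, one_mul]
  rcases Fr.E.elt_cases z with e | e <;> rcases hk with hk | hk <;> rw [hk] at e
  · exact Or.inl (e.trans (map_one _))
  · exact Or.inr (Or.inr (Or.inl e))
  · exact Or.inr (Or.inl (e.trans (by rw [map_one, mul_one])))
  · exact Or.inr (Or.inr (Or.inr e))

theorem A_pow {a : G} (ha : a ∈ Fr.A) : a ^ 2 ∈ Subgroup.zpowers Fr.w ∧ (a ^ Fr.n) * (a ^ Fr.n) = 1 := by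
  set z : Subgroup.centralizer ({Fr.s} : Set G) := ⟨a, Fr.hAC ha⟩
  obtain ⟨i, hi⟩ := Subgroup.mem_zpowers_iff.1 ((Fr.hA z).1 ha)
  have hs : Commute Fr.s (Fr.E.up (Fr.E.kappa z)) := (Fr.E.up_commute _).symm
  have h2 : a ^ 2 = Fr.w ^ i := by
    have e2 : Fr.E.up (Fr.E.kappa z) ^ 2 = Fr.w ^ i := by
      rw [← hi, w, ← map_pow Fr.E.up, ← map_zpow Fr.E.up, ← zpow_natCast, ← _root_.zpow_mul, ← zpow_natCast _ 2,
        ← _root_.zpow_mul, mul_comm]
    rcases Fr.E.elt_cases z with e | e <;> rw [show a = (z : G) from rfl, e]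
    · exact e2
    · rw [hs.mul_pow, e2, pow_two Fr.s, Fr.s_mul_self, one_mul]
  refine ⟨h2 ▸ Subgroup.zpow_mem_zpowers _ _, ?_⟩
  rw [← pow_add, ← two_mul, pow_mul, h2, ← zpow_natCast, ← _root_.zpow_mul, mul_comm,
    _root_.zpow_mul, zpow_natCast, Fr.w_pow, _root_.one_zpow]

/-- The centralizer in `C(s)` of the odd part of the torus. -/
theorem mem_A_of_commute {x : G} (hxs : Commute x Fr.s) (hxw : Commute x Fr.w) : x ∈ Fr.A := by
  set z : Subgroup.centralizer ({Fr.s} : Set G) := ⟨x, Subgroup.mem_centralizer_singleton_iff.2 hxs.eq⟩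
  refine (Fr.hA z).2 ?_
  by_contra hn
  set f := prj Fr.c with hf
  obtain ⟨h4, h27, hodd, -⟩ := Fr.card_facts
  have hzf2 : Commute (Fr.E.kappa z) (f ^ 2) := by
    have := (show Commute z ⟨Fr.w, Fr.E.up_mem _⟩ from Subtype.ext hxw.eq).map Fr.E.kappa
    rwa [show Fr.E.kappa ⟨Fr.w, Fr.E.up_mem _⟩ = f ^ 2 from Fr.E.kappa_up _] at this
  have hf2 : f ^ 2 ≠ 1 := fun e => by
    have := orderOf_le_of_pow_eq_one (by norm_num) e
    rw [Fr.ord_c] at this
    omega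
  have hcr := Fr.torus_cent _ (Subgroup.npow_mem_zpowers _ _) hf2 _ hzf2.symm
  obtain ⟨m, hm⟩ := hodd
  have hzf : Commute (Fr.E.kappa z) f := by
    have : f = f ^ Fr.n * ((f ^ 2) ^ m)⁻¹ := by
      rw [eq_mul_inv_iff_mul_eq, ← pow_mul, ← pow_succ', hm]
    rw [this]
    refine Commute.mul_right ?_ (hzf2.pow_right m).inv_right
    rw [hf, ← map_pow]; exact hcr.symm
  have hrf : Commute (prj (Fr.c ^ Fr.n)) f := by rw [map_pow]; exact (Commute.refl f).pow_left _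
  have h1 := Fr.torus_out _ hcr hn
  have h2 := Fr.torus_out (Fr.E.kappa z * f) (hcr.mul_right hrf) (fun e => hn (by
    have := Subgroup.mul_mem _ e (Subgroup.inv_mem _ (Subgroup.mem_zpowers f))
    rwa [mul_inv_cancel_right] at this))
  rw [hzf.symm.mul_mul_mul_comm, h1, one_mul] at h2
  exact hf2 (by rw [pow_two]; exact h2)

theorem y_cube : Fr.y ^ 3 = 1 := by rw [← Fr.y_three, pow_orderOf_eq_one]

theorem y_norm' {a : G} (ha : a ∈ Fr.A) : Fr.y * a * Fr.y⁻¹ ∈ Fr.A := by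
  have h := Fr.y_norm _ (Fr.y_norm _ ha)
  have e : Fr.y⁻¹ * (Fr.y⁻¹ * a * Fr.y) * Fr.y = Fr.y * ((Fr.y ^ 3)⁻¹ * a * Fr.y ^ 3) * Fr.y⁻¹ := by
    rw [pow_succ, pow_two]; group
  rwa [e, Fr.y_cube, inv_one, one_mul, mul_one] at h

theorem y_s₁₂ : Fr.y⁻¹ * (Fr.s * Fr.s₂) * Fr.y = Fr.s₂ := by
  rw [show Fr.y⁻¹ * (Fr.s * Fr.s₂) * Fr.y = (Fr.y⁻¹ * Fr.s * Fr.y) * (Fr.y⁻¹ * Fr.s₂ * Fr.y) by group,
    Fr.y_s, show Fr.y⁻¹ * Fr.s₂ * Fr.y = Fr.s from Fr.y_s2, ← Fr.s₂_def]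
  rw [(Fr.A_comm Fr.s_mem_A Fr.s₂_mem_A).eq, mul_assoc, Fr.s_mul_self, mul_one]

/-- An element of `C(t₀)` with trivial sign. -/
theorem kappa_y : orderOf (Fr.E₀.kappa ⟨Fr.y, Subgroup.mem_centralizer_singleton_iff.2 Fr.y_comm.eq⟩) = 3 := by
  have : Fact (Nat.Prime 3) := ⟨Nat.prime_three⟩
  refine orderOf_eq_prime ?_ fun e => ?_
  · rw [← map_pow, show (⟨Fr.y, _⟩ : Subgroup.centralizer ({Fr.t₀} : Set G)) ^ 3 = 1 from
      Subtype.ext Fr.y_cube, map_one]
  · rcases Fr.E₀.eq_one_or_self Fr.y_comm e with h | h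
    · have := Fr.y_three; rw [h, orderOf_one] at this; norm_num at this
    · have := Fr.y_three; rw [h, Fr.orderOf_t₀] at this; norm_num at this

end Frame

end CfsgLib.ReeType
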