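import Cfsg.Agent.Lib.BSW.ClassSum
import Cfsg.Agent.Lib.Characters.Values

/-!
Two characters agreeing on the elements of odd order, and a congruence modulo three for the number
of conjugates of an involution.
-/

set_option autoImplicit false
set_option linter.unusedSectionVars false

namespace CfsgLib.ReeType

open Cfsg CfsgLib.Characters

universe u

/-- A sum over a fixed-point free set for a map of order three. -/
theorem sum_orbit_three {α : Type*} [DecidableEq α] (σ : α → α) (h3 : ∀ a, σ (σ (σ a)) = a)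
    (f : α → ℂ) (hf : ∀ a, f (σ a) = f a) (hint : ∀ a, IsIntegral ℤ (f a)) :
    ∀ S : Finset α, (∀ a ∈ S, σ a ∈ S) → (∀ a ∈ S, σ a ≠ a) →
      ∃ κ : ℂ, IsIntegral ℤ κ ∧ ∑ a ∈ S, f a = 3 * κ := by
  intro S
  induction S using Finset.strongInduction with
  | _ S ih =>
    intro hS hfix
    rcases S.eq_empty_or_nonempty with rfl | ⟨a, ha⟩
    · exact ⟨0, isIntegral_zero, by simp⟩
    have hinj : Function.Injective σ := fun x y e => by
      have := congrArg (fun z => σ (σ z)) e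
      simpa [h3] using this
    have hb : σ a ≠ a := hfix a ha
    have hc : σ (σ a) ≠ a := fun e => hb (by
      have := congrArg σ e
      rw [h3] at this
      exact this.symm)
    have hbc : σ (σ a) ≠ σ a := fun e => hb (hinj e)
    set O : Finset α := {a, σ a, σ (σ a)} with hO
    have hOS : O ⊆ S := by
      intro z hz
      simp only [hO, Finset.mem_insert, Finset.mem_singleton] at hz
      rcases hz with rfl | rfl | rfl
      exacts [ha, hS a ha, hS _ (hS a ha)]
    have hlt : S \ O ⊂ S :=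
      Finset.sdiff_ssubset hOS ⟨a, by simp [hO]⟩
    have hS' : ∀ z ∈ S \ O, σ z ∈ S \ O := by
      intro z hz
      rw [Finset.mem_sdiff] at hz ⊢
      refine ⟨hS z hz.1, fun h => hz.2 ?_⟩
      simp only [hO, Finset.mem_insert, Finset.mem_singleton] at h ⊢
      rcases h with h | h | h
      · exact Or.inr (Or.inr (hinj (h.trans (h3 a).symm)))
      · exact Or.inl (hinj h)
      · exact Or.inr (Or.inl (hinj h))
    obtain ⟨κ, hκ, hsum⟩ := ih _ hlt hS' fun z hz => hfix z (Finset.mem_sdiff.1 hz).1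
    refine ⟨κ + f a, hκ.add (hint a), ?_⟩
    rw [← Finset.sum_sdiff hOS, hsum, hO, Finset.sum_insert (by simp [Ne.symm hb, Ne.symm hc]),
      Finset.sum_pair hbc.symm, hf (σ a), hf a]
    ring

/-- The congruence. -/
theorem three_dvd_class_card {G : Type u} [Group G] [Fintype G] {s x : G} (hs : orderOf s = 2)
    (hx : x ^ 3 = 1)
    (huni : ∀ a b : G, IsConj s a → Commute a x → orderOf b = 2 → Commute b x → Commute a b → a = b)
    (U W : IrrCharacter G) (hUW : ∀ g, Odd (orderOf g) → (U : G → ℂ) g = (W : G → ℂ) g)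
    {a₀ a₁ : ℤ} (hU : (U : G → ℂ) s = a₀) (hW : (W : G → ℂ) s = a₁) (h0 : (3 : ℤ) ∣ a₀)
    (h1 : ¬ (3 : ℤ) ∣ a₁) :
    3 ∣ Nat.card {y : G // IsConj s y} := by
  classical
  set K := Finset.univ.filter (IsConj s) with hK
  set m := Nat.card {y : G // IsConj s y} with hm
  have hinvol : ∀ a ∈ K, orderOf a = 2 := fun a ha => by
    obtain ⟨g, rfl⟩ := isConj_iff.1 (Finset.mem_filter.1 ha).2
    exact (MulEquiv.orderOf_eq (MulAut.conj g) s).trans hs
  have hsq : ∀ {a : G}, orderOf a = 2 → a * a = 1 := fun {a} h => by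
    rw [← pow_two, ← h, pow_orderOf_eq_one]
  have hinv : ∀ {a : G}, orderOf a = 2 → a⁻¹ = a := fun h => inv_eq_of_mul_eq_one_right (hsq h)
  let σ : G × G → G × G := fun p => (x * p.1 * x⁻¹, x * p.2 * x⁻¹)
  let f : G × G → ℂ := fun p => (U : G → ℂ) (p.1 * p.2) - (W : G → ℂ) (p.1 * p.2)
  have hint : ∀ χ : IrrCharacter G, ∀ g, IsIntegral ℤ ((χ : G → ℂ) g) := by
    rintro ⟨χ, n, ρ, hρ, rfl⟩ g
    exact isIntegral_char ρ g
  have hx3 : ∀ g : G, x * (x * (x * g * x⁻¹) * x⁻¹) * x⁻¹ = g := fun g => by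
    calc _ = x ^ 3 * g * (x ^ 3)⁻¹ := by rw [pow_succ, pow_two]; group
      _ = g := by rw [hx]; group
  have hfix0 : ∀ p ∈ K ×ˢ K, σ p = p → f p = 0 := by
    intro p hp he
    obtain ⟨hp1, hp2⟩ := Finset.mem_product.1 hp
    have ha : Commute p.1 x := by
      have := congrArg Prod.fst he
      exact (mul_inv_eq_iff_eq_mul.1 this).symm
    have hb : Commute p.2 x := by
      have := congrArg Prod.snd he
      exact (mul_inv_eq_iff_eq_mul.1 this).symm
    have hodd : Odd (orderOf (p.1 * p.2)) := by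
      rw [← Nat.not_even_iff_odd]
      intro hev
      set w := p.1 * p.2 with hw
      obtain ⟨k, hk⟩ := hev
      have hk0 : k ≠ 0 := fun e => (orderOf_pos w).ne' (by omega)
      have hc2 : orderOf (w ^ k) = 2 := by
        rw [orderOf_pow' _ hk0, hk, Nat.gcd_eq_right (Dvd.intro 2 (by ring)), ← two_mul,
          Nat.mul_div_cancel _ (Nat.pos_of_ne_zero hk0)]
      have hconj : p.1 * w * p.1⁻¹ = w⁻¹ := by
        rw [hw, mul_inv_rev, hinv (hinvol _ hp1), hinv (hinvol _ hp2), ← mul_assoc,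
          hsq (hinvol _ hp1), one_mul]
      have hcom : Commute p.1 (w ^ k) := by
        refine mul_inv_eq_iff_eq_mul.1 ?_
        rw [← conj_pow, hconj, inv_pow, hinv hc2]
      have hcx : Commute (w ^ k) x := (Commute.mul_left ha hb).pow_left k
      have he1 : p.1 = w ^ k := huni _ _ (Finset.mem_filter.1 hp1).2 ha hc2 hcx hcom
      have h12 : Commute p.1 p.2 := by
        have h' : Commute p.1 w := by rw [he1]; exact (Commute.refl w).pow_left k
        have e : p.2 = p.1⁻¹ * w := by rw [hw, inv_mul_cancel_left]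
        rw [e]
        exact ((Commute.refl p.1).inv_right).mul_right h'
      have h2 := huni _ _ (Finset.mem_filter.1 hp1).2 ha (hinvol _ hp2) hb h12
      have hw1 : w = 1 := by rw [hw, ← h2, hsq (hinvol _ hp1)]
      rw [hw1, orderOf_one] at hk
      omega
    exact sub_eq_zero.2 (hUW _ hodd)
  obtain ⟨κ, hκ, hsum⟩ := sum_orbit_three σ
    (fun p => Prod.ext (hx3 p.1) (hx3 p.2)) f
    (fun p => by
      show (U : G → ℂ) (x * p.1 * x⁻¹ * (x * p.2 * x⁻¹)) - (W : G → ℂ) (x * p.1 * x⁻¹ * (x * p.2 * x⁻¹)) = _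
      rw [show x * p.1 * x⁻¹ * (x * p.2 * x⁻¹) = x * (p.1 * p.2) * x⁻¹ by group,
        irr_isClassFunction U, irr_isClassFunction W])
    (fun p => (hint U _).sub (hint W _))
    ((K ×ˢ K).filter fun p => σ p ≠ p)
    (fun p hp => by
      obtain ⟨hp, hne⟩ := Finset.mem_filter.1 hp
      obtain ⟨hp1, hp2⟩ := Finset.mem_product.1 hp
      refine Finset.mem_filter.2 ⟨Finset.mem_product.2 ⟨?_, ?_⟩, fun e => hne ?_⟩
      · exact Finset.mem_filter.2 ⟨Finset.mem_univ _, (Finset.mem_filter.1 hp1).2.trans (isConj_iff.2 ⟨x, rfl⟩)⟩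
      · exact Finset.mem_filter.2 ⟨Finset.mem_univ _, (Finset.mem_filter.1 hp2).2.trans (isConj_iff.2 ⟨x, rfl⟩)⟩
      · have h3 : σ (σ (σ p)) = p := Prod.ext (hx3 p.1) (hx3 p.2)
        rw [e, e] at h3
        exact h3)
    (fun p hp => (Finset.mem_filter.1 hp).2)
  rw [Finset.sum_filter_of_ne (p := fun p => σ p ≠ p) (fun p hp hne he => hne (hfix0 p hp he))] at hsum
  have hd : (U : G → ℂ) 1 = (W : G → ℂ) 1 := hUW 1 (by simp)
  obtain ⟨d, hd0, hdU⟩ := irr_exists_degree U.2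
  have hS : ∑ p ∈ K ×ˢ K, f p = (m : ℂ) ^ 2 * (((a₀ : ℂ) ^ 2 - (a₁ : ℂ) ^ 2) / d) := by
    simp only [f]
    rw [Finset.sum_product, Finset.sum_congr rfl fun a _ => Finset.sum_sub_distrib _ _,
      Finset.sum_sub_distrib, hK, CfsgLib.BSW.sum_class_product U s, CfsgLib.BSW.sum_class_product W s,
      hU, hW, ← hd, hdU]
    ring
  rw [hS] at hsum
  have hdne : (d : ℂ) ≠ 0 := Nat.cast_ne_zero.2 hd0.ne'
  obtain ⟨z, hz⟩ : ∃ z : ℤ, (z : ℂ) = κ := by
    have hrat : κ = algebraMap ℚ ℂ ((m : ℚ) ^ 2 * ((a₀ : ℚ) ^ 2 - (a₁ : ℚ) ^ 2) / d / 3) := by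
      rw [eq_ratCast]
      push_cast
      linear_combination -hsum / 3
    rw [hrat, isIntegral_algebraMap_iff (algebraMap ℚ ℂ).injective,
      IsIntegrallyClosed.isIntegral_iff] at hκ
    obtain ⟨z, hz⟩ := hκ
    exact ⟨z, by rw [hrat, ← hz]; simp⟩
  have hfinal : (m : ℤ) ^ 2 * (a₀ ^ 2 - a₁ ^ 2) = 3 * (d * z) := by
    have : ((m : ℂ) ^ 2 * ((a₀ : ℂ) ^ 2 - (a₁ : ℂ) ^ 2)) = 3 * ((d : ℂ) * z) := by
      rw [hz]
      field_simp at hsum
      linear_combination hsum
    exact_mod_cast this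
  have hp : Prime (3 : ℤ) := Int.prime_three
  rcases hp.dvd_or_dvd (⟨d * z, hfinal⟩ : (3 : ℤ) ∣ (m : ℤ) ^ 2 * (a₀ ^ 2 - a₁ ^ 2)) with h | h
  · exact Int.natCast_dvd_natCast.1 (hp.dvd_of_dvd_pow h)
  · exfalso
    refine h1 (hp.dvd_of_dvd_pow (n := 2) ?_)
    have := dvd_sub (dvd_pow h0 two_ne_zero) h
    simpa using this

end CfsgLib.ReeType
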