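import Cfsg.Agent.Lib.ReeType.Torus

/-!
Two characters that agree on the elements of odd order and take values at the involution that
differ modulo three.
-/

set_option autoImplicit false
set_option linter.unusedSectionVars false

namespace CfsgLib.ReeType

open Matrix Cfsg
open CfsgLib.SL2Tori CfsgLib.Schur CfsgLib.Characters CfsgLib.SL2Char
open scoped ComplexConjugate

universe u

variable {G : Type u} [Group G]
variable {F : Type} [Field F] [Fintype F] [DecidableEq F]

local notation "SL2" => Matrix.SpecialLinearGroup (Fin 2) F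
local notation "PSL2" => Matrix.ProjectiveSpecialLinearGroup (Fin 2) F

variable {c : Matrix.SpecialLinearGroup (Fin 2) F} {h n : ℕ}

theorem even_pow (D : Data c h n) {θ : Subgroup.zpowers c →* ℂˣ} (hθ : evenTheta D θ) :
    θ ^ (2 * n) = 1 := by
  refine MonoidHom.ext fun t => ?_
  obtain ⟨i, hi⟩ := Subgroup.mem_zpowers_iff.1 t.2
  rw [show t = cgen c ^ i from Subtype.ext (by rw [Subgroup.coe_zpow]; exact hi.symm),
    MonoidHom.pow_apply, ← map_pow, ← zpow_natCast, ← _root_.zpow_mul, mul_comm i, _root_.zpow_mul,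
    zpow_natCast, map_zpow, MonoidHom.one_apply,
    show cgen c ^ (2 * n) = ⟨-1, D.ds.neg_one_mem⟩ from Subtype.ext (by
      rw [Subgroup.coe_pow, ← D.h_eq]; exact TorusGen.pow_h_eq D.ds.torus),
    show θ ⟨-1, D.ds.neg_one_mem⟩ = 1 from Units.ext (by rw [Units.val_one]; exact hθ),
    _root_.one_zpow]

theorem pow_odd_eq {M : Type*} [Monoid M] {m : ℕ} (hm : Odd m) {u : M} (hu : u ^ 2 = 1) : u ^ m = u := by
  obtain ⟨k, rfl⟩ := hm
  rw [pow_succ, pow_mul, hu, one_pow, one_mul]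

theorem hom_inv_inv {B : Type*} [Monoid B] (f : B →* ℂˣ) : (f⁻¹)⁻¹ = f :=
  MonoidHom.ext fun x => inv_inv (f x)

theorem delta_pow_n (D : Data c h n) : delta D ^ n = delta D :=
  MonoidHom.ext fun x => by
    rw [MonoidHom.pow_apply]
    exact pow_odd_eq D.n_odd (DFunLike.congr_fun (delta_spec D).2.1 x)

theorem sq_ne_delta (D : Data c h n) {θ : Subgroup.zpowers c →* ℂˣ} (hθ : evenTheta D θ) :
    θ ^ 2 ≠ delta D := fun e => (delta_spec D).1 (by
  rw [← delta_pow_n D, ← e, ← pow_mul, even_pow D hθ])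

namespace Cyc

variable {s : G} {E : CentData s F} {A : Subgroup G} {y : G}
variable (T : Cyc E c n A y)
include T

theorem even_comp (D : Data c h n) (χ : A →* ℂˣ) : evenTheta D (χ.comp T.iota) := by
  show (χ (T.iota _) : ℂ) = 1
  rw [T.iota_congr (t' := 1) (by rw [Subgroup.coe_one, map_one, prj_eq_one]; exact Or.inr rfl),
    map_one, map_one, Units.val_one]

theorem exists_char (D : Data c h n) : ∃ χ : A →* ℂˣ, χ ^ n = 1 ∧
    ∀ a : A, a ^ n = 1 → χ a = 1 → a = 1 := by
  have hn0 : n ≠ 0 := by have := T.one_lt; omega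
  obtain ⟨ω, hω⟩ : ∃ ω : ℂˣ, IsPrimitiveRoot ω n :=
    ⟨_, (Complex.isPrimitiveRoot_exp n hn0).isUnit_unit hn0⟩
  have hgen : ∀ x : Subgroup.zpowers c, x ∈ Subgroup.zpowers (cgen c) := fun x => by
    obtain ⟨i, hi⟩ := Subgroup.mem_zpowers_iff.1 x.2
    exact Subgroup.mem_zpowers_iff.2 ⟨i, Subtype.ext (by rw [Subgroup.coe_zpow]; exact hi)⟩
  have hord : orderOf ω ∣ orderOf (cgen c) := by
    rw [← hω.eq_orderOf, Subgroup.orderOf_mk, D.ds.torus.order, D.h_eq]
    exact Dvd.intro_left 4 (by ring)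
  set θ := monoidHomOfForallMemZpowers hgen hord with hθdef
  have hgv : θ (cgen c) = ω := monoidHomOfForallMemZpowers_apply_gen _ _
  have hev : evenTheta D θ := by
    show (θ ⟨-1, D.ds.neg_one_mem⟩ : ℂ) = 1
    rw [show (⟨-1, D.ds.neg_one_mem⟩ : Subgroup.zpowers c) = cgen c ^ h from Subtype.ext (by
      rw [Subgroup.coe_pow]; exact (TorusGen.pow_h_eq D.ds.torus).symm), map_pow, hgv, D.h_eq,
      mul_comm, pow_mul, hω.pow_eq_one, one_pow, Units.val_one]
  refine ⟨T.pull D θ hev, ?_, ?_⟩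
  · refine MonoidHom.ext fun a => ?_
    obtain ⟨j, hj⟩ := T.exists_zpow_gen (T.liftT a)
    show θ (T.liftT a) ^ n = 1
    rw [hj, map_zpow, hgv, ← zpow_natCast, ← _root_.zpow_mul, mul_comm, _root_.zpow_mul, zpow_natCast,
      hω.pow_eq_one, _root_.one_zpow]
  · intro a ha h1
    obtain ⟨j, hj⟩ := T.exists_zpow_gen (T.liftT a)
    change θ (T.liftT a) = 1 at h1
    rw [hj, map_zpow, hgv, hω.zpow_eq_one_iff_dvd] at h1
    obtain ⟨k, rfl⟩ := h1
    have h2n := T.iota_gen_pow D
    have hi : T.iota (cgen c ^ ((n : ℤ) * k)) ^ 2 = 1 := by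
      rw [← map_pow, ← zpow_natCast (cgen c ^ ((n : ℤ) * k)) 2, ← _root_.zpow_mul,
        show ((n : ℤ) * k) * ((2 : ℕ) : ℤ) = ((2 * n : ℕ) : ℤ) * k by push_cast; ring,
        _root_.zpow_mul, zpow_natCast, map_zpow, h2n, _root_.one_zpow]
    have ha2 : a ^ 2 = 1 := by
      rcases T.cases_elt a with e | e <;> rw [e, hj]
      · exact hi
      · rw [(T.selt_comm _).mul_pow, T.selt_sq, hi, one_mul]
    rw [← pow_odd_eq D.n_odd ha2, ha]

theorem pow_n_selt {χ : A →* ℂˣ} (hn : Odd n) (hχ : χ ^ n = 1) : χ T.selt = 1 := by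
  have hp : T.selt ^ n = T.selt := pow_odd_eq hn T.selt_sq
  rw [← hp, map_pow, ← MonoidHom.pow_apply, hχ, MonoidHom.one_apply]

theorem comp_act_pow {χ : A →* ℂˣ} (hχ : χ ^ n = 1) : (χ.comp T.act) ^ n = 1 := by
  refine MonoidHom.ext fun a => ?_
  rw [MonoidHom.pow_apply, MonoidHom.comp_apply, ← MonoidHom.pow_apply, hχ]
  rfl

theorem act_ne {χ : A →* ℂˣ} (hinj : ∀ a : A, a ^ n = 1 → χ a = 1 → a = 1) :
    χ.comp T.act ≠ χ := by
  intro e
  obtain ⟨a, ha, han, hne⟩ := T.moved
  set b : A := ⟨a, ha⟩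
  have hb : b ^ n = 1 := Subtype.ext han
  have h1 : (b⁻¹ * T.act b) ^ n = 1 := by
    rw [(T.commute _ _).mul_pow, inv_pow, ← map_pow, hb, map_one, inv_one, one_mul]
  have h2 : χ (b⁻¹ * T.act b) = 1 := by
    rw [map_mul, map_inv, inv_mul_eq_one]
    exact (DFunLike.congr_fun e b).symm
  exact hne (congrArg Subtype.val (inv_mul_eq_one.1 (hinj _ h1 h2))).symm

theorem act_ne_inv {χ : A →* ℂˣ} (hn : Odd n) (hχ : χ ^ n = 1) (hnt : χ ≠ 1) :
    χ.comp T.act ≠ χ⁻¹ := by
  intro e
  have e' : ∀ a, χ (T.act a) = (χ a)⁻¹ := fun a => DFunLike.congr_fun e a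
  refine hnt (MonoidHom.ext fun a => ?_)
  have h3 : χ a = (χ a)⁻¹ := by
    conv_lhs => rw [← T.act_cube a]
    rw [e', e', e', inv_inv]
  have h2 : χ a ^ 2 = 1 := by rw [pow_two, mul_eq_one_iff_eq_inv]; exact h3
  obtain ⟨m, hm⟩ := hn
  have h4 := DFunLike.congr_fun hχ a
  rw [MonoidHom.pow_apply, hm, pow_succ, pow_mul, h2, one_pow, one_mul] at h4
  exact h4

theorem comp_iota_inj {χ χ' : A →* ℂˣ} (hs : χ T.selt = 1) (hs' : χ' T.selt = 1)
    (e : χ.comp T.iota = χ'.comp T.iota) : χ = χ' :=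
  MonoidHom.ext fun a => by
    rw [T.hom_apply hs a, T.hom_apply hs' a]
    exact DFunLike.congr_fun e (T.liftT a)

/-- The characters attached to the three exceptional functions. -/
theorem exists_orbit (D : Data c h n) : ∃ χ : Fin 3 → (A →* ℂˣ),
    χ 1 = (χ 0).comp T.act ∧ χ 2 = (χ 1).comp T.act ∧
    (∀ k, χ k ^ n = 1) ∧ (∀ k, χ k ≠ 1) ∧
    ∀ i j, i ≠ j → χ i ≠ χ j ∧ χ i ≠ (χ j)⁻¹ := by
  obtain ⟨χ, hχ, hinj⟩ := T.exists_char D
  have hne1 : χ ≠ 1 := by
    intro e
    obtain ⟨a, ha, han, hmv⟩ := T.moved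
    have := congrArg Subtype.val (hinj ⟨a, ha⟩ (Subtype.ext han) (by rw [e]; rfl))
    change a = 1 at this
    exact hmv (by rw [this]; group)
  have a0 := T.act_ne hinj
  have a0' := T.act_ne_inv D.n_odd hχ hne1
  have ec : ∀ ξ : A →* ℂˣ, ((ξ.comp T.act).comp T.act).comp T.act = ξ := fun ξ =>
    MonoidHom.ext fun a => congrArg ξ (T.act_cube a)
  have ei : ∀ ξ : A →* ℂˣ, ξ⁻¹.comp T.act = (ξ.comp T.act)⁻¹ := fun ξ => rfl
  set χ₁ := χ.comp T.act with h1
  set χ₂ := χ₁.comp T.act with h2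
  have r : ∀ {a b : A →* ℂˣ}, a = b → a.comp T.act = b.comp T.act := fun e => by rw [e]
  have n12 : χ₂ ≠ χ₁ := fun e => a0 (by
    have := r e
    rw [← h2, h2, ec] at this
    exact (this.trans e).symm)
  have n02 : χ₂ ≠ χ := fun e => a0 (by
    have := r e
    rw [h2, ec] at this
    exact this.symm)
  have n02' : χ₂ ≠ χ⁻¹ := fun e => a0' (by
    have := r e
    rw [h2, ec, ei] at this
    rw [this, hom_inv_inv])
  have n12' : χ₂ ≠ χ₁⁻¹ := fun e => a0' (by
    have h := r e
    rw [h2, ec, ei, ← h2, e, hom_inv_inv] at h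
    exact absurd h.symm a0)
  have hn1 : ∀ {ξ : A →* ℂˣ}, ξ ≠ 1 → ξ.comp T.act ≠ 1 := fun {ξ} hξ e => hξ (by
    rw [← ec ξ, e]; rfl)
  have sym : ∀ {a b : A →* ℂˣ}, a ≠ b⁻¹ → b ≠ a⁻¹ := fun {a b} hab e => hab (by rw [e, hom_inv_inv])
  refine ⟨![χ, χ₁, χ₂], rfl, rfl, fun k => ?_, fun k => ?_, fun i j hij => ?_⟩
  · fin_cases k
    exacts [hχ, T.comp_act_pow hχ, T.comp_act_pow (T.comp_act_pow hχ)]
  · fin_cases k
    exacts [hne1, hn1 hne1, hn1 (hn1 hne1)]
  · fin_cases i <;> fin_cases j <;> simp at hij ⊢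
    exacts [⟨Ne.symm a0, sym a0'⟩, ⟨Ne.symm n02, sym n02'⟩, ⟨a0, a0'⟩, ⟨Ne.symm n12, sym n12'⟩,
      ⟨n02, n02'⟩, ⟨n12, n12'⟩]

theorem exists_pair [Fintype G] (D : Data c h n) :
    ∃ U W : IrrCharacter G, ∃ a₀ a₁ : ℤ,
      (∀ g, Odd (orderOf g) → (U : G → ℂ) g = (W : G → ℂ) g) ∧
      (U : G → ℂ) s = a₀ ∧ (W : G → ℂ) s = a₁ ∧ (3 : ℤ) ∣ a₀ ∧ ¬ (3 : ℤ) ∣ a₁ := by
  classical
  obtain ⟨χ, e1, e2, hpow, hnt, hdist⟩ := T.exists_orbit D
  have hd := delta_spec D
  have hs : ∀ k, χ k T.selt = 1 := fun k => T.pow_n_selt D.n_odd (hpow k)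
  set θ : Fin 3 → (Subgroup.zpowers c →* ℂˣ) := fun k => (χ k).comp T.iota with hθ
  have hev : ∀ k, evenTheta D (θ k) := fun k => T.even_comp D _
  have hθn : ∀ k, θ k ^ n = 1 := fun k => MonoidHom.ext fun t => by
    show χ k (T.iota t) ^ n = 1
    rw [← MonoidHom.pow_apply, hpow]; rfl
  have hdn := delta_pow_n D
  have hθ2 : ∀ k, θ k ^ 2 ≠ 1 := fun k e => hnt k
    (T.comp_iota_inj (hs k) rfl (MonoidHom.ext fun t => by
      have h1 := pow_odd_eq D.n_odd (show θ k t ^ 2 = 1 from DFunLike.congr_fun e t)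
      show θ k t = 1
      rw [← h1]
      exact DFunLike.congr_fun (hθn k) t))
  have hmix : ∀ {a b : Subgroup.zpowers c →* ℂˣ}, a ^ n = 1 → b ^ n = 1 → a ≠ b * delta D := by
    intro a b ha hb e
    refine hd.1 (MonoidHom.ext fun x => ?_)
    have h1 := DFunLike.congr_fun ha x
    have h2 := DFunLike.congr_fun hb x
    have h3 := DFunLike.congr_fun hdn x
    rw [MonoidHom.pow_apply, e, MonoidHom.mul_apply, mul_pow] at h1
    rw [MonoidHom.pow_apply] at h2 h3
    rw [h2, MonoidHom.one_apply, one_mul, h3] at h1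
    exact h1
  have hinvn : ∀ k, (θ k)⁻¹ ^ n = 1 := fun k => MonoidHom.ext fun t => by
    rw [MonoidHom.pow_apply, MonoidHom.inv_apply, inv_pow, ← MonoidHom.pow_apply, hθn,
      MonoidHom.one_apply, inv_one]
  have hθne : ∀ i j, i ≠ j → θ i ≠ θ j ∧ θ i ≠ (θ j)⁻¹ := fun i j hij =>
    ⟨fun e => (hdist i j hij).1 (T.comp_iota_inj (hs i) (hs j) e),
      fun e => (hdist i j hij).2 (T.comp_iota_inj (hs i)
        (show (χ j)⁻¹ T.selt = 1 by rw [MonoidHom.inv_apply, hs, inv_one]) e)⟩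
  have h20 := two_ne D
  let Φ : Fin 3 → G → ℂ := fun k => E.sec (psi D (θ k))
  have hgenΦ : ∀ k, IsGeneralizedCharacter G (Φ k) := fun k =>
    E.sec_gen (psi_gen D _) (psi_isEven D (hev k))
  have hin : ∀ i j, classInner (Φ i) (Φ j) = if i = j then 4 else 0 := by
    intro i j
    rw [E.sec_inner h20 (psi_isEven D (hev i)) (psi_oddSupp D (hev i)) (psi_gen D _)
      (psi_isEven D (hev j)) (psi_oddSupp D (hev j))]
    split_ifs with hij
    · subst hij
      rw [classInner_psi_self D (hev i) (hθ2 i) (sq_ne_delta D (hev i))]; norm_num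
    · rw [classInner_psi_ne D (hev i) (hev j) (hθne i j hij).1 (hθne i j hij).2
        (hmix (hθn i) (hθn j)) (by rw [mul_delta_inv D]; exact hmix (hθn i) (hinvn j)), mul_zero]
  have st0 := T.sec_step D (hs 0) (by rw [← e1]; exact hs 1)
  have st1 := T.sec_step D (hs 1) (by rw [← e2]; exact hs 2)
  rw [← e1] at st0
  rw [← e2] at st1
  obtain ⟨U, W, hUW, ⟨eu, heu, hU⟩, ⟨ew, hew, hW⟩, hzero⟩ :=
    triple Φ (T.halfDiff D (χ 0)) (T.halfDiff D (χ 1)) hgenΦ (T.halfDiff_gen D _) (T.halfDiff_gen D _)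
      st0 st1 hin (fun i g hg => E.sec_odd (psi_oddSupp D (hev i)) hg)
  have hsmall : ∀ {f : SL2 → ℂ}, Small D f →
      classInner (E.sec f) (U : G → ℂ) = 0 ∧ classInner (E.sec f) (W : G → ℂ) = 0 := by
    intro f hf
    refine hzero _ (E.sec_gen hf.gen hf.even) ?_ (E.sec_one hf.supp) fun i => ?_
    · rcases hf.norm with e | e
      · exact ⟨2, by norm_num, by
          rw [E.sec_inner h20 hf.even hf.supp hf.gen hf.even hf.supp, e]; norm_num⟩
      · exact ⟨4, le_rfl, by
          rw [E.sec_inner h20 hf.even hf.supp hf.gen hf.even hf.supp, e]; norm_num⟩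
    · rw [E.sec_inner h20 hf.even hf.supp (psi_gen D _) (psi_isEven D (hev i))
        (psi_oddSupp D (hev i)), hf.orth _ (hev i) (hθ2 i), mul_zero]
  have hfin := finite_theta D
  let _ : Fintype (Subgroup.zpowers c →* ℂˣ) := Fintype.ofFinite _
  let _ : Fintype (MulChar F ℂ) := Fintype.ofFinite _
  let S : Fin 3 → Finset (Subgroup.zpowers c →* ℂˣ) := fun k =>
    {θ k, (θ k)⁻¹, θ k * delta D, (θ k)⁻¹ * delta D}
  have hScard : ∀ k, (S k).card = 4 := fun k => by
    have a : θ k ≠ (θ k)⁻¹ := fun e => hθ2 k (by rw [pow_two]; exact mul_eq_one_iff_eq_inv.2 e)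
    have b := hmix (hθn k) (hθn k)
    have b' := hmix (hθn k) (hinvn k)
    have b'' := hmix (hinvn k) (hθn k)
    have c' := hmix (hinvn k) (hinvn k)
    have d : θ k * delta D ≠ (θ k)⁻¹ * delta D := fun e => a (mul_right_cancel e)
    simp only [S]
    rw [Finset.card_insert_of_notMem (by simp [a, b, b']), Finset.card_insert_of_notMem (by simp [b'', c']),
      Finset.card_pair d]
  have hSeq : ∀ k, ∀ x ∈ S k, psi D x = psi D (θ k) := fun k x hx => by
    simp only [S, Finset.mem_insert, Finset.mem_singleton] at hx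
    rcases hx with rfl | rfl | rfl | rfl
    · rfl
    · exact psi_inv D (hev k)
    · exact psi_mul_delta D _
    · rw [psi_mul_delta, psi_inv D (hev k)]
  have hSev : ∀ k, ∀ x ∈ S k, evenTheta D x := fun k x hx => by
    simp only [S, Finset.mem_insert, Finset.mem_singleton] at hx
    rcases hx with rfl | rfl | rfl | rfl
    exacts [hev k, even_inv D (hev k), even_mul D (hev k) hd.2.2.1,
      even_mul D (even_inv D (hev k)) hd.2.2.1]
  have hSdisj : ∀ i j x, x ∈ S i → x ∈ S j → i = j := by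
    intro i j x hi hj
    by_contra hij
    have h0 := hin i j
    rw [if_neg hij] at h0
    have h4 := hin i i
    rw [if_pos rfl] at h4
    have e : Φ i = Φ j := by
      show E.sec _ = E.sec _
      rw [← hSeq i x hi, ← hSeq j x hj]
    rw [← e, h4] at h0
    norm_num at h0
  set TH := Finset.univ.filter (evenTheta D) with hTH
  have hterm : ∀ X : IrrCharacter G, X = U ∨ X = W → ∀ x ∈ TH,
      classInner (E.sec (psi D x)) (X : G → ℂ) =
        ∑ k, if x ∈ S k then classInner (Φ k) (X : G → ℂ) else 0 := by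
    intro X hX x hx
    have hxe : evenTheta D x := (Finset.mem_filter.1 hx).2
    by_cases hmem : ∃ k, x ∈ S k
    · obtain ⟨k, hk⟩ := hmem
      rw [Finset.sum_eq_single k (fun j _ hj => if_neg fun h' => hj (hSdisj j k x h' hk)) (by simp),
        if_pos hk, hSeq k x hk]
    · push Not at hmem
      rw [Finset.sum_eq_zero fun k _ => if_neg (hmem k)]
      suffices h' : classInner (E.sec (psi D x)) (U : G → ℂ) = 0 ∧
          classInner (E.sec (psi D x)) (W : G → ℂ) = 0 by
        rcases hX with rfl | rfl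
        exacts [h'.1, h'.2]
      by_cases hx2 : x ^ 2 = 1
      · obtain ⟨f₁, f₂, f₃, h₁, h₂, h₃, hspl⟩ := psi_one_split D
        have hx1 : psi D x = psi D 1 := by
          rcases (hd.2.2.2.1 x).1 hx2 with rfl | rfl
          · rfl
          · rw [← psi_mul_delta D 1]
            exact congrArg (psi D) (MonoidHom.ext fun _ => (one_mul _).symm)
        rw [hx1, hspl, E.sec_sub, E.sec_add, classInner_sub_left, classInner_add_left,
          classInner_sub_left, classInner_add_left, (hsmall h₁).1, (hsmall h₂).1, (hsmall h₃).1,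
          (hsmall h₁).2, (hsmall h₂).2, (hsmall h₃).2]
        simp
      · refine hzero _ (E.sec_gen (psi_gen D _) (psi_isEven D hxe)) ⟨4, le_rfl, ?_⟩
          (E.sec_one (psi_oddSupp D hxe)) fun k => ?_
        · rw [E.sec_inner h20 (psi_isEven D hxe) (psi_oddSupp D hxe) (psi_gen D _) (psi_isEven D hxe)
            (psi_oddSupp D hxe), classInner_psi_self D hxe hx2 (sq_ne_delta D hxe)]
          norm_num
        · have hk := hmem k
          simp only [S, Finset.mem_insert, Finset.mem_singleton, not_or] at hk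
          rw [E.sec_inner h20 (psi_isEven D hxe) (psi_oddSupp D hxe) (psi_gen D _) (psi_isEven D (hev k))
            (psi_oddSupp D (hev k)), classInner_psi_ne D hxe (hev k) hk.1 hk.2.1 hk.2.2.1
            (by rw [mul_delta_inv D]; exact hk.2.2.2), mul_zero]
  let _ : Fintype PSL2 := Fintype.ofFinite _
  have hcard : (Fintype.card PSL2 : ℂ) = 2 * (h : ℂ) * ((h : ℂ) - 1) * Fintype.card F := by
    have hsl : (Nat.card SL2 : ℂ) = (Fintype.card F : ℂ) * ((Fintype.card F : ℂ) ^ 2 - 1) := by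
      rw [CfsgLib.Schur.natCard_slTwo (F := F), Nat.cast_mul, Nat.cast_mul,
        Nat.cast_sub (Nat.one_le_iff_ne_zero.2 Fintype.card_ne_zero)]
      push_cast
      ring
    have hq : (Fintype.card F : ℂ) = 2 * h - 1 := by
      have : (Fintype.card F : ℂ) + 1 = 2 * h := by exact_mod_cast D.ds.card_eq
      linear_combination this
    rw [card_sl_eq h20, hq] at hsl
    rw [hq]
    linear_combination hsl / 2
  have hval : ∀ X : IrrCharacter G, X = U ∨ X = W →
      conj ((X : G → ℂ) s) = 2 * ((h : ℂ) - 1) *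
        (classInner (Φ 0) (X : G → ℂ) + classInner (Φ 1) (X : G → ℂ) + classInner (Φ 2) (X : G → ℂ)) := by
    intro X hX
    rw [← E.sec_reg (irr_isClassFunction X),
      show (fun g : SL2 => if g = 1 ∨ g = -1 then (Fintype.card PSL2 : ℂ) else 0) =
        fun g : SL2 => if g = 1 ∨ g = -1 then 2 * (h : ℂ) * ((h : ℂ) - 1) * Fintype.card F else 0
        from funext fun g => by rw [hcard],
      ← regular_expansion D, E.sec_add, E.sec_smul, E.sec_smul, E.sec_sum, E.sec_sum,
      classInner_add_left, classInner_smul_left, classInner_smul_left, classInner_sum_left,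
      classInner_sum_left, Finset.sum_congr rfl (hterm X hX), Finset.sum_comm,
      Finset.sum_eq_zero (f := fun α => classInner (E.sec (ps α)) (X : G → ℂ)) fun α hα => by
        have := hsmall (small_ps D (Finset.mem_filter.1 hα).2)
        rcases hX with rfl | rfl
        exacts [this.1, this.2],
      Finset.sum_congr rfl fun k (_ : k ∈ Finset.univ) => show
        ∑ x ∈ TH, (if x ∈ S k then classInner (Φ k) (X : G → ℂ) else 0) =
          4 * classInner (Φ k) (X : G → ℂ) by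
        rw [← Finset.sum_filter, Finset.sum_const, nsmul_eq_mul,
          show TH.filter (fun x => x ∈ S k) = S k from Finset.ext fun x => by
            simp only [hTH, Finset.mem_filter, Finset.mem_univ, true_and, and_iff_right_iff_imp]
            exact hSev k x,
          hScard]
        norm_num,
      Fin.sum_univ_three]
    ring
  have hint : ∀ (X : IrrCharacter G) (z : ℤ), conj ((X : G → ℂ) s) = z → (X : G → ℂ) s = z :=
    fun X z e => by
      have := congrArg conj e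
      rwa [Complex.conj_conj, map_intCast] at this
  refine ⟨U, W, 6 * ((h : ℤ) - 1) * eu, 2 * ((h : ℤ) - 1) * ew, hUW, hint U _ ?_, hint W _ ?_,
    ⟨2 * ((h : ℤ) - 1) * eu, by ring⟩, ?_⟩
  · rw [hval U (Or.inl rfl), hU]; push_cast; ring
  · rw [hval W (Or.inr rfl), hW]; push_cast; ring
  · have h3 : (3 : ℤ) ∣ Fintype.card F := by
      have := D.three
      exact Int.natCast_dvd_natCast.2 ((CharP.cast_eq_zero_iff F 3 _).1 (Nat.cast_card_eq_zero F))
    have hq : (Fintype.card F : ℤ) + 1 = 2 * h := by exact_mod_cast D.ds.card_eq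
    rcases hew with rfl | rfl <;> omega

end Cyc

end CfsgLib.ReeType
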