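import Cfsg.Agent.Lib.ReeType.Proj
import Cfsg.Agent.Lib.SmallRee.ToriPSL
import Cfsg.Agent.Lib.SL2Char.NonSplit

/-!
Facts about `PSL₂(q)` in characteristic three: centralizers of elements of order three, and the torus
attached to an involution.
-/

set_option autoImplicit false
set_option linter.unusedSectionVars false

namespace CfsgLib.ReeType

open Matrix Cfsg
open CfsgLib.SL2Tori CfsgLib.Schur CfsgLib.Characters CfsgLib.SL2Char

variable {F : Type} [Field F] [Fintype F] [DecidableEq F] [CharP F 3]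

local notation "SL2" => Matrix.SpecialLinearGroup (Fin 2) F
local notation "M2" => Matrix (Fin 2) (Fin 2) F
local notation "PSL2" => Matrix.ProjectiveSpecialLinearGroup (Fin 2) F

omit [Fintype F] [DecidableEq F] in
theorem two_ne_zero_of_three : (2 : F) ≠ 0 := fun e => by
  have : ((2 : ℕ) : F) = 0 := by exact_mod_cast e
  rw [CharP.cast_eq_zero_iff F 3] at this
  norm_num at this

theorem three_dvd_card : 3 ∣ Fintype.card F :=
  (CharP.cast_eq_zero_iff F 3 _).1 (Nat.cast_card_eq_zero F)

/-- An element of order three is the image of a transvection, up to conjugation. -/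
theorem exists_transvection {y : PSL2} (hy : orderOf y = 3) :
    ∃ (k : SL2) (b : F), b ≠ 0 ∧ y = prj (k * (bEl (1 : Fˣ) b : SL2) * k⁻¹) := by
  have h2 := two_ne_zero_of_three (F := F)
  have hy3 : y ^ 3 = 1 := by rw [← hy, pow_orderOf_eq_one]
  obtain ⟨u₀, hu₀⟩ := prj_surjective y
  obtain ⟨u, hu, huy⟩ : ∃ u : SL2, u ^ 3 = 1 ∧ prj u = y := by
    rcases prj_eq_one.1 (show prj (u₀ ^ 3) = 1 by rw [map_pow, hu₀, hy3]) with e | e
    · exact ⟨u₀, e, hu₀⟩
    · refine ⟨-1 * u₀, ?_, by rw [prj_neg, hu₀]⟩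
      rw [Commute.mul_pow (show Commute (-1 : SL2) _ from (neg_one_central _).symm), e, pow_succ,
        neg_one_sq, one_mul, ← pow_two, neg_one_sq]
  have hy1 : y ≠ 1 := fun e => by rw [e, orderOf_one] at hy; norm_num at hy
  have hu1 : u ≠ 1 := fun e => hy1 (by rw [← huy, e, map_one])
  have hne : ((u : SL2) : M2) - 1 ≠ 0 := fun e => hu1 (Subtype.ext (sub_eq_zero.1 e))
  have hnil : (((u : SL2) : M2) - 1) ^ 3 = 0 := by
    have hM : ((u : SL2) : M2) ^ 3 = 1 := by rw [← Matrix.SpecialLinearGroup.coe_pow, hu]; rfl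
    have h3 : (3 : M2) = 0 := by
      rw [show (3 : M2) = ((3 : ℕ) : M2) from rfl, ← Matrix.diagonal_natCast, CharP.cast_eq_zero,
        Matrix.diagonal_zero]
    have e : (((u : SL2) : M2) - 1) ^ 3 = ((u : SL2) : M2) ^ 3 - 1 - 3 * (((u : SL2) : M2) ^ 2 - ((u : SL2) : M2)) := by
      noncomm_ring
    rw [e, hM, h3, zero_mul, sub_zero, sub_self]
  have htr : (((u : SL2) : M2) - 1).trace = 0 := by
    have := Matrix.isNilpotent_trace_of_isNilpotent (⟨3, hnil⟩ : IsNilpotent (((u : SL2) : M2) - 1))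
    exact this.eq_zero
  have htr2 : ((u : SL2) : M2).trace = 2 := by
    rw [Matrix.trace_sub, Matrix.trace_one, Fintype.card_fin, sub_eq_zero] at htr
    exact_mod_cast htr
  rcases element_cases h2 u with e | e | e | e | ⟨ε, b, hε, hb, hc⟩
  · exact absurd e hu1
  · exact absurd (by rw [← huy, e]; exact prj_eq_one.2 (Or.inr rfl)) hy1
  · exact absurd (by rw [htr2]; norm_num) e.1
  · exact absurd (by rw [htr2]; norm_num) e.trace_ne
  · have htrc : ((bEl ε b : SL2) : M2).trace = 2 := by
      obtain ⟨x, hx⟩ := isConj_iff.1 hc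
      rw [← hx, Matrix.SpecialLinearGroup.coe_mul, Matrix.trace_mul_comm,
        ← Matrix.SpecialLinearGroup.coe_mul, ← mul_assoc, inv_mul_cancel, one_mul, htr2]
    have hε1 : ε = 1 := by
      rcases hε with e | e
      · exact e
      · exfalso
        rw [e, bEl_trace] at htrc
        refine h2 ?_
        push_cast at htrc
        rw [inv_neg, inv_one] at htrc
        have h3 : (3 : F) = 0 := by exact_mod_cast CharP.cast_eq_zero F 3
        linear_combination htrc + 2 * h3
    subst hε1
    obtain ⟨x, hx⟩ := isConj_iff.1 hc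
    exact ⟨x⁻¹, b, hb, by rw [← huy, ← hx]; congr 1; group⟩

theorem transvection_inj : Function.Injective fun b : F => prj (bEl (1 : Fˣ) b : SL2) := by
  intro a b e
  have h : prj ((bEl (1 : Fˣ) a : SL2) * (bEl (1 : Fˣ) (-b) : SL2)) = 1 := by
    rw [map_mul, show prj (bEl (1 : Fˣ) a : SL2) = prj (bEl (1 : Fˣ) b : SL2) from e, ← map_mul,
      bEl_one_mul, add_neg_cancel, bEl_one_zero, map_one]
  rw [bEl_one_mul] at h
  rcases prj_eq_one.1 h with e' | e'
  · have := congrArg (fun g : SL2 => (g : M2) 0 1) e'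
    simp [bEl_coe] at this
    linear_combination this
  · have := congrArg (fun g : SL2 => (g : M2) 0 0) e'
    simp [bEl_coe] at this
    exact absurd (show (2 : F) = 0 by linear_combination this) two_ne_zero_of_three

theorem commute_transvection {b : F} (hb : b ≠ 0) {g : PSL2}
    (hg : Commute g (prj (bEl (1 : Fˣ) b : SL2))) : ∃ x : F, g = prj (bEl (1 : Fˣ) x : SL2) := by
  obtain ⟨a, rfl⟩ := prj_surjective g
  set u : SL2 := (bEl (1 : Fˣ) b : SL2) with hu
  have h2 := two_ne_zero_of_three (F := F)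
  have h : prj (a * u * a⁻¹ * u⁻¹) = 1 := by
    rw [map_mul, map_mul, map_mul, map_inv, map_inv, hg.eq]; group
  have hc : a * u = u * a := by
    rcases prj_eq_one.1 h with e | e
    · exact mul_inv_eq_one.1 (by rw [← e]; group)
    · exfalso
      have e1 : a * u * a⁻¹ = -1 * u := mul_inv_eq_iff_eq_mul.1 e
      have e2 := congrArg (fun g : SL2 => (g : M2).trace) e1
      simp only [Matrix.SpecialLinearGroup.coe_mul] at e2
      rw [Matrix.trace_mul_comm, ← Matrix.mul_assoc, ← Matrix.SpecialLinearGroup.coe_mul,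
        inv_mul_cancel, Matrix.SpecialLinearGroup.coe_one, Matrix.one_mul, neg_one_coe, Matrix.neg_mul,
        Matrix.one_mul, Matrix.trace_neg, hu, bEl_trace] at e2
      refine h2 (mul_self_eq_zero.1 ?_)
      push_cast at e2
      rw [inv_one] at e2
      linear_combination e2
  have hM := congrArg (fun g : SL2 => (g : M2)) hc
  simp only [Matrix.SpecialLinearGroup.coe_mul, hu, bEl_coe] at hM
  have e00 := congrFun (congrFun hM 0) 0
  have e01 := congrFun (congrFun hM 0) 1
  simp [Matrix.mul_apply, Fin.sum_univ_two] at e00 e01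
  have hc0 : (a : M2) 1 0 = 0 := by
    rcases e00 with e | e
    · exact absurd e hb
    · exact e
  have had : (a : M2) 0 0 = (a : M2) 1 1 := mul_right_cancel₀ hb (by linear_combination e01)
  have hdet := a.2
  rw [Matrix.det_fin_two, hc0, mul_zero, sub_zero, ← had, ← pow_two, sq_eq_one_iff] at hdet
  rcases hdet with e | e
  · refine ⟨(a : M2) 0 1, congrArg prj (Subtype.ext ?_)⟩
    ext i j
    fin_cases i <;> fin_cases j <;> simp [bEl_coe, hc0, e, ← had]
  · refine ⟨-(a : M2) 0 1, ?_⟩
    rw [← prj_neg (bEl (1 : Fˣ) _ : SL2)]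
    refine congrArg prj (Subtype.ext ?_)
    rw [Matrix.SpecialLinearGroup.coe_mul, neg_one_coe, Matrix.neg_mul, Matrix.one_mul, bEl_coe]
    ext i j
    fin_cases i <;> fin_cases j <;> simp [hc0, e, ← had]

/-- The centralizer of an element of order three is elementary abelian of order `q`. -/
theorem centralizer_three {y : PSL2} (hy : orderOf y = 3) :
    Nat.card (Subgroup.centralizer ({y} : Set PSL2)) = Fintype.card F ∧
    (∀ a b : PSL2, Commute a y → Commute b y → Commute a b) ∧
    ∀ a : PSL2, Commute a y → a ^ 3 = 1 := by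
  classical
  obtain ⟨k, b, hb, rfl⟩ := exists_transvection hy
  set e : F → PSL2 := fun x => prj k * prj (bEl (1 : Fˣ) x : SL2) * (prj k)⁻¹ with he
  have hyb : prj (k * (bEl (1 : Fˣ) b : SL2) * k⁻¹) = e b := by
    rw [he, map_mul, map_mul, map_inv]
  have hmul : ∀ x x', e x * e x' = e (x + x') := fun x x' => by
    simp only [he]
    rw [← bEl_one_mul, map_mul]
    group
  have hmem : ∀ a, Commute a (e b) ↔ ∃ x, a = e x := by
    intro a
    constructor
    · intro h
      obtain ⟨x, hx⟩ := commute_transvection hb (g := (prj k)⁻¹ * a * prj k) (by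
        have := (h.map (MulAut.conj (prj k)⁻¹).toMonoidHom)
        simpa [he, mul_assoc] using this)
      exact ⟨x, by rw [he]; dsimp only; rw [← hx]; group⟩
    · rintro ⟨x, rfl⟩
      show _ * _ = _ * _
      rw [hmul, hmul, add_comm]
  refine ⟨?_, fun a a' ha ha' => ?_, fun a ha => ?_⟩
  · have hinj : Function.Injective e := fun x x' h => transvection_inj (by
      simpa [he] using h)
    rw [← Nat.card_eq_fintype_card]
    symm
    refine Nat.card_eq_of_bijective (fun x => ⟨e x, Subgroup.mem_centralizer_singleton_iff.2 ?_⟩)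
      ⟨fun x x' h => hinj (congrArg Subtype.val h), ?_⟩
    · rw [hyb]; exact ((hmem _).2 ⟨x, rfl⟩).eq
    · rintro ⟨a, ha⟩
      have ha' := Subgroup.mem_centralizer_singleton_iff.1 ha
      rw [hyb] at ha'
      obtain ⟨x, hx⟩ := (hmem a).1 ha'
      exact ⟨x, Subtype.ext hx.symm⟩
  · rw [hyb] at ha ha'
    obtain ⟨x, rfl⟩ := (hmem a).1 ha
    obtain ⟨x', rfl⟩ := (hmem a').1 ha'
    show _ * _ = _ * _
    rw [hmul, hmul, add_comm]
  · rw [hyb] at ha
    obtain ⟨x, rfl⟩ := (hmem a).1 ha
    have h3 : x + x + x = 0 := by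
      have : ((3 : ℕ) : F) * x = 0 := by rw [CharP.cast_eq_zero, zero_mul]
      push_cast at this
      linear_combination this
    rw [pow_succ, pow_two, hmul, hmul, h3, he]
    simp [bEl_one_zero]

/-- No involution commutes with an element of order three. -/
theorem not_commute_three {i y : PSL2} (hi : orderOf i = 2) (hy : orderOf y = 3) : ¬ Commute i y := by
  intro h
  have h3 := (centralizer_three hy).2.2 i h
  have := orderOf_dvd_of_pow_eq_one h3
  rw [hi] at this
  omega

/-- The torus attached to an involution. -/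
theorem exists_torus {n : ℕ} (hn : 4 * n = Fintype.card F + 1) (hodd : Odd n) (hq : 5 ≤ Fintype.card F)
    {r : PSL2} (hr : orderOf r = 2) :
    ∃ (c : SL2) (h : ℕ), Data c h n ∧ prj (c ^ n) = r ∧ orderOf (prj c) = 2 * n ∧
      (∀ x, Commute r x → x ∉ Subgroup.zpowers (prj c) → x * x = 1) ∧
      (∀ z ∈ Subgroup.zpowers (prj c), z ≠ 1 → ∀ g, Commute z g → Commute r g) := by
  classical
  obtain ⟨f, hf, hrf, -, -, hout, hcent⟩ :=
    CfsgLib.SmallRee.psl_invol_structure (F := F) (by obtain ⟨k, hk⟩ := hodd; omega) hq hr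
  have hf2 : orderOf f = 2 * n := by rw [hf]; omega
  obtain ⟨c₀, hc₀⟩ := prj_surjective f
  have h2 := two_ne_zero_of_three (F := F)
  have hn0 : 0 < n := hodd.pos
  have hpow : c₀ ^ (2 * n) = -1 := by
    refine (prj_eq_one.1 (show prj (c₀ ^ (2 * n)) = 1 by
      rw [map_pow, hc₀, ← hf2, pow_orderOf_eq_one])).resolve_left fun e => ?_
    have hfn : f ^ n = 1 := by
      rw [← hc₀, ← map_pow, prj_eq_one]
      rcases sq_eq_one_cases h2 (show (c₀ ^ n) ^ 2 = 1 by rw [← pow_mul, mul_comm, e]) with e' | e'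
      · exact Or.inl (eq_one_of_coe e')
      · exact Or.inr (Subtype.ext (e'.trans (neg_one_coe (F := F)).symm))
    have := orderOf_le_of_pow_eq_one hn0 hfn
    omega
  have hord : orderOf c₀ = Fintype.card F + 1 := by
    have h4 : c₀ ^ (4 * n) = 1 := by
      rw [show 4 * n = 2 * n * 2 by ring, pow_mul, hpow, neg_one_sq]
    have hd := orderOf_dvd_of_pow_eq_one h4
    have hd2 : 2 * n ∣ orderOf c₀ := hf2 ▸ hc₀ ▸ orderOf_map_dvd prj c₀
    obtain ⟨j, hj⟩ := hd2
    have hj2 : j ∣ 2 := by
      rw [hj, show 4 * n = 2 * n * 2 by ring] at hd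
      exact Nat.dvd_of_mul_dvd_mul_left (by omega) hd
    rcases (Nat.dvd_prime Nat.prime_two).1 hj2 with rfl | rfl
    · exfalso
      rw [mul_one] at hj
      rw [← hj, pow_orderOf_eq_one] at hpow
      exact neg_one_ne_one h2 hpow.symm
    · omega
  obtain ⟨c, h, D, hC⟩ := exists_dsData_of_cyclic (F := F) (Nat.odd_iff.2 (by omega))
    (C := Subgroup.zpowers c₀) inferInstance (by rw [Nat.card_zpowers, hord])
  have heq : Subgroup.zpowers (prj c) = Subgroup.zpowers f := by
    rw [← hc₀, ← MonoidHom.map_zpowers, ← MonoidHom.map_zpowers, hC]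
  have hpc : orderOf (prj c) = 2 * n := by rw [← Nat.card_zpowers, heq, Nat.card_zpowers, hf2]
  refine ⟨c, h, ⟨D, by have := D.card_eq; omega, hodd, inferInstance⟩, ?_, hpc,
    fun x hx hx' => hout x hx (by rwa [← heq]), fun z hz => hcent z (by rwa [← heq])⟩
  have hr' : r ∈ Subgroup.zpowers (prj c) := by rw [heq]; exact hrf
  have hn2 : orderOf (prj c ^ n) = 2 := by
    rw [orderOf_pow' _ (by omega), hpc, Nat.gcd_eq_right (dvd_mul_left n 2), Nat.mul_div_cancel _ hn0]
  rw [map_pow]
  have := CfsgLib.PSL2.eq_of_orderOf_two (G := Subgroup.zpowers (prj c))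
    (a := ⟨prj c ^ n, Subgroup.npow_mem_zpowers _ _⟩) (b := ⟨r, hr'⟩)
    (by rw [Subgroup.orderOf_mk]; exact hn2) (by rw [Subgroup.orderOf_mk]; exact hr)
  exact congrArg Subtype.val this

end CfsgLib.ReeType
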