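import Cfsg.Agent.Lib.ReeType.Regular
import Cfsg.Agent.Lib.SL2Char.Projective
import Cfsg.Agent.Lib.Characters.Induction
import Cfsg.Agent.Lib.Characters.Galois

/-!
Class functions on the section of an involution `s` with centralizer `⟨s⟩ × PSL₂(q)`.
-/

set_option autoImplicit false
set_option linter.unusedSectionVars false

namespace CfsgLib.ReeType

open Matrix Cfsg
open CfsgLib.Characters CfsgLib.SL2Char
open scoped ComplexConjugate

universe u

variable {G : Type u} [Group G]
variable {F : Type} [Field F] [Fintype F] [DecidableEq F]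

local notation "SL2" => Matrix.SpecialLinearGroup (Fin 2) F
local notation "PSL2" => Matrix.ProjectiveSpecialLinearGroup (Fin 2) F

/-- The non-trivial character of the group of order two. -/
noncomputable def signTwo : Multiplicative (ZMod 2) →* ℂˣ where
  toFun x := if x = 1 then 1 else -1
  map_one' := if_pos rfl
  map_mul' a b := by
    have key : ∀ z : Multiplicative (ZMod 2), z = 1 ∨ z = Multiplicative.ofAdd 1 := by decide
    have h2 : (Multiplicative.ofAdd (1 : ZMod 2)) * Multiplicative.ofAdd 1 = 1 := by decide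
    have h1 : (Multiplicative.ofAdd (1 : ZMod 2)) ≠ 1 := by decide
    rcases key a with rfl | rfl <;> rcases key b with rfl | rfl <;> simp [h1, h2]

theorem signTwo_ne {x : Multiplicative (ZMod 2)} (h : x ≠ 1) :
    x = Multiplicative.ofAdd 1 ∧ (signTwo x : ℂ) = -1 := by
  have key : ∀ z : Multiplicative (ZMod 2), z = 1 ∨ z = Multiplicative.ofAdd 1 := by decide
  refine ⟨(key x).resolve_left h, ?_⟩
  simp [signTwo, h]

/-- The centralizer of `s` is `⟨s⟩ × PSL₂(F)`. -/
structure CentData (s : G) (F : Type) [Field F] [Fintype F] [DecidableEq F] where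
  e : Subgroup.centralizer ({s} : Set G) ≃*
    Multiplicative (ZMod 2) × Matrix.ProjectiveSpecialLinearGroup (Fin 2) F
  he : e ⟨s, Subgroup.mem_centralizer_singleton_iff.2 rfl⟩ = (Multiplicative.ofAdd 1, 1)

namespace CentData

variable {s : G} (E : CentData s F)

/-- The sign of the centralizer. -/
noncomputable def sgn : Subgroup.centralizer ({s} : Set G) →* ℂˣ :=
  signTwo.comp ((MonoidHom.fst _ _).comp E.e.toMonoidHom)

/-- The projection of the centralizer to `PSL₂`. -/
def kappa : Subgroup.centralizer ({s} : Set G) →* Matrix.ProjectiveSpecialLinearGroup (Fin 2) F :=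
  (MonoidHom.snd _ _).comp E.e.toMonoidHom

theorem sgn_self : (E.sgn ⟨s, Subgroup.mem_centralizer_singleton_iff.2 rfl⟩ : ℂ) = -1 := by
  show (signTwo (E.e _).1 : ℂ) = -1
  rw [E.he]
  exact (signTwo_ne (show Multiplicative.ofAdd (1 : ZMod 2) ≠ 1 by decide)).2

theorem kappa_self : E.kappa ⟨s, Subgroup.mem_centralizer_singleton_iff.2 rfl⟩ = 1 := by
  show (E.e _).2 = 1
  rw [E.he]

theorem sgn_cases (x : Subgroup.centralizer ({s} : Set G)) :
    ((E.e x).1 = 1 ∧ (E.sgn x : ℂ) = 1) ∨
      ((E.e x).1 = Multiplicative.ofAdd 1 ∧ (E.sgn x : ℂ) = -1) := by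
  by_cases h : (E.e x).1 = 1
  · refine Or.inl ⟨h, ?_⟩
    show (signTwo (E.e x).1 : ℂ) = 1
    rw [h, map_one, Units.val_one]
  · exact Or.inr (signTwo_ne h)

theorem orderOf_s (E : CentData s F) : orderOf s = 2 := by
  have h1 : orderOf (⟨s, Subgroup.mem_centralizer_singleton_iff.2 rfl⟩ :
      Subgroup.centralizer ({s} : Set G)) = 2 := by
    rw [← orderOf_injective E.e.toMonoidHom E.e.injective]
    show orderOf (E.e _) = 2
    rw [E.he]
    refine orderOf_eq_prime ?_ ?_
    · refine Prod.ext ?_ (one_pow 2)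
      show (Multiplicative.ofAdd (1 : ZMod 2)) ^ 2 = 1
      decide
    · intro e
      exact (show Multiplicative.ofAdd (1 : ZMod 2) ≠ 1 by decide) (congrArg Prod.fst e)
  rwa [Subgroup.orderOf_mk] at h1

end CentData

/-- The descent of an even function to `PSL₂`. -/
noncomputable def bar (f : Matrix.SpecialLinearGroup (Fin 2) F → ℂ) :
    Matrix.ProjectiveSpecialLinearGroup (Fin 2) F → ℂ :=
  fun k => f (Function.surjInv prj_surjective k)

theorem bar_prj {f : SL2 → ℂ} (hf : IsEven f) (g : SL2) : bar f (prj g) = f g := by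
  set x := Function.surjInv prj_surjective (prj (F := F) g) with hx
  have h : prj (x * g⁻¹) = 1 := by
    rw [map_mul, map_inv, hx, Function.surjInv_eq prj_surjective, mul_inv_cancel]
  show f x = f g
  rcases prj_eq_one.1 h with e | e
  · rw [mul_inv_eq_one.1 e]
  · rw [mul_inv_eq_iff_eq_mul.1 e, hf]

theorem isEven_bar_one (f : PSL2 → ℂ) : IsEven (fun g => f (prj g)) := fun g => by
  show f (prj (-1 * g)) = _
  rw [prj_neg]

/-- Descent of generalized characters. -/
theorem bar_gen {f : SL2 → ℂ} (hg : IsGeneralizedCharacter SL2 f) (hf : IsEven f) :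
    IsGeneralizedCharacter PSL2 (bar f) := by
  classical
  have hc := isClassFunction_of_isGeneralizedCharacter hg
  choose m hm using (isGeneralizedCharacter_iff.mp hg).2
  have key : ∀ χ : IrrCharacter SL2, IsGeneralizedCharacter PSL2
      (fun k => ((m χ : ℂ) / 2) * ((χ : SL2 → ℂ) (Function.surjInv prj_surjective k) +
        (χ : SL2 → ℂ) (-1 * Function.surjInv prj_surjective k))) := by
    intro χ
    obtain ⟨sg, hs, e, e'⟩ := neg_sign χ
    rcases hs with rfl | rfl
    · obtain ⟨η, hη⟩ := CfsgLib.SL2Char.Projective.exists_projective χ (by rw [e]; simp)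
      have hη' : ∀ g : SL2, (η : PSL2 → ℂ) (prj g) = (χ : SL2 → ℂ) g := fun g => by
        rw [← hη]; rfl
      convert isGeneralizedCharacter_intCast_smul (isGeneralizedCharacter_irr η) (m χ) using 1
      funext k
      rw [e', Pi.smul_apply, smul_eq_mul]
      conv_rhs => rw [← Function.surjInv_eq prj_surjective k, hη']
      push_cast
      ring
    · convert isGeneralizedCharacter_zero (G := PSL2) using 1
      funext k
      rw [e']
      simp
  have : bar f = ∑ χ : IrrCharacter SL2, fun k => ((m χ : ℂ) / 2) *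
      ((χ : SL2 → ℂ) (Function.surjInv prj_surjective k) +
        (χ : SL2 → ℂ) (-1 * Function.surjInv prj_surjective k)) := by
    funext k
    rw [Finset.sum_apply]
    show f (Function.surjInv prj_surjective k) = _
    set x := Function.surjInv prj_surjective k
    have h1 := congrFun (classFunction_eq_sum hc) x
    have h2 := congrFun (classFunction_eq_sum hc) (-1 * x)
    rw [hf] at h2
    simp only [Finset.sum_apply, Pi.smul_apply, smul_eq_mul, hm] at h1 h2
    calc f x = (f x + f x) / 2 := by ring
      _ = _ := by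
        nth_rw 1 [h1]
        rw [h2, ← Finset.sum_add_distrib, Finset.sum_div]
        exact Finset.sum_congr rfl fun χ _ => by ring
  rw [this]
  exact isGeneralizedCharacter_sum _ fun χ _ => key χ

theorem sum_bar (h20 : (2 : F) ≠ 0) {f : SL2 → ℂ} (hf : IsEven f) [Fintype PSL2] :
    ∑ g : SL2, f g = 2 * ∑ k : PSL2, bar f k := by
  classical
  rw [Finset.mul_sum, ← Finset.sum_fiberwise (Finset.univ : Finset SL2) (fun g => prj g)]
  refine Finset.sum_congr rfl fun k _ => ?_
  obtain ⟨x, rfl⟩ := prj_surjective k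
  have hfib : (Finset.univ.filter fun g : SL2 => prj g = prj x) = {x, -1 * x} := by
    ext g
    simp only [Finset.mem_filter, Finset.mem_univ, true_and, Finset.mem_insert, Finset.mem_singleton]
    constructor
    · intro e
      have h : prj (g * x⁻¹) = 1 := by rw [map_mul, map_inv, e, mul_inv_cancel]
      rcases prj_eq_one.1 h with e' | e'
      · exact Or.inl (mul_inv_eq_one.1 e')
      · exact Or.inr (mul_inv_eq_iff_eq_mul.1 e')
    · rintro (rfl | rfl)
      · rfl
      · rw [prj_neg]
  have hne : x ≠ -1 * x := fun e => neg_one_ne_one h20 (mul_right_cancel (b := x) (by rw [one_mul, ← e]))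
  rw [hfib, Finset.sum_pair hne, hf, bar_prj hf]
  ring

section Ind

variable [Fintype G] {s : G} (E : CentData s F)

/-- The function on the centralizer attached to `f`. -/
noncomputable def CentData.phi (f : Matrix.SpecialLinearGroup (Fin 2) F → ℂ) :
    Subgroup.centralizer ({s} : Set G) → ℂ :=
  fun x => (1 - (E.sgn x : ℂ)) * bar f (E.kappa x)

/-- The function on `G` attached to `f`. -/
noncomputable def CentData.sec (f : Matrix.SpecialLinearGroup (Fin 2) F → ℂ) : G → ℂ :=
  Cfsg.indFun (Subgroup.centralizer ({s} : Set G)) (E.phi f)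

theorem CentData.sec_add (f g : SL2 → ℂ) : E.sec (f + g) = E.sec f + E.sec g := by
  rw [CentData.sec, CentData.sec, CentData.sec, ← CfsgLib.Induction.indFun_add]
  congr 1
  funext x
  simp only [CentData.phi, bar, Pi.add_apply]
  ring

theorem CentData.sec_sub (f g : SL2 → ℂ) : E.sec (f - g) = E.sec f - E.sec g := by
  rw [CentData.sec, CentData.sec, CentData.sec, ← CfsgLib.Induction.indFun_sub]
  congr 1
  funext x
  simp only [CentData.phi, bar, Pi.sub_apply]
  ring

theorem CentData.sec_smul (a : ℂ) (f : SL2 → ℂ) : E.sec (a • f) = a • E.sec f := by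
  rw [CentData.sec, CentData.sec, ← CfsgLib.Induction.indFun_smul]
  congr 1
  funext x
  simp only [CentData.phi, bar, Pi.smul_apply, smul_eq_mul]
  ring

theorem CentData.sec_sum {ι : Type*} (t : Finset ι) (f : ι → SL2 → ℂ) :
    E.sec (∑ i ∈ t, f i) = ∑ i ∈ t, E.sec (f i) := by
  simp only [CentData.sec]
  rw [← CfsgLib.Induction.indFun_sum]
  congr 1
  funext x
  simp only [CentData.phi, bar, Finset.sum_apply, Finset.mul_sum]

theorem CentData.sec_class (f : SL2 → ℂ) : IsClassFunction G (E.sec f) :=
  CfsgLib.Induction.isClassFunction_indFun (H := Subgroup.centralizer ({s} : Set G)) _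

theorem CentData.sec_gen {f : SL2 → ℂ} (hg : IsGeneralizedCharacter SL2 f) (hf : IsEven f) :
    IsGeneralizedCharacter G (E.sec f) := by
  classical
  obtain ⟨a, b, ha, hb, hab⟩ := bar_gen hg hf
  have h1 : IsGeneralizedCharacter (Subgroup.centralizer ({s} : Set G))
      (fun x => 1 - (E.sgn x : ℂ)) :=
    isGeneralizedCharacter_sub (isGeneralizedCharacter_of_isCharacter isCharacter_one)
      (isGeneralizedCharacter_of_isCharacter (isCharacter_of_irr (isIrrCharacter_of_hom E.sgn)))
  have h2 : IsGeneralizedCharacter (Subgroup.centralizer ({s} : Set G))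
      (fun x => bar f (E.kappa x)) :=
    ⟨_, _, CfsgLib.CharGalois.isCharacter_comp ha E.kappa, CfsgLib.CharGalois.isCharacter_comp hb E.kappa, funext fun x => congrFun hab _⟩
  obtain ⟨χ, ψ, hχ, hψ, hφ⟩ := isGeneralizedCharacter_mul h1 h2
  refine ⟨_, _, CfsgLib.Induction.isCharacter_indFun _ hχ, CfsgLib.Induction.isCharacter_indFun _ hψ, ?_⟩
  rw [← CfsgLib.Induction.indFun_sub, CentData.sec, ← hφ]
  rfl

theorem CentData.phi_ne_zero {f : SL2 → ℂ} (hs : OddSupp f)
    {x : Subgroup.centralizer ({s} : Set G)} (hx : E.phi f x ≠ 0) :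
    (E.e x).1 = Multiplicative.ofAdd 1 ∧ Odd (orderOf (E.kappa x)) := by
  rcases E.sgn_cases x with ⟨-, h⟩ | ⟨h, -⟩
  · exact absurd (by simp [CentData.phi, h]) hx
  · refine ⟨h, Nat.not_even_iff_odd.1 fun hev => hx ?_⟩
    show _ * f (Function.surjInv prj_surjective (E.kappa x)) = 0
    rw [hs _ (by rwa [Function.surjInv_eq prj_surjective]), mul_zero]

theorem CentData.pow_eq {f : SL2 → ℂ} (hs : OddSupp f)
    {x : Subgroup.centralizer ({s} : Set G)} (hx : E.phi f x ≠ 0) {m : ℕ} (hm : Odd m)
    (hdvd : orderOf (E.kappa x) ∣ m) : (x : G) ^ m = s := by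
  have h : x ^ m = ⟨s, Subgroup.mem_centralizer_singleton_iff.2 rfl⟩ := by
    apply E.e.injective
    rw [E.he, map_pow]
    refine Prod.ext ?_ ?_
    · rw [Prod.pow_fst, (E.phi_ne_zero hs hx).1]
      obtain ⟨k, rfl⟩ := hm
      rw [pow_succ, pow_mul, show (Multiplicative.ofAdd (1 : ZMod 2)) ^ 2 = 1 by decide, one_pow, one_mul]
    · rw [Prod.pow_snd]
      exact orderOf_dvd_iff_pow_eq_one.1 hdvd
  exact congrArg Subtype.val h

theorem CentData.sec_odd {f : SL2 → ℂ} (hs : OddSupp f) {g : G} (hg : Odd (orderOf g)) :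
    E.sec f g = 0 := by
  rw [CentData.sec, CfsgLib.Induction.indFun_apply]
  refine mul_eq_zero_of_right _ (Finset.sum_eq_zero fun x _ => ?_)
  by_cases hm : x⁻¹ * g * x ∈ Subgroup.centralizer ({s} : Set G)
  · rw [CfsgLib.Induction.extendByZero_mem _ _ hm]
    by_contra hne
    have h := E.pow_eq hs hne (E.phi_ne_zero hs hne).2 dvd_rfl
    have hord : orderOf (x⁻¹ * g * x) = orderOf g := by
      simpa using MulEquiv.orderOf_eq (MulAut.conj x⁻¹) g
    have hd : orderOf s ∣ orderOf g := hord ▸ h ▸ orderOf_pow_dvd _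
    rw [E.orderOf_s] at hd
    exact Nat.not_even_iff_odd.2 hg (even_iff_two_dvd.2 hd)
  · exact CfsgLib.Induction.extendByZero_notMem _ _ hm

theorem CentData.sec_one {f : SL2 → ℂ} (hs : OddSupp f) : E.sec f 1 = 0 :=
  E.sec_odd hs (by simp)

theorem CentData.sec_apply {f f' : SL2 → ℂ} (hs : OddSupp f) (hs' : OddSupp f')
    (hc : IsClassFunction (Subgroup.centralizer ({s} : Set G)) (E.phi f'))
    {x : Subgroup.centralizer ({s} : Set G)} (hx : E.phi f x ≠ 0) :
    E.sec f' (x : G) = E.phi f' x := by
  classical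
  have key : ∀ g : G, Cfsg.extendByZero (Subgroup.centralizer ({s} : Set G)) (E.phi f') (g⁻¹ * (x : G) * g) =
      if g ∈ Subgroup.centralizer ({s} : Set G) then E.phi f' x else 0 := by
    intro g
    split_ifs with hg
    · have hm : g⁻¹ * (x : G) * g ∈ Subgroup.centralizer ({s} : Set G) := Subgroup.mul_mem _ (Subgroup.mul_mem _ (Subgroup.inv_mem _ hg) x.2) hg
      rw [CfsgLib.Induction.extendByZero_mem (Subgroup.centralizer ({s} : Set G)) _ hm]
      have := hc x (⟨g, hg⟩ : Subgroup.centralizer ({s} : Set G))⁻¹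
      rw [inv_inv] at this
      exact this
    · by_cases hm : g⁻¹ * (x : G) * g ∈ Subgroup.centralizer ({s} : Set G)
      · rw [CfsgLib.Induction.extendByZero_mem (Subgroup.centralizer ({s} : Set G)) _ hm]
        by_contra hne
        have hodd := ((E.phi_ne_zero hs hx).2.mul (E.phi_ne_zero hs' hne).2)
        have h1 := E.pow_eq hs hx hodd (dvd_mul_right _ _)
        have h2 := E.pow_eq hs' hne hodd (dvd_mul_left _ _)
        rw [show ((⟨_, hm⟩ : Subgroup.centralizer ({s} : Set G)) : G) = g⁻¹ * (x : G) * (g⁻¹)⁻¹ by rw [inv_inv], conj_pow, h1, inv_inv] at h2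
        refine hg (Subgroup.mem_centralizer_singleton_iff.2 ?_)
        calc g * s = g * (g⁻¹ * s * g) := by rw [h2]
          _ = s * g := by group
      · exact CfsgLib.Induction.extendByZero_notMem (Subgroup.centralizer ({s} : Set G)) _ hm
  rw [CentData.sec, CfsgLib.Induction.indFun_apply, Finset.sum_congr rfl fun g _ => key g,
    ← Finset.sum_filter, Finset.sum_const, nsmul_eq_mul]
  have hcard : (Finset.univ.filter (fun g => g ∈ Subgroup.centralizer ({s} : Set G))).card = Nat.card (Subgroup.centralizer ({s} : Set G)) := by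
    rw [Nat.card_eq_fintype_card, Fintype.card_subtype]
  rw [hcard, ← mul_assoc, inv_mul_cancel₀ (CfsgLib.Induction.natCard_ne_zero' (X := Subgroup.centralizer ({s} : Set G))), one_mul]

theorem CentData.sum_cent [Fintype (Subgroup.centralizer ({s} : Set G))] [Fintype PSL2]
    (φ : Subgroup.centralizer ({s} : Set G) → ℂ)
    (h0 : ∀ x, (E.e x).1 = 1 → φ x = 0) :
    ∑ x, φ x = ∑ k : PSL2, φ (E.e.symm (Multiplicative.ofAdd 1, k)) := by
  rw [← Equiv.sum_comp E.e.symm.toEquiv φ, Fintype.sum_prod_type,
    Finset.sum_eq_single (Multiplicative.ofAdd (1 : ZMod 2))]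
  · rfl
  · intro a _ ha
    refine Finset.sum_eq_zero fun k _ => h0 _ ?_
    show (E.e (E.e.symm (a, k))).1 = 1
    rw [E.e.apply_symm_apply]
    by_contra h
    exact ha (signTwo_ne h).1
  · simp

theorem CentData.card_cent (E : CentData s F) [Fintype PSL2] :
    (Nat.card (Subgroup.centralizer ({s} : Set G)) : ℂ) = 2 * Fintype.card PSL2 := by
  have h1 : Nat.card (Multiplicative (ZMod 2)) = 2 := Nat.card_zmod 2
  rw [Nat.card_congr E.e.toEquiv, Nat.card_prod, h1, Nat.card_eq_fintype_card]
  push_cast
  ring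

theorem card_sl_eq (h20 : (2 : F) ≠ 0) [Fintype PSL2] :
    (Nat.card SL2 : ℂ) = 2 * Fintype.card PSL2 := by
  have h := sum_bar h20 (f := fun _ : SL2 => (1 : ℂ)) (fun _ => rfl)
  simp only [bar, Finset.sum_const, Finset.card_univ, nsmul_eq_mul, mul_one] at h
  rw [Nat.card_eq_fintype_card, h]

theorem CentData.sec_inner (h20 : (2 : F) ≠ 0) {f f' : SL2 → ℂ} (he : IsEven f) (hs : OddSupp f)
    (hg' : IsGeneralizedCharacter SL2 f') (he' : IsEven f') (hs' : OddSupp f') :
    classInner (E.sec f) (E.sec f') = 2 * classInner f f' := by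
  classical
  set C := Subgroup.centralizer ({s} : Set G)
  have : Fintype C := Fintype.ofFinite _
  have : Fintype PSL2 := Fintype.ofFinite _
  have hc : IsClassFunction C (E.phi f') := fun a b => by
    have hb := isClassFunction_of_isGeneralizedCharacter (bar_gen hg' he')
    simp only [CentData.phi, map_mul, map_inv, Units.val_mul, hb (E.kappa a) (E.kappa b)]
    rw [mul_comm ((E.sgn b : ℂ)), mul_assoc, Units.val_inv_eq_inv_val,
      mul_inv_cancel₀ (Units.ne_zero _), mul_one]
  conv_lhs => rw [CentData.sec]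
  rw [CfsgLib.Induction.classInner_indFun C _ (E.sec_class f')]
  have e1 : classInner (E.phi f) (fun x : C => E.sec f' x) = classInner (E.phi f) (E.phi f') := by
    unfold classInner
    congr 1
    refine Finset.sum_congr rfl fun x _ => ?_
    by_cases hx : E.phi f x = 0
    · simp [hx]
    · simp only [E.sec_apply hs hs' hc hx]
  rw [e1]
  unfold classInner
  have hff : IsEven (fun g => f g * conj (f' g)) := fun g => by
    show f _ * conj (f' _) = f g * conj (f' g)
    rw [he g, he' g]
  rw [sum_bar h20 hff, E.sum_cent _ (fun x hx => by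
    rcases E.sgn_cases x with ⟨-, h⟩ | ⟨h', -⟩
    · simp [CentData.phi, h]
    · exact absurd (hx.symm.trans h') (by decide)),
    E.card_cent, card_sl_eq h20,
    Finset.sum_congr rfl (g := fun k : PSL2 => 4 * bar (fun g => f g * conj (f' g)) k) fun k _ => ?_]
  · rw [← Finset.mul_sum]
    ring
  · have hk : E.kappa (E.e.symm (Multiplicative.ofAdd 1, k)) = k := by
      show (E.e (E.e.symm _)).2 = k
      rw [E.e.apply_symm_apply]
    have hsg : (E.sgn (E.e.symm (Multiplicative.ofAdd 1, k)) : ℂ) = -1 := by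
      show (signTwo (E.e (E.e.symm _)).1 : ℂ) = -1
      rw [E.e.apply_symm_apply]
      exact (signTwo_ne (show Multiplicative.ofAdd (1 : ZMod 2) ≠ 1 by decide)).2
    simp only [CentData.phi, hk, hsg, map_mul, sub_neg_eq_add, map_add, map_one, bar]
    ring

/-- The coefficient of the regular function is the value at `s`. -/
theorem CentData.sec_reg [Fintype PSL2] {χ : G → ℂ} (hχ : IsClassFunction G χ) :
    classInner (E.sec (fun g : SL2 => if g = 1 ∨ g = -1 then (Fintype.card PSL2 : ℂ) else 0)) χ =
      conj (χ s) := by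
  classical
  set C := Subgroup.centralizer ({s} : Set G)
  have : Fintype C := Fintype.ofFinite _
  rw [CentData.sec, CfsgLib.Induction.classInner_indFun C _ hχ]
  unfold classInner
  rw [E.sum_cent _ (fun x hx => by
    rcases E.sgn_cases x with ⟨-, h⟩ | ⟨h', -⟩
    · simp [CentData.phi, h]
    · exact absurd (hx.symm.trans h') (by decide)),
    E.card_cent, Finset.sum_eq_single (1 : PSL2)]
  · have hx : E.e.symm (Multiplicative.ofAdd 1, 1) = ⟨s, Subgroup.mem_centralizer_singleton_iff.2 rfl⟩ := by
      rw [← E.he, E.e.symm_apply_apply]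
    have h1 : Function.surjInv prj_surjective (1 : PSL2) = 1 ∨
        Function.surjInv prj_surjective (1 : PSL2) = (-1 : SL2) :=
      prj_eq_one.1 (Function.surjInv_eq prj_surjective 1)
    rw [hx]
    simp only [CentData.phi, bar, E.sgn_self, E.kappa_self, if_pos h1]
    have : (Fintype.card PSL2 : ℂ) ≠ 0 := Nat.cast_ne_zero.2 Fintype.card_ne_zero
    field_simp
    ring
  · intro k _ hk
    have hk' : E.kappa (E.e.symm (Multiplicative.ofAdd 1, k)) = k := by
      show (E.e (E.e.symm _)).2 = k
      rw [E.e.apply_symm_apply]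
    simp only [CentData.phi, bar, hk']
    rw [if_neg (fun h => hk (by rw [← Function.surjInv_eq prj_surjective k]; exact prj_eq_one.2 h))]
    simp
  · simp

end Ind

end CfsgLib.ReeType
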