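import Cfsg.Prelude.Def_LocalEven
import Cfsg.Agent.Lib.ReeType.Psl
import Cfsg.Agent.Lib.ReeType.Section
import Cfsg.Agent.Lib.SmallRee.SylowTwo
import Cfsg.Agent.Lib.ReeType.Klein

/-!
The local frame of a group of Ree type: an involution `t₀`, a conjugate `s` of it in the four group
of the complement, and an element of order three that cycles that four group.
-/

set_option autoImplicit false
set_option linter.unusedSectionVars false

namespace CfsgLib.ReeType

open Matrix Cfsg
open CfsgLib.SL2Char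

universe u

variable {G : Type u} [Group G]
variable {F : Type} [Field F] [Fintype F] [DecidableEq F]

local notation "PSL2" => Matrix.ProjectiveSpecialLinearGroup (Fin 2) F

/-- Transport of the centralizer structure along conjugation. -/
theorem CentData.exists_of_isConj {t s : G} (E : CentData t F) (h : IsConj t s) :
    Nonempty (CentData s F) := by
  obtain ⟨g, rfl⟩ := isConj_iff.1 h
  let φ : Subgroup.centralizer ({g * t * g⁻¹} : Set G) ≃* Subgroup.centralizer ({t} : Set G) :=
    { toFun := fun x => ⟨g⁻¹ * x * g, Subgroup.mem_centralizer_singleton_iff.2 (by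
          calc g⁻¹ * (x : G) * g * t = g⁻¹ * ((x : G) * (g * t * g⁻¹)) * g := by group
            _ = t * (g⁻¹ * (x : G) * g) := by rw [Subgroup.mem_centralizer_singleton_iff.1 x.2]; group)⟩
      invFun := fun x => ⟨g * x * g⁻¹, Subgroup.mem_centralizer_singleton_iff.2 (by
          calc g * (x : G) * g⁻¹ * (g * t * g⁻¹) = g * ((x : G) * t) * g⁻¹ := by group
            _ = g * t * g⁻¹ * (g * (x : G) * g⁻¹) := by rw [Subgroup.mem_centralizer_singleton_iff.1 x.2]; group)⟩
      left_inv := fun x => Subtype.ext (by simp [mul_assoc])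
      right_inv := fun x => Subtype.ext (by simp [mul_assoc])
      map_mul' := fun x y => Subtype.ext (by simp [mul_assoc]) }
  refine ⟨⟨φ.trans E.e, ?_⟩⟩
  rw [MulEquiv.trans_apply,
    show φ ⟨g * t * g⁻¹, Subgroup.mem_centralizer_singleton_iff.2 rfl⟩ =
      ⟨t, Subgroup.mem_centralizer_singleton_iff.2 rfl⟩ from Subtype.ext (by
        show g⁻¹ * (g * t * g⁻¹) * g = t
        group), E.he]

/-- The centralizer structure from an internal direct product. -/
theorem exists_centData {t : G} (ht : orderOf t = 2) {K : Subgroup G}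
    (hdp : IsInternalDirectProduct (Subgroup.zpowers t) K (Subgroup.centralizer ({t} : Set G)))
    (ek : K ≃* Matrix.ProjectiveSpecialLinearGroup (Fin 2) F) : Nonempty (CentData t F) := by
  classical
  obtain ⟨h1, h2, hcomm, hbot, hsup⟩ := hdp
  set C := Subgroup.centralizer ({t} : Set G)
  have htC : t ∈ C := Subgroup.mem_centralizer_singleton_iff.2 rfl
  have ht2 : t * t = 1 := CfsgLib.Involutions.mul_self_eq_one ht
  let ι : Multiplicative (ZMod 2) →* C :=
    { toFun := fun a => if a = 1 then 1 else ⟨t, htC⟩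
      map_one' := if_pos rfl
      map_mul' := fun a b => by
        have key : ∀ z : Multiplicative (ZMod 2), z = 1 ∨ z = Multiplicative.ofAdd 1 := by decide
        have e1 : (Multiplicative.ofAdd (1 : ZMod 2)) ≠ 1 := by decide
        have e2 : (Multiplicative.ofAdd (1 : ZMod 2)) * Multiplicative.ofAdd 1 = 1 := by decide
        rcases key a with rfl | rfl <;> rcases key b with rfl | rfl <;> simp [e1, e2]
        exact Subtype.ext ht2.symm }
  have hι1 : ι (Multiplicative.ofAdd 1) = ⟨t, htC⟩ := by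
    show (if Multiplicative.ofAdd (1 : ZMod 2) = 1 then (1 : C) else ⟨t, htC⟩) = _
    exact if_neg (by decide)
  let j : Matrix.ProjectiveSpecialLinearGroup (Fin 2) F →* C :=
    (Subgroup.inclusion h2).comp ek.symm.toMonoidHom
  have hιmem : ∀ a, (ι a : G) ∈ Subgroup.zpowers t := fun a => by
    show ((if a = 1 then (1 : C) else ⟨t, htC⟩ : C) : G) ∈ _
    split_ifs
    · exact Subgroup.one_mem _
    · exact Subgroup.mem_zpowers t
  let f : Multiplicative (ZMod 2) × Matrix.ProjectiveSpecialLinearGroup (Fin 2) F →* C :=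
    { toFun := fun p => ι p.1 * j p.2
      map_one' := by simp
      map_mul' := fun p p' => by
        show ι (p.1 * p'.1) * j (p.2 * p'.2) = ι p.1 * j p.2 * (ι p'.1 * j p'.2)
        rw [map_mul, map_mul]
        have hc : ι p'.1 * j p.2 = j p.2 * ι p'.1 :=
          Subtype.ext (hcomm _ (hιmem _) _ (ek.symm p.2).2)
        rw [mul_assoc, ← mul_assoc (ι p'.1), hc, mul_assoc, ← mul_assoc] }
  have hinj : Function.Injective f := by
    rw [← MonoidHom.ker_eq_bot_iff, Subgroup.eq_bot_iff_forall]
    intro p hp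
    have h' : (ι p.1 : G) * ((ek.symm p.2 : K) : G) = 1 := congrArg Subtype.val (MonoidHom.mem_ker.1 hp)
    have hk : ((ek.symm p.2 : K) : G) ∈ Subgroup.zpowers t ⊓ K :=
      ⟨by rw [eq_inv_of_mul_eq_one_right h']; exact Subgroup.inv_mem _ (hιmem _), (ek.symm p.2).2⟩
    rw [hbot, Subgroup.mem_bot] at hk
    rw [hk, mul_one] at h'
    refine Prod.ext ?_ ?_
    · by_contra ha
      have : ι p.1 = ⟨t, htC⟩ := if_neg ha
      rw [this] at h'
      exact CfsgLib.Involutions.ne_one_of_involution ht h'
    · have : ek.symm p.2 = 1 := Subtype.ext hk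
      simpa using congrArg ek this
  have hsurj : Function.Surjective f := by
    intro x
    have hx : (x : G) ∈ Subgroup.zpowers t ⊔ K := by rw [hsup]; exact x.2
    rw [← SetLike.mem_coe, Subgroup.coe_mul_of_left_le_normalizer_right _ _ (fun g hg => by
      rw [Subgroup.mem_normalizer_iff]
      intro k
      constructor <;> intro hk
      · rwa [hcomm g hg k hk, mul_inv_cancel_right]
      · have := hcomm g⁻¹ (inv_mem hg) _ hk
        rw [show k = g⁻¹ * (g * k * g⁻¹) * g by group, this, mul_assoc, inv_mul_cancel, mul_one]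
        exact hk)] at hx
    obtain ⟨a, ha, b, hb, hab⟩ := hx
    obtain ⟨a', ha'⟩ : ∃ a', (ι a' : G) = a := by
      rcases CfsgLib.InvChar.KleinCentralizer.cases_of_mem_zpowers ht ha with e | e
      · exact ⟨1, by rw [map_one, e]; rfl⟩
      · exact ⟨Multiplicative.ofAdd 1, by
          rw [e, hι1]⟩
    exact ⟨(a', ek ⟨b, hb⟩), Subtype.ext (by
      show (ι a' : G) * ((ek.symm (ek ⟨b, hb⟩) : K) : G) = x
      rw [ek.symm_apply_apply, ha']; exact hab)⟩
  refine ⟨⟨(MulEquiv.ofBijective f ⟨hinj, hsurj⟩).symm, ?_⟩⟩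
  rw [MulEquiv.symm_apply_eq]
  refine Subtype.ext ?_
  show t = (ι (Multiplicative.ofAdd 1) : G) * ((ek.symm 1 : K) : G)
  rw [hι1, map_one, OneMemClass.coe_one,
    mul_one]

/-- The local frame. -/
structure Frame (G : Type u) [Group G] (F : Type) [Field F] [Fintype F] [DecidableEq F] where
  t₀ : G
  s : G
  E₀ : CentData t₀ F
  E : CentData s F
  c : Matrix.SpecialLinearGroup (Fin 2) F
  h : ℕ
  n : ℕ
  A : Subgroup G
  y : G
  data : Data c h n
  hq : ∃ k : ℕ, 1 ≤ k ∧ Fintype.card F = 3 ^ (2 * k + 1)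
  conj : IsConj t₀ s
  odd_index : Odd (Subgroup.centralizer ({t₀} : Set G)).index
  ord_c : orderOf (prj c) = 2 * n
  torus_out : ∀ x, Commute (prj (c ^ n)) x → x ∉ Subgroup.zpowers (prj c) → x * x = 1
  torus_cent : ∀ z ∈ Subgroup.zpowers (prj c), z ≠ 1 → ∀ g, Commute z g → Commute (prj (c ^ n)) g
  hAC : A ≤ Subgroup.centralizer ({s} : Set G)
  hA : ∀ z : Subgroup.centralizer ({s} : Set G),
    (z : G) ∈ A ↔ E.kappa z ∈ Subgroup.zpowers (prj c)
  y_three : orderOf y = 3
  y_comm : Commute y t₀
  y_norm : ∀ a ∈ A, y⁻¹ * a * y ∈ A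
  y_s : y⁻¹ * s * y = s * (E.e.symm (1, prj (c ^ n)) : G)
  y_s2 : y⁻¹ * (E.e.symm (1, prj (c ^ n)) : G) * y = s

end CfsgLib.ReeType
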