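import Cfsg.Agent.Lib.ReeType.Three

/-!
The centralizer of an element of order three of a frame: an abelian normal subgroup of order prime
to six.
-/

set_option autoImplicit false
set_option linter.unusedSectionVars false

namespace CfsgLib.ReeType

open Matrix Cfsg

universe u

/-- Elements of order prime to `p` lie in the kernel of a homomorphism to a `p`-group. -/
theorem mem_ker_of_coprime {L P : Type*} [Group L] [Group P] [Finite P] (φ : L →* P) {x : L} {k : ℕ}
    (hk : x ^ k = 1) (hcop : k.Coprime (Nat.card P)) : x ∈ φ.ker := by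
  rw [MonoidHom.mem_ker, ← orderOf_eq_one_iff]
  refine Nat.eq_one_of_dvd_coprimes hcop ?_ (orderOf_dvd_natCard _)
  exact orderOf_dvd_of_pow_eq_one (by rw [← map_pow, hk, map_one])

variable {G : Type u} [Group G] [Finite G]
variable {F : Type} [Field F] [Fintype F] [DecidableEq F]

namespace Frame

variable (Fr : Frame G F)

theorem exists_odd_core (h3 : ¬ 3 ∣ (Subgroup.centralizer ({Fr.t₀} : Set G)).index) :
    ∀ a b : G, Commute a Fr.y → Commute b Fr.y → ∀ k : ℕ, k.Coprime 6 → a ^ k = 1 → b ^ k = 1 →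
      Commute a b := by
  classical
  have : Fact (Nat.Prime 2) := ⟨Nat.prime_two⟩
  have : Fact (Nat.Prime 3) := ⟨Nat.prime_three⟩
  set L := Subgroup.centralizer ({Fr.y} : Set G) with hL
  have hty : Fr.t₀ ∈ L := Subgroup.mem_centralizer_singleton_iff.2 Fr.y_comm.symm.eq
  have hEL : Fr.E3 ≤ L := fun a ha => Subgroup.mem_centralizer_singleton_iff.2 (Fr.E3_y ha).eq
  set t : L := ⟨Fr.t₀, hty⟩ with htdef
  have ht2 : orderOf t = 2 := by rw [htdef, Subgroup.orderOf_mk, Fr.orderOf_t₀]
  -- centralizer of `t` in `L`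
  have hD : ∀ x : L, Commute x t → ((x : G) ^ 6 = 1 ∧ ∀ e ∈ Fr.E3, Commute (x : G) e) := by
    intro x hx
    have h1 : Commute (x : G) Fr.t₀ := congrArg Subtype.val hx
    have h2 : Commute (x : G) Fr.y := Subgroup.mem_centralizer_singleton_iff.1 x.2
    obtain ⟨a, ha, e | e⟩ := Fr.cases_of_commute h1 h2 <;> rw [e]
    · exact ⟨by rw [show 6 = 3 * 2 by rfl, pow_mul, Fr.E3_cube ha, one_pow],
        fun b hb => Fr.E3_comm ha hb⟩
    · refine ⟨?_, fun b hb => ((Fr.E3_t₀ hb).symm).mul_left (Fr.E3_comm ha hb)⟩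
      rw [(Fr.E3_t₀ ha).symm.mul_pow, show 6 = 3 * 2 by rfl, pow_mul a, Fr.E3_cube ha, one_pow, mul_one,
        pow_mul', ← Fr.orderOf_t₀, pow_orderOf_eq_one, one_pow]
  have hD2 : ∀ x : L, Commute x t → ∀ m : ℕ, x ^ (2 ^ m) = 1 → x = 1 ∨ x = t := by
    intro x hx m hm
    have hx2 : x ^ 2 = 1 := by
      rw [← orderOf_dvd_iff_pow_eq_one]
      have h6 : x ^ 6 = 1 := Subtype.ext (hD x hx).1
      have := Nat.dvd_gcd (orderOf_dvd_of_pow_eq_one h6) (orderOf_dvd_of_pow_eq_one hm)
      refine this.trans ?_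
      rcases m with _ | m
      · norm_num
      · rw [pow_succ', show (6 : ℕ) = 2 * 3 by rfl, Nat.gcd_mul_left,
          Nat.Coprime.gcd_eq_one ((Nat.coprime_primes Nat.prime_three Nat.prime_two).2 (by norm_num) |>.pow_right m)]
    have h1 : Commute (x : G) Fr.t₀ := congrArg Subtype.val hx
    have h2 : Commute (x : G) Fr.y := Subgroup.mem_centralizer_singleton_iff.1 x.2
    obtain ⟨a, ha, e | e⟩ := Fr.cases_of_commute h1 h2
    all_goals
      have hg2 : (x : G) ^ 2 = 1 := congrArg Subtype.val hx2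
      have ha3 := Fr.E3_cube ha
    · left
      refine Subtype.ext ?_
      rw [e] at hg2
      rw [e]
      calc a = a ^ 3 * (a ^ 2)⁻¹ := by group
        _ = 1 := by rw [ha3, hg2, inv_one, mul_one]
    · right
      refine Subtype.ext ?_
      rw [e, (Fr.E3_t₀ ha).symm.mul_pow, ← Fr.orderOf_t₀, pow_orderOf_eq_one, one_mul,
        Fr.orderOf_t₀] at hg2
      have : a = 1 := by
        calc a = a ^ 3 * (a ^ 2)⁻¹ := by group
          _ = 1 := by rw [ha3, hg2, inv_one, mul_one]
      rw [e, this, mul_one]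
  -- Sylow 2-subgroup of `L`
  obtain ⟨P2, hP2⟩ : ∃ P : Sylow 2 L, (P : Subgroup L) = Subgroup.zpowers t := by
    obtain ⟨P, hP⟩ := (CfsgLib.Involutions.isPGroup_two_zpowers ht2).exists_le_sylow
    refine ⟨P, le_antisymm ?_ hP⟩
    by_contra hle
    have : Group.IsNilpotent (P : Subgroup L) := P.isPGroup'.isNilpotent
    have hlt : (Subgroup.zpowers t).subgroupOf (P : Subgroup L) < ⊤ :=
      lt_top_iff_ne_top.2 fun e => hle (Subgroup.subgroupOf_eq_top.1 e)
    have := Group.normalizerCondition_of_isNilpotent (G := (P : Subgroup L)) _ hlt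
    refine this.2 fun x hx => ?_
    rw [Subgroup.mem_normalizer_iff] at hx
    have h1 : (x : L) * t * (x : L)⁻¹ ∈ Subgroup.zpowers t :=
      (hx ⟨t, hP (Subgroup.mem_zpowers t)⟩).1 (Subgroup.mem_subgroupOf.2 (Subgroup.mem_zpowers t))
    have hcx : Commute (x : L) t := by
      rcases CfsgLib.InvChar.KleinCentralizer.cases_of_mem_zpowers ht2 h1 with e | e
      · exact absurd (conj_eq_one_iff.1 e) (CfsgLib.Involutions.ne_one_of_involution ht2)
      · exact mul_inv_eq_iff_eq_mul.1 e
    obtain ⟨m, hm⟩ := P.isPGroup' x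
    rw [Subgroup.mem_subgroupOf]
    rcases hD2 _ hcx m (congrArg Subtype.val hm) with e | e <;> rw [e]
    · exact Subgroup.one_mem _
    · exact Subgroup.mem_zpowers t
  have hP2n : Subgroup.normalizer ((P2 : Subgroup L) : Set L) ≤
      Subgroup.centralizer ((P2 : Subgroup L) : Set L) := by
    intro g hg
    rw [hP2] at hg ⊢
    rw [Subgroup.mem_normalizer_iff] at hg
    have h1 := (hg t).1 (Subgroup.mem_zpowers t)
    have hgt : Commute g t := by
      rcases CfsgLib.InvChar.KleinCentralizer.cases_of_mem_zpowers ht2 h1 with e | e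
      · exact absurd (conj_eq_one_iff.1 e) (CfsgLib.Involutions.ne_one_of_involution ht2)
      · exact mul_inv_eq_iff_eq_mul.1 e
    rw [Subgroup.mem_centralizer_iff]
    rintro _ ⟨i, rfl⟩
    exact (hgt.zpow_right i).eq.symm
  -- Sylow 3-subgroup of `L`
  have hcard3 : Nat.card (Fr.E3.subgroupOf L) = 3 ^ (Nat.card L).factorization 3 := by
    rw [Nat.card_congr (Subgroup.subgroupOfEquivOfLe hEL).toEquiv, Fr.factorization_of_le h3 hEL, Fr.card_E3]
  let P3 : Sylow 3 L := Sylow.ofCard (p := 3) (Fr.E3.subgroupOf L) hcard3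
  have hP3 : ∀ x : L, x ∈ (P3 : Subgroup L) ↔ (x : G) ∈ Fr.E3 := fun x => Subgroup.mem_subgroupOf
  have hP2c : Nat.card (P2 : Subgroup L) = 2 := by rw [hP2, Nat.card_zpowers, ht2]
  have hP3n : Subgroup.normalizer ((P3 : Subgroup L) : Set L) ≤
      Subgroup.centralizer ((P3 : Subgroup L) : Set L) := by
    intro g hg
    set C' := Subgroup.centralizer ((P3 : Subgroup L) : Set L) with hC'
    have htC : t ∈ C' := Subgroup.mem_centralizer_iff.2 fun e he =>
      Subtype.ext (Fr.E3_t₀ ((hP3 e).1 he)).eq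
    have hconj : g * t * g⁻¹ ∈ C' := Subgroup.mem_centralizer_iff.2 fun e he => by
      have he' : g⁻¹ * e * g ∈ (P3 : Subgroup L) :=
        (Subgroup.mem_normalizer_iff''.1 hg e).1 he
      have hc := Subgroup.mem_centralizer_iff.1 htC _ he'
      calc e * (g * t * g⁻¹) = g * ((g⁻¹ * e * g) * t) * g⁻¹ := by group
        _ = g * (t * (g⁻¹ * e * g)) * g⁻¹ := by rw [hc]
        _ = _ := by group
    have hfac : 2 ^ (Nat.card C').factorization 2 = 2 := by
      have hd : 2 ∣ Nat.card C' := by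
        rw [← ht2, ← Subgroup.orderOf_mk t htC]; exact orderOf_dvd_natCard _
      have h1 : (Nat.card C').factorization 2 ≤ (Nat.card L).factorization 2 :=
        (Nat.factorization_le_iff_dvd Nat.card_pos.ne' Nat.card_pos.ne').2 C'.card_subgroup_dvd_card 2
      have h2 : 2 ^ (Nat.card L).factorization 2 = 2 ^ 1 := by rw [← P2.card_eq_multiplicity, hP2c, pow_one]
      have h2' := Nat.pow_right_injective (le_refl 2) h2
      have h4 := Nat.prime_two.factorization_pos_of_dvd Nat.card_pos.ne' hd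
      rw [show (Nat.card C').factorization 2 = 1 by omega, pow_one]
    let Q : Sylow 2 C' := Sylow.ofCard (p := 2) (Subgroup.zpowers ⟨t, htC⟩)
      (by rw [Nat.card_zpowers, Subgroup.orderOf_mk, ht2, hfac])
    let Q' : Sylow 2 C' := Sylow.ofCard (p := 2) (Subgroup.zpowers ⟨g * t * g⁻¹, hconj⟩)
      (by rw [Nat.card_zpowers, Subgroup.orderOf_mk, CfsgLib.Involutions.orderOf_conj_eq, ht2, hfac])
    obtain ⟨d, hd⟩ := MulAction.exists_smul_eq C' Q Q'
    have hmem : d * ⟨t, htC⟩ * d⁻¹ ∈ Subgroup.zpowers (⟨g * t * g⁻¹, hconj⟩ : C') := by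
      have : d * ⟨t, htC⟩ * d⁻¹ ∈ ((d • Q : Sylow 2 C') : Subgroup C') := by
        rw [Sylow.coe_subgroup_smul]
        exact ⟨⟨t, htC⟩, Subgroup.mem_zpowers _, rfl⟩
      rw [hd] at this
      exact this
    have hgd : (d : L) * t * (d : L)⁻¹ = g * t * g⁻¹ := by
      rcases CfsgLib.InvChar.KleinCentralizer.cases_of_mem_zpowers
        (by rw [Subgroup.orderOf_mk, CfsgLib.Involutions.orderOf_conj_eq, ht2]) hmem with e | e
      · exfalso
        have := conj_eq_one_iff.1 e
        exact CfsgLib.Involutions.ne_one_of_involution ht2 (congrArg Subtype.val this)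
      · exact congrArg Subtype.val e
    have hc : Commute ((d : L)⁻¹ * g) t := by
      show _ * _ = _ * _
      calc (d : L)⁻¹ * g * t = (d : L)⁻¹ * (g * t * g⁻¹) * g := by group
        _ = (d : L)⁻¹ * ((d : L) * t * (d : L)⁻¹) * g := by rw [hgd]
        _ = t * ((d : L)⁻¹ * g) := by group
    have hmemC : (d : L)⁻¹ * g ∈ C' := Subgroup.mem_centralizer_iff.2 fun e he =>
      Subtype.ext ((hD _ hc).2 _ ((hP3 e).1 he)).eq.symm
    have := Subgroup.mul_mem _ d.2 hmemC
    rwa [mul_inv_cancel_left] at this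
  -- the core
  set O : Subgroup L := (MonoidHom.transferSylow P2 hP2n).ker ⊓ (MonoidHom.transferSylow P3 hP3n).ker with hO
  have hO2 : ¬ 2 ∣ Nat.card O := fun h => MonoidHom.not_dvd_card_ker_transferSylow P2 hP2n
    (h.trans (Subgroup.card_dvd_of_le inf_le_left))
  have hO3 : ¬ 3 ∣ Nat.card O := fun h => MonoidHom.not_dvd_card_ker_transferSylow P3 hP3n
    (h.trans (Subgroup.card_dvd_of_le inf_le_right))
  have hO6 : (Nat.card O).Coprime 6 := by
    rw [show (6 : ℕ) = 2 * 3 by rfl]
    exact Nat.Coprime.mul_right (Nat.coprime_comm.1 ((Nat.prime_two.coprime_iff_not_dvd).2 hO2))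
      (Nat.coprime_comm.1 ((Nat.prime_three.coprime_iff_not_dvd).2 hO3))
  let φ : O ≃* O := MulAut.conjNormal t
  have hfpf : MonoidHom.FixedPointFree (φ : O →* O) := by
    intro x hx
    have e : t * (x : L) * t⁻¹ = (x : L) := by
      have h' : ((φ x : O) : L) = x := congrArg Subtype.val hx
      rwa [show ((φ x : O) : L) = t * x * t⁻¹ from MulAut.conjNormal_apply t x] at h'
    have hc : Commute (x : L) t := (mul_inv_eq_iff_eq_mul.1 e).symm
    have h6 : x ^ 6 = 1 := Subtype.ext (Subtype.ext (hD _ hc).1)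
    have := Nat.eq_one_of_dvd_coprimes hO6 (orderOf_dvd_natCard x) (orderOf_dvd_of_pow_eq_one h6)
    exact orderOf_eq_one_iff.1 this
  have hinv : Function.Involutive (φ : O →* O) := fun x => Subtype.ext (by
    show ((φ (φ x) : O) : L) = x
    rw [MulAut.conjNormal_apply, MulAut.conjNormal_apply]
    have ht1 : t * t = 1 := CfsgLib.Involutions.mul_self_eq_one ht2
    rw [CfsgLib.Involutions.inv_eq_self_of_involution ht2, show t * (t * (x : L) * t) * t = t * t * x * (t * t) by group,
      ht1, one_mul, mul_one])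
  intro a b ha hb k hk hak hbk
  have hcop : ∀ p e : ℕ, p ∣ 6 → k.Coprime (p ^ e) := fun p e hp => (hk.coprime_dvd_right hp).pow_right e
  have hmem : ∀ (x : G) (hx : Commute x Fr.y), x ^ k = 1 →
      (⟨x, Subgroup.mem_centralizer_singleton_iff.2 hx.eq⟩ : L) ∈ O := by
    intro x hx hxk
    refine ⟨mem_ker_of_coprime _ (k := k) (Subtype.ext hxk) ?_, mem_ker_of_coprime _ (k := k) (Subtype.ext hxk) ?_⟩
    · rw [P2.card_eq_multiplicity]; exact hcop 2 _ (by norm_num)
    · rw [P3.card_eq_multiplicity]; exact hcop 3 _ (by norm_num)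
  have := hfpf.commute_all_of_involutive hinv ⟨_, hmem a ha hak⟩ ⟨_, hmem b hb hbk⟩
  exact congrArg (fun z : O => ((z : L) : G)) this

end Frame

end CfsgLib.ReeType
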