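import Cfsg.Agent.Lib.SL2Char.Table
import Cfsg.Agent.Lib.SL2Char.Values
import Cfsg.Agent.Lib.SL2Char.Blocks
import Cfsg.Agent.Lib.Characters.Decomp

/-!
Functions on `SL₂(q)`, `q ≡ 3 (mod 8)`, that factor through `PSL₂(q)` and vanish on the elements
of even image order.
-/

set_option autoImplicit false
set_option linter.unusedSectionVars false

namespace CfsgLib.ReeType

open Matrix Cfsg
open CfsgLib.SL2Tori CfsgLib.Schur CfsgLib.Characters CfsgLib.SL2Char
open scoped ComplexConjugate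

variable {F : Type} [Field F] [Fintype F] [DecidableEq F]

local notation "SL2" => Matrix.SpecialLinearGroup (Fin 2) F
local notation "M2" => Matrix (Fin 2) (Fin 2) F
local notation "PSL2" => Matrix.ProjectiveSpecialLinearGroup (Fin 2) F

/-- The projection to `PSL₂`. -/
def prj : Matrix.SpecialLinearGroup (Fin 2) F →* Matrix.ProjectiveSpecialLinearGroup (Fin 2) F :=
  QuotientGroup.mk' _

/-- `f` factors through the projection. -/
def IsEven (f : Matrix.SpecialLinearGroup (Fin 2) F → ℂ) : Prop := ∀ g, f (-1 * g) = f g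

/-- `f` vanishes where the image has even order. -/
def OddSupp (f : Matrix.SpecialLinearGroup (Fin 2) F → ℂ) : Prop :=
  ∀ g, Even (orderOf (prj g)) → f g = 0

theorem prj_eq_one {g : SL2} : prj g = 1 ↔ g = 1 ∨ g = -1 := by
  rw [prj, QuotientGroup.mk'_apply, QuotientGroup.eq_one_iff, CfsgLib.SL2Char.mem_center_iff]

theorem prj_neg (g : SL2) : prj (-1 * g) = prj g := by
  rw [map_mul, prj_eq_one.2 (Or.inr rfl), one_mul]

theorem prj_surjective : Function.Surjective (prj (F := F)) := QuotientGroup.mk'_surjective _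

theorem odd_order_prj {g : SL2} {k : ℕ} (hk : Odd k) (h : g ^ k = 1 ∨ g ^ k = -1) :
    ¬ Even (orderOf (prj g)) := by
  rw [Nat.not_even_iff_odd]
  exact hk.of_dvd_nat (orderOf_dvd_of_pow_eq_one (by rw [← map_pow, prj_eq_one]; exact h))

variable {c : Matrix.SpecialLinearGroup (Fin 2) F} {h n : ℕ}

/-- The data: a generator of the non-split torus, `(q + 1) / 4 = n` odd, and characteristic three. -/
structure Data (c : Matrix.SpecialLinearGroup (Fin 2) F) (h n : ℕ) : Prop where
  ds : DSData c h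
  h_eq : h = 2 * n
  n_odd : Odd n
  three : CharP F 3

variable (D : Data c h n)

/-- The even characters of the torus. -/
noncomputable def evenTheta {c : Matrix.SpecialLinearGroup (Fin 2) F} {h n : ℕ} (D : Data c h n)
    (θ : Subgroup.zpowers c →* ℂˣ) : Prop := zsign D.ds θ = 1

include D

theorem q_mod : Fintype.card F % 8 = 3 := by
  have h1 := D.ds.card_eq
  have h2 := D.h_eq
  obtain ⟨k, hk⟩ := D.n_odd
  omega

theorem q_odd : Odd (Fintype.card F) := D.ds.odd

theorem two_ne : (2 : F) ≠ 0 := D.ds.torus.two_ne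

theorem even_one : evenTheta D 1 := by
  simp [evenTheta, zsign]

theorem even_mul {θ θ' : Subgroup.zpowers c →* ℂˣ} (h1 : evenTheta D θ) (h2 : evenTheta D θ') :
    evenTheta D (θ * θ') := by
  unfold evenTheta zsign at *
  rw [MonoidHom.mul_apply, Units.val_mul, h1, h2, mul_one]

theorem even_inv {θ : Subgroup.zpowers c →* ℂˣ} (h1 : evenTheta D θ) : evenTheta D θ⁻¹ := by
  unfold evenTheta zsign at *
  rw [MonoidHom.inv_apply, Units.val_inv_eq_inv_val, h1, inv_one]

theorem alpha_ok {θ : Subgroup.zpowers c →* ℂˣ} (h1 : evenTheta D θ) :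
    (1 : MulChar F ℂ) (-1) = zsign D.ds θ := by
  rw [h1, MulChar.one_apply (by simp : IsUnit (-1 : F))]

omit D in
theorem isEven_add {f g : SL2 → ℂ} (hf : IsEven f) (hg : IsEven g) : IsEven (f + g) := fun x => by
  rw [Pi.add_apply, Pi.add_apply, hf x, hg x]

omit D in
theorem oddSupp_add {f g : SL2 → ℂ} (hf : OddSupp f) (hg : OddSupp g) : OddSupp (f + g) := fun x hx => by
  simp [hf x hx, hg x hx]

omit D in
theorem indFun_neg (H : Subgroup SL2) (hH : (-1 : SL2) ∈ H) (θ : H → ℂ)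
    (hθ : ∀ x : H, θ (⟨-1, hH⟩ * x) = θ x) : IsEven (indFun H θ) := by
  intro g
  rw [CfsgLib.Induction.indFun_apply, CfsgLib.Induction.indFun_apply]
  congr 1
  refine Finset.sum_congr rfl fun x _ => ?_
  have e : x⁻¹ * (-1 * g) * x = -1 * (x⁻¹ * g * x) := by
    rw [← mul_assoc x⁻¹, neg_one_central x⁻¹, mul_assoc (-1 : SL2), mul_assoc]
  rw [e]
  by_cases hm : x⁻¹ * g * x ∈ H
  · rw [CfsgLib.Induction.extendByZero_mem H θ hm,
      CfsgLib.Induction.extendByZero_mem H θ (H.mul_mem hH hm)]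
    exact hθ ⟨_, hm⟩
  · rw [CfsgLib.Induction.extendByZero_notMem H θ hm, CfsgLib.Induction.extendByZero_notMem H θ]
    exact fun e' => hm (by simpa [← mul_assoc] using H.mul_mem (H.inv_mem hH) e')

omit D in
theorem isEven_ps {α : MulChar F ℂ} (hα : α (-1) = 1) : IsEven (ps α) := by
  refine indFun_neg (borel F) neg_one_mem_borel _ fun x => ?_
  simp only [borelChar, Subgroup.coe_mul, Matrix.SpecialLinearGroup.coe_mul]
  rw [show (((-1 : SL2) : M2) * ((x : SL2) : M2)) 0 0 = (-1) * ((x : SL2) : M2) 0 0 by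
    rw [neg_one_coe, neg_mul, one_mul, Matrix.neg_apply, neg_one_mul], map_mul, hα, one_mul]

theorem isEven_ds {θ : Subgroup.zpowers c →* ℂˣ} (h1 : evenTheta D θ) : IsEven (ds 1 θ) := by
  intro g
  unfold ds
  simp only [Pi.sub_apply]
  rw [indFun_neg (diagSub F) neg_one_mem_diagSub _ (fun x => ?_) g,
    isEven_ps (MulChar.one_apply (by simp : IsUnit (-1 : F))) g,
    indFun_neg (Subgroup.zpowers c) D.ds.neg_one_mem _ (fun x => ?_) g]
  · rw [map_mul, Units.val_mul]
    change zsign D.ds θ * _ = _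
    rw [h1, one_mul]
  · simp only [diagChar, Subgroup.coe_mul, Matrix.SpecialLinearGroup.coe_mul]
    rw [show (((-1 : SL2) : M2) * ((x : SL2) : M2)) 0 0 = (-1) * ((x : SL2) : M2) 0 0 by
      rw [neg_one_coe, neg_mul, one_mul, Matrix.neg_apply, neg_one_mul], map_mul,
      MulChar.one_apply (by simp : IsUnit (-1 : F)), one_mul]

omit D in
theorem bEl_pow_three [CharP F 3] {ε : Fˣ} (hε : ε = 1 ∨ ε = -1) (b : F) :
    (bEl ε b : SL2) ^ 3 = 1 ∨ (bEl ε b : SL2) ^ 3 = -1 := by
  have e1 : ∀ x : F, (bEl (1 : Fˣ) x : SL2) ^ 3 = 1 := fun x => by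
    rw [bEl_one_pow, CharP.cast_eq_zero, zero_mul, bEl_one_zero]
  rcases hε with rfl | rfl
  · exact Or.inl (e1 b)
  · right
    have e2 : (bEl (-1) b : SL2) = -1 * (bEl (1 : Fˣ) (-b) : SL2) := by
      refine Subtype.ext ?_
      rw [Matrix.SpecialLinearGroup.coe_mul, neg_one_coe, bEl_coe, bEl_coe, neg_mul, one_mul]
      ext i j
      fin_cases i <;> fin_cases j <;> simp
    rw [e2, Commute.mul_pow (show Commute (-1 : SL2) _ from (neg_one_central _).symm), e1, mul_one,
      pow_succ, neg_one_sq, one_mul]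

/-- Split elements and transvections have image of odd order. -/
theorem odd_of_not_noRoot {g : SL2} (hg : ¬ NoRoot (g : M2)) : ¬ Even (orderOf (prj g)) := by
  have h2 := two_ne D
  rcases element_cases h2 g with rfl | rfl | hy | hn | ⟨ε, b, hε, -, hc⟩
  · exact odd_order_prj odd_one (Or.inl (pow_one _))
  · exact odd_order_prj odd_one (Or.inr (pow_one _))
  · obtain ⟨a, -, hc⟩ := exists_diag_of_hyp h2 hy
    obtain ⟨x, hx⟩ := isConj_iff.1 hc
    intro hev
    have hk : Odd ((Fintype.card F - 1) / 2) := by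
      have := q_mod D; rw [Nat.odd_iff]; omega
    refine odd_order_prj (g := slDiag a) hk ?_ ?_
    · have e : (a ^ ((Fintype.card F - 1) / 2)) ^ 2 = 1 := by
        rw [← pow_mul, show (Fintype.card F - 1) / 2 * 2 = Fintype.card Fˣ by
          rw [Fintype.card_units]; have := q_mod D; omega, pow_card_eq_one]
      rw [← map_pow]
      rcases sq_eq_one_iff.1 (show ((a ^ ((Fintype.card F - 1) / 2) : Fˣ) : F) ^ 2 = 1 by
        rw [← Units.val_pow_eq_pow_val, e, Units.val_one]) with e' | e'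
      · left
        rw [show a ^ ((Fintype.card F - 1) / 2) = 1 from Units.ext e', map_one]
      · right
        rw [show a ^ ((Fintype.card F - 1) / 2) = -1 from Units.ext (by rw [e']; simp), ← neg_one_eq_slDiag]
    · have e : orderOf (prj (slDiag a : SL2)) = orderOf (prj g) := by
        rw [← hx, map_mul, map_mul, map_inv]
        exact MulEquiv.orderOf_eq (MulAut.conj (prj x)) (prj g)
      rwa [e]
  · exact absurd hn hg
  · obtain ⟨x, hx⟩ := isConj_iff.1 hc
    have := D.three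
    intro hev
    refine odd_order_prj (g := (bEl ε b : SL2)) (k := 3) (by decide) (bEl_pow_three hε b) ?_
    have e : orderOf (prj (bEl ε b : SL2)) = orderOf (prj g) := by
      rw [← hx, map_mul, map_mul, map_inv]
      exact MulEquiv.orderOf_eq (MulAut.conj (prj x)) (prj g)
    rwa [e]

/-- The elements of the torus of even image order are the odd powers. -/
theorem torus_even {i : ℤ} (hev : Even (orderOf (prj (c ^ i)))) : Odd i := by
  rw [← Int.not_even_iff_odd]
  rintro ⟨j, hj⟩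
  refine odd_order_prj (g := c ^ i) D.n_odd ?_ hev
  have : (c ^ i) ^ n = (-1 : SL2) ^ j := by
    rw [← TorusGen.pow_h_eq D.ds.torus, ← zpow_natCast, ← zpow_natCast, ← _root_.zpow_mul,
      ← _root_.zpow_mul, hj, D.h_eq]
    congr 1
    push_cast
    ring
  rw [this]
  rcases Int.even_or_odd j with ⟨k, rfl⟩ | ⟨k, rfl⟩
  · left
    rw [← two_mul, _root_.zpow_mul, show ((-1 : SL2)) ^ (2 : ℤ) = 1 by
      rw [show (2 : ℤ) = ((2 : ℕ) : ℤ) from rfl, zpow_natCast, neg_one_sq], _root_.one_zpow]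
  · right
    rw [_root_.zpow_add, _root_.zpow_mul, show ((-1 : SL2)) ^ (2 : ℤ) = 1 by
      rw [show (2 : ℤ) = ((2 : ℕ) : ℤ) from rfl, zpow_natCast, neg_one_sq], _root_.one_zpow,
      one_mul, zpow_one]

/-- The character of order two of the torus. -/
theorem exists_delta : ∃ δ : Subgroup.zpowers c →* ℂˣ, δ ≠ 1 ∧ δ ^ 2 = 1 ∧ evenTheta D δ ∧
    (∀ θ : Subgroup.zpowers c →* ℂˣ, θ ^ 2 = 1 ↔ θ = 1 ∨ θ = δ) ∧
    ∀ (x : Subgroup.zpowers c), Even (orderOf (prj (x : SL2))) → (δ x : ℂ) = -1 := by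
  obtain ⟨δ, h1, h2⟩ := exists_theta0 D.ds
  have hsq := (h2 δ).2 (Or.inr rfl)
  refine ⟨δ, h1, hsq, ?_, h2, ?_⟩
  · unfold evenTheta
    rw [zsign_theta0 D.ds h1 hsq, D.h_eq]
    exact (even_two_mul n).neg_one_pow
  · intro x hx
    obtain ⟨i, hi⟩ := Subgroup.mem_zpowers_iff.1 x.2
    have hxi : x = (⟨c, Subgroup.mem_zpowers c⟩ : Subgroup.zpowers c) ^ i :=
      Subtype.ext (by rw [Subgroup.coe_zpow]; exact hi.symm)
    rw [hxi, map_zpow, Units.val_zpow_eq_zpow_val, theta0_gen D.ds h1 hsq]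
    exact (torus_even D (hi.symm ▸ hx)).neg_one_zpow

/-- `ψ_θ = θ + θδ` as a function on `SL₂`. -/
noncomputable def psi {c : Matrix.SpecialLinearGroup (Fin 2) F} {h n : ℕ} (D : Data c h n)
    (θ : Subgroup.zpowers c →* ℂˣ) : Matrix.SpecialLinearGroup (Fin 2) F → ℂ :=
  ds 1 θ + ds 1 (θ * (exists_delta D).choose)

/-- The canonical character of order two. -/
noncomputable def delta {c : Matrix.SpecialLinearGroup (Fin 2) F} {h n : ℕ}
    (D : Data c h n) : Subgroup.zpowers c →* ℂˣ := (exists_delta D).choose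

theorem delta_spec : delta D ≠ 1 ∧ delta D ^ 2 = 1 ∧ evenTheta D (delta D) ∧
    (∀ θ : Subgroup.zpowers c →* ℂˣ, θ ^ 2 = 1 ↔ θ = 1 ∨ θ = delta D) ∧
    ∀ (x : Subgroup.zpowers c), Even (orderOf (prj (x : SL2))) → (delta D x : ℂ) = -1 :=
  (exists_delta D).choose_spec

theorem delta_inv : (delta D)⁻¹ = delta D := by
  refine MonoidHom.ext fun x => ?_
  have := DFunLike.congr_fun (delta_spec D).2.1 x
  rw [MonoidHom.pow_apply, MonoidHom.one_apply] at this
  rw [MonoidHom.inv_apply, inv_eq_iff_mul_eq_one, ← pow_two, this]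

theorem mul_delta_delta (θ : Subgroup.zpowers c →* ℂˣ) : θ * delta D * delta D = θ := by
  refine MonoidHom.ext fun x => ?_
  have := DFunLike.congr_fun (delta_spec D).2.1 x
  rw [MonoidHom.pow_apply, MonoidHom.one_apply] at this
  rw [MonoidHom.mul_apply, MonoidHom.mul_apply, mul_assoc, ← pow_two, this, mul_one]

theorem mul_delta_inv (θ : Subgroup.zpowers c →* ℂˣ) : (θ * delta D)⁻¹ = θ⁻¹ * delta D := by
  refine MonoidHom.ext fun x => ?_
  have := DFunLike.congr_fun (delta_inv D) x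
  rw [MonoidHom.inv_apply] at this
  rw [MonoidHom.inv_apply, MonoidHom.mul_apply, MonoidHom.mul_apply, MonoidHom.inv_apply, mul_inv, this]

theorem mul_delta_sq (θ : Subgroup.zpowers c →* ℂˣ) : (θ * delta D) ^ 2 = θ ^ 2 := by
  refine MonoidHom.ext fun x => ?_
  have := DFunLike.congr_fun (delta_spec D).2.1 x
  rw [MonoidHom.pow_apply, MonoidHom.one_apply] at this
  rw [MonoidHom.pow_apply, MonoidHom.mul_apply, MonoidHom.pow_apply, mul_pow, this, mul_one]

theorem psi_def (θ : Subgroup.zpowers c →* ℂˣ) : psi D θ = ds 1 θ + ds 1 (θ * delta D) := rfl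

theorem psi_mul_delta (θ : Subgroup.zpowers c →* ℂˣ) : psi D (θ * delta D) = psi D θ := by
  rw [psi_def, psi_def, mul_delta_delta, add_comm]

theorem ds_inv_eq {θ : Subgroup.zpowers c →* ℂˣ} (h1 : evenTheta D θ) : ds 1 θ⁻¹ = ds 1 θ := by
  funext g
  have hz : (1 : MulChar F ℂ) (-1) = zsign D.ds θ := alpha_ok D h1
  have hz' : (1 : MulChar F ℂ) (-1) = zsign D.ds θ⁻¹ := alpha_ok D (even_inv D h1)
  rcases element_cases (two_ne D) g with rfl | rfl | hy | hn | ⟨ε, b, hε, hb, hc⟩
  · rw [ds_one D.ds hz, ds_one D.ds hz']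
  · rw [ds_neg_one D.ds hz, ds_neg_one D.ds hz', h1, even_inv D h1]
  · rw [ds_hyp D.ds hz hy, ds_hyp D.ds hz' hy]
  · obtain ⟨k, hk⟩ := exists_conj_mem_nonsplit D.ds.torus D.ds.noRoot hn
    have hc : IsConj g (k * g * k⁻¹) := isConj_iff.2 ⟨k, rfl⟩
    rw [classFunction_eq_of_isConj (isClassFunction_of_isGeneralizedCharacter (isGeneralizedCharacter_ds _ _)) hc,
      classFunction_eq_of_isConj (isClassFunction_of_isGeneralizedCharacter (isGeneralizedCharacter_ds _ θ)) hc]
    have hn' : NoRoot ((k * g * k⁻¹ : SL2) : M2) := noRoot_conj.2 hn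
    have h1' : (k * g * k⁻¹ : SL2) ≠ 1 := fun e => hn'.trace_ne (by rw [e]; simp; norm_num)
    have hn1 : (k * g * k⁻¹ : SL2) ≠ -1 := fun e => hn'.trace_ne (by rw [e, neg_one_coe]; simp; norm_num)
    rw [show (k * g * k⁻¹ : SL2) = ((⟨k * g * k⁻¹, hk⟩ : Subgroup.zpowers c) : SL2) from rfl,
      ds_torus D.ds hz _ h1' hn1, ds_torus D.ds hz' _ h1' hn1, MonoidHom.inv_apply, Units.val_inv_eq_inv_val,
      inv_inv, add_comm]
  · rw [classFunction_eq_of_isConj (isClassFunction_of_isGeneralizedCharacter (isGeneralizedCharacter_ds _ _)) hc,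
      classFunction_eq_of_isConj (isClassFunction_of_isGeneralizedCharacter (isGeneralizedCharacter_ds _ θ)) hc,
      ds_uni D.ds hz hε hb, ds_uni D.ds hz' hε hb]

theorem psi_inv {θ : Subgroup.zpowers c →* ℂˣ} (h1 : evenTheta D θ) : psi D θ⁻¹ = psi D θ := by
  rw [psi_def, psi_def, ds_inv_eq D h1,
    ← mul_delta_inv D,
    ds_inv_eq D (even_mul D h1 (delta_spec D).2.2.1)]

theorem psi_gen (θ : Subgroup.zpowers c →* ℂˣ) : IsGeneralizedCharacter SL2 (psi D θ) :=
  isGeneralizedCharacter_add (isGeneralizedCharacter_ds _ _) (isGeneralizedCharacter_ds _ _)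

theorem psi_isEven {θ : Subgroup.zpowers c →* ℂˣ} (h1 : evenTheta D θ) : IsEven (psi D θ) :=
  isEven_add (isEven_ds D h1) (isEven_ds D (even_mul D h1 (delta_spec D).2.2.1))

theorem psi_oddSupp {θ : Subgroup.zpowers c →* ℂˣ} (h1 : evenTheta D θ) : OddSupp (psi D θ) := by
  intro g hev
  have hn : NoRoot (g : M2) := by
    by_contra hn
    exact odd_of_not_noRoot D hn hev
  obtain ⟨k, hk⟩ := exists_conj_mem_nonsplit D.ds.torus D.ds.noRoot hn
  have hc : IsConj g (k * g * k⁻¹) := isConj_iff.2 ⟨k, rfl⟩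
  have hn' : NoRoot ((k * g * k⁻¹ : SL2) : M2) := noRoot_conj.2 hn
  have h1' : (k * g * k⁻¹ : SL2) ≠ 1 := fun e => hn'.trace_ne (by rw [e]; simp; norm_num)
  have hn1 : (k * g * k⁻¹ : SL2) ≠ -1 := fun e => hn'.trace_ne (by rw [e, neg_one_coe]; simp; norm_num)
  set x : Subgroup.zpowers c := ⟨k * g * k⁻¹, hk⟩ with hx
  have hd : (delta D x : ℂ) = -1 := by
    refine (delta_spec D).2.2.2.2 x ?_
    have e : orderOf (prj (x : SL2)) = orderOf (prj g) := by
      show orderOf (prj (k * g * k⁻¹)) = _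
      rw [map_mul, map_mul, map_inv]
      exact MulEquiv.orderOf_eq (MulAut.conj (prj k)) (prj g)
    rwa [e]
  rw [classFunction_eq_of_isConj (isClassFunction_of_isGeneralizedCharacter (psi_gen D θ)) hc]
  show ds 1 θ (x : SL2) + ds 1 (θ * delta D) (x : SL2) = 0
  rw [ds_torus D.ds (alpha_ok D h1) x h1' hn1,
    ds_torus D.ds (alpha_ok D (even_mul D h1 (delta_spec D).2.2.1)) x h1' hn1, MonoidHom.mul_apply,
    Units.val_mul, hd, mul_inv, inv_neg, inv_one]
  ring

theorem classInner_psi_self {θ : Subgroup.zpowers c →* ℂˣ} (h1 : evenTheta D θ) (h2 : θ ^ 2 ≠ 1)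
    (h3 : θ ^ 2 ≠ delta D) : classInner (psi D θ) (psi D θ) = 2 := by
  classical
  have hd := delta_spec D
  have e1 := alpha_ok D h1
  have e2 := alpha_ok D (even_mul D h1 hd.2.2.1)
  rw [psi_def, classInner_add_left, classInner_add_right, classInner_add_right,
    classInner_ds_ds D.ds e1 e1, classInner_ds_ds D.ds e1 e2, classInner_ds_ds D.ds e2 e1,
    classInner_ds_ds D.ds e2 e2]
  have a1 : θ ≠ θ⁻¹ := fun e => h2 (by rw [pow_two]; exact mul_eq_one_iff_eq_inv.2 e)
  have a2 : θ ≠ θ * delta D := fun e => hd.1 (MonoidHom.ext fun x => by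
    have e' := DFunLike.congr_fun e x
    rw [MonoidHom.mul_apply] at e'
    exact mul_left_cancel (a := θ x) (by rw [← e', MonoidHom.one_apply, mul_one]))
  have a3 : θ ≠ (θ * delta D)⁻¹ := fun e => h3 (MonoidHom.ext fun x => by
    rw [mul_delta_inv D] at e
    have e' := DFunLike.congr_fun e x
    rw [MonoidHom.mul_apply, MonoidHom.inv_apply] at e'
    rw [MonoidHom.pow_apply, pow_two]
    nth_rw 1 [e']
    rw [mul_comm (θ x)⁻¹, mul_assoc, inv_mul_cancel, mul_one])
  have a4 : θ * delta D ≠ θ⁻¹ := fun e => a3 (MonoidHom.ext fun x => by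
    rw [e, MonoidHom.inv_apply, MonoidHom.inv_apply, inv_inv])
  have a5 : θ * delta D ≠ (θ * delta D)⁻¹ := fun e => h2 (by
    rw [← mul_delta_sq D θ, pow_two]; exact mul_eq_one_iff_eq_inv.2 e)
  rw [if_pos rfl, if_neg a1, if_neg a2, if_neg a3, if_neg a2.symm, if_neg a4, if_pos rfl, if_neg a5]
  norm_num

theorem classInner_psi_ne {θ θ' : Subgroup.zpowers c →* ℂˣ} (h1 : evenTheta D θ) (h1' : evenTheta D θ')
    (n1 : θ ≠ θ') (n2 : θ ≠ θ'⁻¹) (n3 : θ ≠ θ' * delta D) (n4 : θ ≠ (θ' * delta D)⁻¹) :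
    classInner (psi D θ) (psi D θ') = 0 := by
  classical
  have hd := delta_spec D
  have e1 := alpha_ok D h1
  have e2 := alpha_ok D (even_mul D h1 hd.2.2.1)
  have f1 := alpha_ok D h1'
  have f2 := alpha_ok D (even_mul D h1' hd.2.2.1)
  have hdd := mul_delta_delta D
  rw [psi_def, psi_def, classInner_add_left, classInner_add_right, classInner_add_right,
    classInner_ds_ds D.ds e1 f1, classInner_ds_ds D.ds e1 f2, classInner_ds_ds D.ds e2 f1,
    classInner_ds_ds D.ds e2 f2, if_neg n1, if_neg n2, if_neg n3, if_neg n4,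
    if_neg (fun e => n3 (by rw [← e, hdd])),
    if_neg (fun e => n4 (by rw [mul_delta_inv D, ← e, hdd])),
    if_neg (fun e => n1 (by rw [← hdd θ, e, hdd])),
    if_neg (fun e => n2 (by rw [mul_delta_inv D] at e; rw [← hdd θ, e, hdd]))]
  simp

/-- A projective function of small norm, orthogonal to the generic `psi`. -/
structure Small {c : Matrix.SpecialLinearGroup (Fin 2) F} {h n : ℕ} (D : Data c h n)
    (f : Matrix.SpecialLinearGroup (Fin 2) F → ℂ) : Prop where
  gen : IsGeneralizedCharacter (Matrix.SpecialLinearGroup (Fin 2) F) f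
  even : IsEven f
  supp : OddSupp f
  norm : classInner f f = 1 ∨ classInner f f = 2
  orth : ∀ θ : Subgroup.zpowers c →* ℂˣ, evenTheta D θ → θ ^ 2 ≠ 1 → classInner f (psi D θ) = 0

theorem small_ps {α : MulChar F ℂ} (hα : α (-1) = 1) : Small D (ps α) := by
  classical
  refine ⟨isGeneralizedCharacter_of_isCharacter (isCharacter_ps α), isEven_ps hα, fun g hev => ?_, ?_,
    fun θ h1 _ => ?_⟩
  · refine ps_noRoot α ?_
    by_contra hn
    exact odd_of_not_noRoot D hn hev
  · rw [classInner_ps, if_pos rfl]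
    split_ifs
    · right; norm_num
    · left; norm_num
  · rw [psi_def, classInner_add_right, classInner_conj_symm, classInner_ds_ps D.ds (alpha_ok D h1),
      classInner_conj_symm (ds 1 (θ * delta D)) (ps α), classInner_ds_ps D.ds
      (alpha_ok D (even_mul D h1 (delta_spec D).2.2.1))]
    simp

theorem ds_irr {θ : Subgroup.zpowers c →* ℂˣ} (h1 : evenTheta D θ) (h2 : θ ^ 2 ≠ 1) :
    IsIrrCharacter SL2 (ds 1 θ) := by
  classical
  refine isIrrCharacter_of_generalized_norm_one (isGeneralizedCharacter_ds _ _) ?_ ?_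
  · rw [classInner_ds_ds D.ds (alpha_ok D h1) (alpha_ok D h1), if_pos rfl,
      if_neg (fun e => h2 (by rw [pow_two]; exact mul_eq_one_iff_eq_inv.2 e)), add_zero]
  · rw [ds_one D.ds (alpha_ok D h1)]
    have := Fintype.one_lt_card (α := F)
    have h' : (1 : ℝ) ≤ Fintype.card F := by exact_mod_cast this.le
    simpa using h'

theorem steinberg_noRoot {g : SL2} (hg : NoRoot (g : M2)) : steinberg g = -1 := by
  simp [steinberg, ps_noRoot 1 hg]

theorem ds_one_eq : ds 1 (1 : Subgroup.zpowers c →* ℂˣ) = steinberg - (fun _ => 1) := by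
  funext g
  have hz := alpha_ok D (even_one D)
  have hcl := isClassFunction_of_isGeneralizedCharacter
    (isGeneralizedCharacter_ds (1 : MulChar F ℂ) (1 : Subgroup.zpowers c →* ℂˣ))
  have hst : IsClassFunction SL2 (steinberg (F := F)) :=
    irr_isClassFunction ⟨steinberg, isIrrCharacter_steinberg⟩
  rw [Pi.sub_apply]
  rcases element_cases (two_ne D) g with rfl | rfl | hy | hn | ⟨ε, b, hε, hb, hc⟩
  · rw [ds_one D.ds hz, steinberg_one]
  · rw [ds_neg_one D.ds hz, even_one D, steinberg_neg_one]; ring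
  · obtain ⟨a, ha, hc⟩ := exists_diag_of_hyp (two_ne D) hy
    rw [ds_hyp D.ds hz hy, classFunction_eq_of_isConj hst hc]
    simp [steinberg, slDiag_eq_bEl, ps_bEl_hyp 1 0 ha, MulChar.one_apply (a.isUnit), MulChar.one_apply (a.isUnit.inv)]
  · obtain ⟨k, hk⟩ := exists_conj_mem_nonsplit D.ds.torus D.ds.noRoot hn
    have hc : IsConj g (k * g * k⁻¹) := isConj_iff.2 ⟨k, rfl⟩
    have hn' : NoRoot ((k * g * k⁻¹ : SL2) : M2) := noRoot_conj.2 hn
    rw [steinberg_noRoot D hn, classFunction_eq_of_isConj hcl hc,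
      show (k * g * k⁻¹ : SL2) = ((⟨k * g * k⁻¹, hk⟩ : Subgroup.zpowers c) : SL2) from rfl,
      ds_torus D.ds hz _ (show (k * g * k⁻¹ : SL2) ≠ 1 from fun e => hn'.trace_ne (by rw [e]; simp; norm_num))
        (show (k * g * k⁻¹ : SL2) ≠ -1 from fun e => hn'.trace_ne (by rw [e, neg_one_coe]; simp; norm_num))]
    simp
    ring
  · rw [classFunction_eq_of_isConj hcl hc, classFunction_eq_of_isConj hst hc, ds_uni D.ds hz hε hb]
    simp [steinberg, ps_bEl_uni 1 hε hb, MulChar.one_apply (ε.isUnit)]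

theorem ds_eq_dsFun {θ : Subgroup.zpowers c →* ℂˣ} (h1 : evenTheta D θ) : ds 1 θ = dsFun D.ds θ := by
  classical
  refine sub_eq_zero.1 (eq_zero_of_forall_classInner_eq_zero ?_ fun χ => ?_)
  · exact isClassFunction_of_isGeneralizedCharacter
      (isGeneralizedCharacter_sub (isGeneralizedCharacter_ds _ _) (isGeneralizedCharacter_ds _ _))
  have hz := alpha_ok D h1
  have hz' := dsFun_spec D.ds θ
  have h0 : classInner (ds 1 θ - dsFun D.ds θ) (ds 1 θ - dsFun D.ds θ) = 0 := by
    rw [classInner_sub_left, classInner_sub_right, classInner_sub_right, dsFun,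
      classInner_ds_ds D.ds hz hz, classInner_ds_ds D.ds hz hz', classInner_ds_ds D.ds hz' hz,
      classInner_ds_ds D.ds hz' hz']
    ring
  have hg := isGeneralizedCharacter_sub (isGeneralizedCharacter_ds (1 : MulChar F ℂ) θ)
    (isGeneralizedCharacter_dsFun D.ds θ)
  choose m hm using (isGeneralizedCharacter_iff.mp hg).2
  rw [classInner_self_eq_sum_sq (isClassFunction_of_isGeneralizedCharacter hg) hm] at h0
  have h0' : ∑ χ, m χ ^ 2 = 0 := by exact_mod_cast h0
  rw [hm, eq_zero_of_pow_eq_zero ((Finset.sum_eq_zero_iff_of_nonneg fun ψ _ => sq_nonneg (m ψ)).1 h0' χ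
    (Finset.mem_univ _)), Int.cast_zero]

/-- `psi` at the trivial character as a combination of three small functions. -/
theorem psi_one_split : ∃ f₁ f₂ f₃ : SL2 → ℂ, Small D f₁ ∧ Small D f₂ ∧ Small D f₃ ∧
    psi D 1 = f₁ + f₂ - f₃ := by
  classical
  have hd := delta_spec D
  obtain ⟨α₀, θ₀, η₁, η₂, χ₁, χ₂, T⟩ := exists_table D.ds
  have hθ : θ₀ = delta D := ((hd.2.2.2.1 θ₀).1 ((T.theta_sq θ₀).2 (Or.inr rfl))).resolve_left T.theta_ne
  have hds : ds 1 (delta D) = (χ₁ : SL2 → ℂ) + (χ₂ : SL2 → ℂ) := by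
    rw [ds_eq_dsFun D hd.2.2.1, ← hθ, T.chi_sum]
  have hstirr : IsIrrCharacter SL2 (steinberg (F := F)) := isIrrCharacter_steinberg
  have hdeg1 : (2 : ℂ) * (χ₁ : SL2 → ℂ) 1 + 1 = Fintype.card F := by
    rw [(apply_one_iff_charDegree χ₁ _).2 rfl]; exact_mod_cast T.chi_deg₁
  have hdeg2 : (2 : ℂ) * (χ₂ : SL2 → ℂ) 1 + 1 = Fintype.card F := by
    rw [(apply_one_iff_charDegree χ₂ _).2 rfl]; exact_mod_cast T.chi_deg₂
  have hone : (χ₁ : SL2 → ℂ) (-1) = (χ₁ : SL2 → ℂ) 1 ∧ (χ₂ : SL2 → ℂ) (-1) = (χ₂ : SL2 → ℂ) 1 := by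
    obtain ⟨s₁, hs₁, e₁, -⟩ := neg_sign χ₁
    obtain ⟨s₂, hs₂, e₂, -⟩ := neg_sign χ₂
    have hz := congrFun hds (-1)
    rw [ds_neg_one D.ds (alpha_ok D hd.2.2.1), hd.2.2.1, Pi.add_apply, e₁, e₂] at hz
    have hq : (Fintype.card F : ℂ) - 1 ≠ 0 := by
      rw [sub_ne_zero]; exact_mod_cast Fintype.one_lt_card.ne'
    rcases hs₁ with rfl | rfl <;> rcases hs₂ with rfl | rfl <;> push_cast at e₁ e₂ hz
    · exact ⟨by rw [e₁]; ring, by rw [e₂]; ring⟩
    all_goals exact absurd (show (Fintype.card F : ℂ) - 1 = 0 by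
      first
        | linear_combination hz + (1/2 : ℂ) * hdeg1 - (1/2 : ℂ) * hdeg2
        | linear_combination hz - (1/2 : ℂ) * hdeg1 + (1/2 : ℂ) * hdeg2
        | linear_combination (1/2 : ℂ) * hz - (1/4 : ℂ) * hdeg1 - (1/4 : ℂ) * hdeg2) hq
  have hχ : ∀ χ : IrrCharacter SL2, χ = χ₁ ∨ χ = χ₂ → (χ : SL2 → ℂ) (-1) = (χ : SL2 → ℂ) 1 →
      2 * (χ : SL2 → ℂ) 1 + 1 = Fintype.card F → Small D ((χ : SL2 → ℂ) + steinberg) := by
    intro χ hχc hχ1 hχd
    have hq1 : (Fintype.card F : ℂ) - 1 ≠ 0 := by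
      rw [sub_ne_zero]; exact_mod_cast Fintype.one_lt_card.ne'
    refine ⟨isGeneralizedCharacter_add (isGeneralizedCharacter_irr χ)
      (isGeneralizedCharacter_irr ⟨steinberg, hstirr⟩), ?_, ?_, Or.inr ?_, ?_⟩
    · refine isEven_add (fun g => ?_) (fun g => ?_)
      · obtain ⟨s, hs, e, e'⟩ := neg_sign χ
        have hne : (χ : SL2 → ℂ) 1 ≠ 0 := irr_one_ne_zero χ
        rw [hχ1] at e
        rw [e', show (s : ℂ) = 1 from mul_right_cancel₀ hne (by linear_combination -e), one_mul]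
      · simp only [steinberg, Pi.sub_apply, isEven_ps (MulChar.one_apply (by simp : IsUnit (-1 : F))) g]
    · intro g hev
      have hn : NoRoot (g : M2) := by
        by_contra hn
        exact odd_of_not_noRoot D hn hev
      rw [Pi.add_apply, T.chi_noRoot hχc hn, steinberg_noRoot D hn, if_neg, add_neg_cancel]
      intro hgh
      obtain ⟨k, hk⟩ := exists_conj_mem_nonsplit D.ds.torus D.ds.noRoot hn
      obtain ⟨i, hi⟩ := Subgroup.mem_zpowers_iff.1 hk
      have hev' : Even (orderOf (prj (c ^ i))) := by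
        rw [hi, map_mul, map_mul, map_inv]
        exact (MulEquiv.orderOf_eq (MulAut.conj (prj k)) (prj g)).symm ▸ hev
      have : (-1 : SL2) ^ i = 1 := by
        rw [← TorusGen.pow_h_eq D.ds.torus, ← zpow_natCast, ← _root_.zpow_mul, mul_comm,
          _root_.zpow_mul, zpow_natCast, hi, conj_pow, hgh, mul_one, mul_inv_cancel]
      obtain ⟨j, rfl⟩ := torus_even D hev'
      rw [_root_.zpow_add, _root_.zpow_mul, show ((-1 : SL2)) ^ (2 : ℤ) = 1 by
        rw [show (2 : ℤ) = ((2 : ℕ) : ℤ) from rfl, zpow_natCast, neg_one_sq], _root_.one_zpow, one_mul,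
        zpow_one] at this
      exact neg_one_ne_one (two_ne D) this
    · have hne : (χ : SL2 → ℂ) ≠ steinberg := fun e => by
        rw [congrFun e 1, steinberg_one] at hχd
        have : ((2 * Fintype.card F + 1 : ℕ) : ℂ) = ((Fintype.card F : ℕ) : ℂ) := by push_cast; exact hχd
        have := Nat.cast_injective this
        omega
      rw [classInner_add_left, classInner_add_right, classInner_add_right, classInner_irr_self χ.2,
        classInner_irr_self hstirr, classInner_irr_ne χ.2 hstirr hne, classInner_irr_ne hstirr χ.2 hne.symm]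
      norm_num
    · intro θ h1 h2
      have h2' : (θ * delta D) ^ 2 ≠ 1 := by rw [mul_delta_sq]; exact h2
      have hh : ∀ θ' : Subgroup.zpowers c →* ℂˣ, evenTheta D θ' → θ' ^ 2 ≠ 1 →
          classInner (χ : SL2 → ℂ) (ds 1 θ') = 0 ∧ classInner steinberg (ds 1 θ') = 0 := by
        intro θ' g1 g2
        refine ⟨classInner_irr_ne χ.2 (ds_irr D g1 g2) fun e => ?_, classInner_irr_ne hstirr (ds_irr D g1 g2) fun e => ?_⟩
        · rw [congrFun e 1, ds_one D.ds (alpha_ok D g1)] at hχd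
          exact hq1 (by linear_combination hχd)
        · have := congrFun e 1
          rw [steinberg_one, ds_one D.ds (alpha_ok D g1)] at this
          exact one_ne_zero (by linear_combination this)
      have a := hh θ h1 h2
      have b := hh _ (even_mul D h1 hd.2.2.1) h2'
      rw [psi_def, classInner_add_left, classInner_add_right, classInner_add_right, a.1, a.2, b.1, b.2]
      simp
  refine ⟨_, _, _, hχ χ₁ (Or.inl rfl) hone.1 hdeg1, hχ χ₂ (Or.inr rfl) hone.2 hdeg2,
    small_ps D (α := 1) (MulChar.one_apply (by simp : IsUnit (-1 : F))), ?_⟩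
  rw [psi_def, show (1 : Subgroup.zpowers c →* ℂˣ) * delta D = delta D from MonoidHom.ext fun x => one_mul _, hds, ds_one_eq D]
  funext g
  simp only [steinberg, Pi.add_apply, Pi.sub_apply]
  ring

end CfsgLib.ReeType
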