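import Cfsg.Agent.Lib.ReeType.Proj

/-!
The expansion of the regular character of `PSL₂(q)`, `q ≡ 3 (mod 8)`, on the projective functions.
-/

set_option autoImplicit false
set_option linter.unusedSectionVars false

namespace CfsgLib.ReeType

open Matrix Cfsg
open CfsgLib.SL2Tori CfsgLib.Schur CfsgLib.Characters CfsgLib.SL2Char
open scoped ComplexConjugate

variable {F : Type} [Field F] [Fintype F] [DecidableEq F]

local notation "SL2" => Matrix.SpecialLinearGroup (Fin 2) F
local notation "M2" => Matrix (Fin 2) (Fin 2) F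

variable {c : Matrix.SpecialLinearGroup (Fin 2) F} {h n : ℕ}
variable (D : Data c h n)
include D

theorem finite_theta : Finite (Subgroup.zpowers c →* ℂˣ) := finite_thetaHom D.ds

/-- Orthogonality over all characters of the torus. -/
theorem sum_theta_all [Fintype (Subgroup.zpowers c →* ℂˣ)] (y : Subgroup.zpowers c) :
    ∑ θ : Subgroup.zpowers c →* ℂˣ, (θ y : ℂ) = if y = 1 then 2 * (h : ℂ) else 0 := by
  classical
  split_ifs with hy
  · subst hy
    have hcard : Fintype.card (Subgroup.zpowers c →* ℂˣ) = 2 * h := by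
      rw [← Nat.card_eq_fintype_card, card_thetaHom D.ds, D.ds.card_eq]
    simp [hcard]
  · let _ : CommGroup (Subgroup.zpowers c) := IsCyclic.commGroup
    obtain ⟨θ, hθ⟩ := CommGroup.exists_apply_ne_one_of_hasEnoughRootsOfUnity (Subgroup.zpowers c) ℂ hy
    set S := ∑ θ : Subgroup.zpowers c →* ℂˣ, (θ y : ℂ) with hS
    have hsh : (θ y : ℂ) * S = S := by
      rw [hS, Finset.mul_sum]
      refine Fintype.sum_bijective (fun x => θ * x) (Group.mulLeft_bijective θ) _ _ fun x => ?_
      simp
    have hne : (θ y : ℂ) - 1 ≠ 0 := by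
      rw [sub_ne_zero]
      exact fun e => hθ (Units.ext e)
    exact (mul_eq_zero.1 (show ((θ y : ℂ) - 1) * S = 0 by linear_combination hsh)).resolve_left hne

/-- Orthogonality over the even characters of the torus. -/
theorem sum_theta_even [Fintype (Subgroup.zpowers c →* ℂˣ)] [DecidablePred (evenTheta D)]
    (y : Subgroup.zpowers c) :
    ∑ θ ∈ Finset.univ.filter (evenTheta D), (θ y : ℂ) =
      if (y : SL2) = 1 ∨ (y : SL2) = -1 then (h : ℂ) else 0 := by
  classical
  set z : Subgroup.zpowers c := ⟨-1, D.ds.neg_one_mem⟩ with hz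
  have hsum : ∑ θ ∈ Finset.univ.filter (evenTheta D), (θ y : ℂ) =
      ∑ θ : Subgroup.zpowers c →* ℂˣ, ((θ y : ℂ) + (θ (z * y) : ℂ)) / 2 := by
    rw [Finset.sum_filter]
    refine Finset.sum_congr rfl fun θ _ => ?_
    rw [map_mul, Units.val_mul]
    change (if evenTheta D θ then (θ y : ℂ) else 0) = ((θ y : ℂ) + zsign D.ds θ * θ y) / 2
    rcases zsign_cases D.ds θ with e | e
    · rw [if_pos (show evenTheta D θ from e), e]; ring
    · rw [if_neg (fun e' : evenTheta D θ => by rw [evenTheta, e] at e'; norm_num at e'), e]; ring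
  rw [hsum, ← Finset.sum_div, Finset.sum_add_distrib, sum_theta_all D, sum_theta_all D]
  have hne : (1 : SL2) ≠ -1 := (neg_one_ne_one (two_ne D)).symm
  by_cases h1 : y = 1
  · have h2 : z * y ≠ 1 := fun e => hne.symm (by
      rw [h1, mul_one] at e; exact congrArg Subtype.val e)
    rw [if_pos h1, if_neg h2, if_pos (Or.inl (by rw [h1]; rfl))]
    ring
  · by_cases h2 : z * y = 1
    · have hy : (y : SL2) = -1 := by
        have e : (-1 : SL2) * (y : SL2) = 1 := congrArg Subtype.val h2
        rw [show (y : SL2) = (-1 : SL2) * ((-1 : SL2) * (y : SL2)) by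
          rw [← mul_assoc, ← pow_two, neg_one_sq, one_mul], e, mul_one]
      rw [if_neg h1, if_pos h2, if_pos (Or.inr hy)]
      ring
    · rw [if_neg h1, if_neg h2, if_neg]
      · ring
      · rintro (e | e)
        · exact h1 (Subtype.ext e)
        · exact h2 (Subtype.ext (by
            show (-1 : SL2) * (y : SL2) = 1
            rw [e, ← pow_two, neg_one_sq]))

/-- Orthogonality over the even multiplicative characters. -/
theorem sum_alpha_even [Fintype (MulChar F ℂ)] [DecidablePred fun α : MulChar F ℂ => α (-1) = 1]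
    (a : Fˣ) :
    ∑ α ∈ Finset.univ.filter (fun α : MulChar F ℂ => α (-1) = 1), α (a : F) =
      if a = 1 ∨ a = -1 then (h : ℂ) - 1 else 0 := by
  classical
  have hall : ∀ x : Fˣ, ∑ α : MulChar F ℂ, α (x : F) =
      if x = 1 then (Fintype.card F : ℂ) - 1 else 0 := by
    intro x
    split_ifs with hx
    · have hcard : Fintype.card (MulChar F ℂ) = Fintype.card F - 1 := by
        rw [← Nat.card_eq_fintype_card, card_mulChar (F := F)]
      subst hx
      rw [Units.val_one, Finset.sum_congr rfl fun α _ => map_one α, Finset.sum_const, Finset.card_univ,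
        hcard, nsmul_eq_mul, mul_one, Nat.cast_sub Fintype.card_pos, Nat.cast_one]
    · obtain ⟨β, hβ⟩ := MulChar.exists_apply_ne_one_of_hasEnoughRootsOfUnity F ℂ (a := (x : F))
        (fun e => hx (Units.ext e))
      set S := ∑ α : MulChar F ℂ, α (x : F) with hS
      have hsh : β (x : F) * S = S := by
        rw [hS, Finset.mul_sum]
        refine Fintype.sum_bijective (fun α => β * α) (Group.mulLeft_bijective β) _ _ fun α => ?_
        simp
      exact (mul_eq_zero.1 (show (β (x : F) - 1) * S = 0 by linear_combination hsh)).resolve_left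
        (sub_ne_zero.2 hβ)
  have hsum : ∑ α ∈ Finset.univ.filter (fun α : MulChar F ℂ => α (-1) = 1), α (a : F) =
      ∑ α : MulChar F ℂ, (α (a : F) + α ((-a : Fˣ) : F)) / 2 := by
    rw [Finset.sum_filter]
    refine Finset.sum_congr rfl fun α _ => ?_
    rw [show ((-a : Fˣ) : F) = (-1) * (a : F) by rw [Units.val_neg, neg_one_mul], map_mul]
    rcases sq_eq_one_iff.1 (show α (-1) ^ 2 = 1 by rw [← map_pow, neg_one_sq, map_one]) with e | e
    · rw [if_pos e, e]; ring
    · rw [if_neg (by rw [e]; norm_num), e]; ring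
  rw [hsum, ← Finset.sum_div, Finset.sum_add_distrib, hall, hall]
  have hne : (1 : Fˣ) ≠ -1 := fun e => (two_ne D) (by
    have := congrArg Units.val e
    rw [Units.val_neg, Units.val_one] at this
    linear_combination this)
  have hq : (Fintype.card F : ℂ) + 1 = 2 * h := by exact_mod_cast D.ds.card_eq
  by_cases h1 : a = 1
  · subst h1
    rw [if_pos rfl, if_neg hne.symm, if_pos (Or.inl rfl)]
    linear_combination hq / 2
  · by_cases h2 : a = -1
    · subst h2
      rw [if_neg h1, if_pos (neg_neg _), if_pos (Or.inr rfl)]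
      linear_combination hq / 2
    · rw [if_neg h1, if_neg (fun e : -a = 1 => h2 (by rw [← e, neg_neg])), if_neg (by tauto)]
      ring

/-- The regular character of `PSL₂` on the projective functions. -/
theorem regular_expansion [Fintype (Subgroup.zpowers c →* ℂˣ)] [Fintype (MulChar F ℂ)]
    [DecidablePred (evenTheta D)] [DecidablePred fun α : MulChar F ℂ => α (-1) = 1] :
    ((((h : ℂ) - 1) / 2) • ∑ θ ∈ Finset.univ.filter (evenTheta D), psi D θ) +
      (h : ℂ) • ∑ α ∈ Finset.univ.filter (fun α : MulChar F ℂ => α (-1) = 1), ps α =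
      fun g => if g = 1 ∨ g = -1 then 2 * (h : ℂ) * ((h : ℂ) - 1) * Fintype.card F else 0 := by
  classical
  funext g
  simp only [Pi.add_apply, Pi.smul_apply, Finset.sum_apply, smul_eq_mul]
  set TH := Finset.univ.filter (evenTheta D) with hTH
  set AL := Finset.univ.filter (fun α : MulChar F ℂ => α (-1) = 1) with hAL
  have hmemT : ∀ θ ∈ TH, evenTheta D θ := fun θ hθ => (Finset.mem_filter.1 hθ).2
  have hmemA : ∀ α ∈ AL, α (-1) = 1 := fun α hα => (Finset.mem_filter.1 hα).2
  have cT : (TH.card : ℂ) = h := by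
    have := sum_theta_even D (1 : Subgroup.zpowers c)
    simpa using this
  have cA : (AL.card : ℂ) = (h : ℂ) - 1 := by
    have := sum_alpha_even D (1 : Fˣ)
    simpa using this
  have hq : (Fintype.card F : ℂ) + 1 = 2 * h := by exact_mod_cast D.ds.card_eq
  have hd := delta_spec D
  have hne : (1 : SL2) ≠ -1 := (neg_one_ne_one (two_ne D)).symm
  have hpse : ∀ α : MulChar F ℂ, IsClassFunction SL2 (ps α) := fun α =>
    isClassFunction_of_isCharacter (isCharacter_ps α)
  rcases element_cases (two_ne D) g with hg1 | hg1 | hy | hn | ⟨ε, b, hε, hb, hc⟩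
  · subst hg1
    rw [if_pos (Or.inl rfl),
      Finset.sum_congr rfl fun θ hθ => show psi D θ 1 = 2 * ((Fintype.card F : ℂ) - 1) by
        rw [psi_def, Pi.add_apply, ds_one D.ds (alpha_ok D (hmemT θ hθ)),
          ds_one D.ds (alpha_ok D (even_mul D (hmemT θ hθ) hd.2.2.1))]
        ring,
      Finset.sum_congr rfl fun α _ => ps_one α, Finset.sum_const, Finset.sum_const, nsmul_eq_mul,
      nsmul_eq_mul, cT, cA]
    ring
  · subst hg1
    rw [if_pos (Or.inr rfl),
      Finset.sum_congr rfl fun θ hθ => show psi D θ (-1) = 2 * ((Fintype.card F : ℂ) - 1) by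
        rw [← psi_isEven D (hmemT θ hθ) (-1), ← pow_two, neg_one_sq, psi_def, Pi.add_apply,
          ds_one D.ds (alpha_ok D (hmemT θ hθ)),
          ds_one D.ds (alpha_ok D (even_mul D (hmemT θ hθ) hd.2.2.1))]
        ring,
      Finset.sum_congr rfl fun α hα => show ps α (-1 : SL2) = (Fintype.card F : ℂ) + 1 by
        rw [ps_neg_one, hmemA α hα, one_mul],
      Finset.sum_const, Finset.sum_const, nsmul_eq_mul, nsmul_eq_mul, cT, cA]
    ring
  all_goals rw [if_neg]
  · obtain ⟨a, ha, hc⟩ := exists_diag_of_hyp (two_ne D) hy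
    rw [Finset.sum_eq_zero fun θ hθ => by
        rw [psi_def, Pi.add_apply, ds_hyp D.ds (alpha_ok D (hmemT θ hθ)) hy,
          ds_hyp D.ds (alpha_ok D (even_mul D (hmemT θ hθ) hd.2.2.1)) hy, add_zero],
      Finset.sum_congr rfl fun α _ => show ps α g = α (a : F) + α ((a⁻¹ : Fˣ) : F) by
        rw [classFunction_eq_of_isConj (hpse α) hc, slDiag_eq_bEl, ps_bEl_hyp α 0 ha,
          Units.val_inv_eq_inv_val],
      Finset.sum_add_distrib, sum_alpha_even D, sum_alpha_even D, if_neg, if_neg]
    · ring
    · rintro (e | e)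
      · exact ha (by rw [← inv_inv a, e, inv_one, Units.val_one, one_pow])
      · exact ha (by rw [← inv_inv a, e]; simp)
    · rintro (e | e) <;> exact ha (by simp [e])
  · rintro (e | e) <;> exact hy.1 (by rw [e]; simp; norm_num)
  · obtain ⟨k, hk⟩ := exists_conj_mem_nonsplit D.ds.torus D.ds.noRoot hn
    have hc : IsConj g (k * g * k⁻¹) := isConj_iff.2 ⟨k, rfl⟩
    have hn' : NoRoot ((k * g * k⁻¹ : SL2) : M2) := noRoot_conj.2 hn
    have h1' : (k * g * k⁻¹ : SL2) ≠ 1 := fun e => hn'.trace_ne (by rw [e]; simp; norm_num)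
    have hn1 : (k * g * k⁻¹ : SL2) ≠ -1 := fun e => hn'.trace_ne (by rw [e, neg_one_coe]; simp; norm_num)
    set x : Subgroup.zpowers c := ⟨k * g * k⁻¹, hk⟩ with hx
    rw [Finset.sum_congr rfl fun θ hθ => show psi D θ g =
        -(((θ x : ℂ) + (θ x⁻¹ : ℂ)) + ((θ x : ℂ) * (delta D x : ℂ) + (θ x⁻¹ : ℂ) * (delta D x⁻¹ : ℂ))) by
        rw [classFunction_eq_of_isConj (isClassFunction_of_isGeneralizedCharacter (psi_gen D θ)) hc]
        show ds 1 θ (x : SL2) + ds 1 (θ * delta D) (x : SL2) = _
        rw [ds_torus D.ds (alpha_ok D (hmemT θ hθ)) x h1' hn1,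
          ds_torus D.ds (alpha_ok D (even_mul D (hmemT θ hθ) hd.2.2.1)) x h1' hn1, MonoidHom.mul_apply,
          map_inv, map_inv, Units.val_mul, Units.val_inv_eq_inv_val, Units.val_inv_eq_inv_val, mul_inv]
        ring,
      Finset.sum_eq_zero (s := AL) fun α _ => ps_noRoot α hn, mul_zero, add_zero,
      Finset.sum_neg_distrib, Finset.sum_add_distrib, Finset.sum_add_distrib, Finset.sum_add_distrib,
      ← Finset.sum_mul, ← Finset.sum_mul, sum_theta_even D, sum_theta_even D, if_neg, if_neg]
    · ring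
    · rintro (e | e)
      · exact h1' (by rw [← inv_inv (k * g * k⁻¹)]; exact inv_eq_one.2 e)
      · exact hn1 (by
          have e' : (k * g * k⁻¹)⁻¹ = (-1 : SL2) := e
          rw [← inv_inv (k * g * k⁻¹), e', inv_eq_iff_mul_eq_one, ← pow_two, neg_one_sq])
    · rintro (e | e)
      · exact h1' e
      · exact hn1 e
  · rintro (e | e) <;> exact hn.trace_ne (by rw [e]; simp; norm_num)
  · have hεF : ε = 1 ∨ ε = -1 := hε
    rw [Finset.sum_congr rfl fun θ hθ => show psi D θ g = -2 by
        rw [classFunction_eq_of_isConj (isClassFunction_of_isGeneralizedCharacter (psi_gen D θ)) hc]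
        show ds 1 θ (bEl ε b : SL2) + ds 1 (θ * delta D) (bEl ε b : SL2) = _
        rw [ds_uni D.ds (alpha_ok D (hmemT θ hθ)) hε hb,
          ds_uni D.ds (alpha_ok D (even_mul D (hmemT θ hθ) hd.2.2.1)) hε hb, MulChar.one_apply ε.isUnit]
        ring,
      Finset.sum_congr rfl fun α hα => show ps α g = 1 by
        rw [classFunction_eq_of_isConj (hpse α) hc, ps_bEl_uni α hε hb]
        rcases hεF with rfl | rfl
        · simp
        · rw [Units.val_neg, Units.val_one, hmemA α hα],
      Finset.sum_const, Finset.sum_const, nsmul_eq_mul, nsmul_eq_mul, cT, cA]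
    ring
  · rintro (e | e) <;> rw [e] at hc
    · have h1 := isConj_one_right.1 hc
      exact hb (by simpa using congrArg (fun g : SL2 => (g : M2) 0 1) h1)
    · obtain ⟨x, hx⟩ := isConj_iff.1 hc
      rw [neg_one_central, mul_inv_cancel_right] at hx
      exact hb (by simpa using (congrArg (fun g : SL2 => (g : M2) 0 1) hx).symm)

end CfsgLib.ReeType
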