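import Cfsg.Agent.Lib.ReeType.Frame
import Cfsg.Agent.Lib.Transfer.Basic

/-!
Every finite group of Ree type has a local frame.
-/

set_option autoImplicit false
set_option linter.unusedSectionVars false

namespace CfsgLib.ReeType

open Matrix Cfsg
open CfsgLib.SL2Char

universe u

variable {G : Type u} [Group G]

theorem three_pow_mod (k : ℕ) : 3 ^ (2 * k + 1) % 8 = 3 := by
  induction k with
  | zero => rfl
  | succ k ih => rw [show 2 * (k + 1) + 1 = 2 * k + 1 + 2 by ring, pow_add]; omega

/-- The four group, its cyclic permutation, and the position of the conjugate of `t₀`. -/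
theorem exists_local {F : Type} [Field F] [Fintype F] [DecidableEq F] [Finite G]
    (hq : 5 ≤ Fintype.card F) (hq8 : Fintype.card F % 8 = 3 ∨ Fintype.card F % 8 = 5)
    {t₀ : G} (E₀ : CentData t₀ F) (hodd : Odd (Subgroup.centralizer ({t₀} : Set G)).index)
    (hno : ∀ M : Subgroup G, M.Normal → M.index ≠ 2) :
    ∃ (s s' y : G), IsConj t₀ s ∧ Commute s t₀ ∧ orderOf y = 3 ∧ Commute y t₀ ∧ orderOf s' = 2 ∧
      Commute s s' ∧ y * s * y⁻¹ = s' ∧ y * s' * y⁻¹ = s * s' ∧ y * (s * s') * y⁻¹ = s ∧ s ≠ s' := by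
  classical
  set PSL := Matrix.ProjectiveSpecialLinearGroup (Fin 2) F
  have : Fact (Nat.Prime 2) := ⟨Nat.prime_two⟩
  have : Fact (Nat.Prime 3) := ⟨Nat.prime_three⟩
  set C := Subgroup.centralizer ({t₀} : Set G)
  obtain ⟨T⟩ : Nonempty (Sylow 2 PSL) := inferInstance
  have hkl := CfsgLib.ClassicalGroups.SL2.psl_sylow_two_klein rfl hq8 T
  obtain ⟨hcT, hnT⟩ := CfsgLib.SmallRee.psl_klein_normalizer (by omega) hq8 T
  have hT4 : Nat.card (T : Subgroup PSL) = 4 := hkl.card_four
  -- the Sylow subgroup of `G`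
  have hC : Nat.card C = 2 * Nat.card PSL := by
    rw [Nat.card_congr E₀.e.toEquiv, Nat.card_prod, Nat.card_eq_fintype_card (α := Multiplicative (ZMod 2))]
    rfl
  set S₁ : Subgroup C := (T : Subgroup PSL).comap E₀.kappa with hS₁
  have hS₁card : Nat.card S₁ = 8 := by
    have e : S₁ ≃ Multiplicative (ZMod 2) × (T : Subgroup PSL) :=
      { toFun := fun x => ((E₀.e (x : C)).1, ⟨(E₀.e (x : C)).2, x.2⟩)
        invFun := fun p => ⟨E₀.e.symm (p.1, p.2), by
          show (E₀.e (E₀.e.symm (p.1, (p.2 : PSL)))).2 ∈ (T : Subgroup PSL)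
          rw [E₀.e.apply_symm_apply]; exact p.2.2⟩
        left_inv := fun x => Subtype.ext (by
          show E₀.e.symm ((E₀.e (x : C)).1, (E₀.e (x : C)).2) = _
          rw [Prod.mk.eta, E₀.e.symm_apply_apply])
        right_inv := fun p => by
          refine Prod.ext ?_ (Subtype.ext ?_)
          · show (E₀.e (E₀.e.symm _)).1 = _; rw [E₀.e.apply_symm_apply]
          · show (E₀.e (E₀.e.symm _)).2 = _; rw [E₀.e.apply_symm_apply] }
    rw [Nat.card_congr e, Nat.card_prod, hT4, Nat.card_eq_fintype_card (α := Multiplicative (ZMod 2))]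
    rfl
  have hfac : (Nat.card G).factorization 2 = 3 := by
    have h4 : 2 ^ (Nat.card PSL).factorization 2 = 2 ^ 2 := by
      rw [← T.card_eq_multiplicity, hT4]; norm_num
    have hf := Nat.pow_right_injective (le_refl 2) h4
    have hidx : C.index.factorization 2 = 0 :=
      Nat.factorization_eq_zero_of_not_dvd (fun h => (Nat.not_even_iff_odd.2 hodd) (even_iff_two_dvd.2 h))
    rw [← C.card_mul_index, Nat.factorization_mul Nat.card_pos.ne' Subgroup.index_ne_zero_of_finite, hC,
      Nat.factorization_mul (by norm_num) Nat.card_pos.ne', Finsupp.add_apply, Finsupp.add_apply, hidx, hf,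
      Nat.prime_two.factorization_self]
  let P : Sylow 2 G := Sylow.ofCard (p := 2) (S₁.map C.subtype) (by
    rw [Subgroup.card_map_of_injective C.subtype_injective, hS₁card, hfac]; norm_num)
  have hPmem : ∀ x : G, x ∈ (P : Subgroup G) → ∃ hx : x ∈ C, E₀.kappa ⟨x, hx⟩ ∈ (T : Subgroup PSL) := by
    rintro _ ⟨x, hx, rfl⟩
    exact ⟨x.2, hx⟩
  set Q₁ : Subgroup C := ((⊥ : Subgroup (Multiplicative (ZMod 2))).prod (T : Subgroup PSL)).comap E₀.e.toMonoidHom
  have hQ₁ : Nat.card Q₁ = 4 := by
    have e : Q₁ ≃ (T : Subgroup PSL) :=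
      { toFun := fun x => ⟨(E₀.e (x : C)).2, (Subgroup.mem_prod.1 x.2).2⟩
        invFun := fun p => ⟨E₀.e.symm (1, p), Subgroup.mem_comap.2 (by
          rw [MulEquiv.coe_toMonoidHom, E₀.e.apply_symm_apply]
          exact Subgroup.mem_prod.2 ⟨Subgroup.one_mem _, p.2⟩)⟩
        left_inv := fun x => Subtype.ext (by
          show E₀.e.symm (1, (E₀.e (x : C)).2) = _
          rw [← show (E₀.e (x : C)).1 = 1 from Subgroup.mem_bot.1 (Subgroup.mem_prod.1 x.2).1, Prod.mk.eta,
            E₀.e.symm_apply_apply])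
        right_inv := fun p => Subtype.ext (by
          show (E₀.e (E₀.e.symm _)).2 = _; rw [E₀.e.apply_symm_apply]) }
    rw [Nat.card_congr e, hT4]
  have hQS : Q₁ ≤ S₁ := fun x hx => (Subgroup.mem_prod.1 hx).2
  set Q : Subgroup G := Q₁.map C.subtype
  have hQP : Q ≤ (P : Subgroup G) := Subgroup.map_mono hQS
  have hrel : Q.relIndex (P : Subgroup G) = 2 := by
    have h := (Q.subgroupOf (P : Subgroup G)).card_mul_index
    rw [Nat.card_congr (Subgroup.subgroupOfEquivOfLe hQP).toEquiv,
      show Nat.card Q = 4 by rw [Subgroup.card_map_of_injective C.subtype_injective, hQ₁],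
      show Nat.card (P : Subgroup G) = 8 by
        show Nat.card (S₁.map C.subtype) = 8
        rw [Subgroup.card_map_of_injective C.subtype_injective, hS₁card]] at h
    show (Q.subgroupOf (P : Subgroup G)).index = 2
    omega
  have ht : orderOf t₀ = 2 := E₀.orderOf_s
  obtain ⟨g, hgQ⟩ : ∃ g : G, g * t₀ * g⁻¹ ∈ Q := by
    by_contra hcon
    push Not at hcon
    obtain ⟨M, hM, hM2, -⟩ := CfsgLib.Transfer.thompson_transfer P Q hrel t₀
      (by rw [pow_two]; exact CfsgLib.Involutions.mul_self_eq_one ht) (fun g _ => hcon g)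
    exact hno M hM hM2
  obtain ⟨w, hw, hwe⟩ := hgQ
  have hw1 : (E₀.e w).1 = 1 := Subgroup.mem_bot.1 (Subgroup.mem_prod.1 hw).1
  have hwv : (E₀.e w).2 ∈ (T : Subgroup PSL) := (Subgroup.mem_prod.1 hw).2
  set v := (E₀.e w).2 with hv
  let up : PSL →* G := C.subtype.comp (E₀.e.symm.toMonoidHom.comp (MonoidHom.inr _ _))
  have hupinj : Function.Injective up := fun a b e => by
    have := E₀.e.symm.injective (Subtype.ext e)
    exact (Prod.ext_iff.1 this).2
  have hupC : ∀ a, Commute (up a) t₀ := fun a =>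
    Subgroup.mem_centralizer_singleton_iff.1 (E₀.e.symm (1, a)).2
  have hup : up v = g * t₀ * g⁻¹ := by
    rw [← hwe]
    show ((E₀.e.symm (1, v) : C) : G) = (w : G)
    rw [hv, ← hw1, Prod.mk.eta, E₀.e.symm_apply_apply]
  have hv1 : v ≠ 1 := fun e => by
    rw [e, map_one] at hup
    have := CfsgLib.Involutions.orderOf_conj_eq g t₀
    rw [← hup, orderOf_one, ht] at this
    omega
  -- the element of order three
  obtain ⟨⟨z, hzN⟩, hz⟩ := exists_prime_orderOf_dvd_card' (G := Subgroup.normalizer ((T : Subgroup PSL) : Set PSL)) 3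
    (by rw [hnT]; norm_num)
  rw [Subgroup.orderOf_mk] at hz
  have hz3 : z ^ 3 = 1 := by rw [← hz, pow_orderOf_eq_one]
  have hzT : ∀ a ∈ (T : Subgroup PSL), z * a * z⁻¹ ∈ (T : Subgroup PSL) := fun a ha =>
    (Subgroup.mem_normalizer_iff.1 hzN a).1 ha
  have hsq : ∀ a ∈ (T : Subgroup PSL), a * a = 1 := fun a ha => CfsgLib.Involutions.klein_mul_self T hkl ha
  have hfour : ∀ a b : PSL, a ∈ (T : Subgroup PSL) → b ∈ (T : Subgroup PSL) → a ≠ 1 → b ≠ 1 → a ≠ b →
      ∀ d ∈ (T : Subgroup PSL), d = 1 ∨ d = a ∨ d = b ∨ d = a * b := by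
    intro a b ha hb ha1 hb1 hab d hd
    by_contra hcon
    push Not at hcon
    obtain ⟨c1, c2, c3, c4⟩ := hcon
    have hab1 : a * b ≠ 1 := fun e => hab (by
      rw [← mul_left_inj b, e, hsq b hb])
    have hsub : ({1, a, b, a * b, d} : Finset PSL) ⊆ Finset.univ.filter (· ∈ (T : Subgroup PSL)) := by
      intro x hx
      simp only [Finset.mem_insert, Finset.mem_singleton] at hx
      rw [Finset.mem_filter]
      refine ⟨Finset.mem_univ _, ?_⟩
      rcases hx with rfl | rfl | rfl | rfl | rfl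
      exacts [Subgroup.one_mem _, ha, hb, Subgroup.mul_mem _ ha hb, hd]
    have h5 := Finset.card_le_card hsub
    rw [← Fintype.card_subtype, ← Nat.card_eq_fintype_card, hT4] at h5
    have ha' : a ≠ a * b := fun e => hb1 (left_eq_mul.1 e)
    have hb' : b ≠ a * b := fun e => ha1 (right_eq_mul.1 e)
    rw [Finset.card_insert_of_notMem (by simp [Ne.symm ha1, Ne.symm hb1, Ne.symm hab1, Ne.symm c1]),
      Finset.card_insert_of_notMem (by simp [hab, ha', Ne.symm c2]),
      Finset.card_insert_of_notMem (by simp [hb', Ne.symm c3]),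
      Finset.card_pair (Ne.symm c4)] at h5
    omega
  have hconj1 : ∀ a : PSL, a ≠ 1 → z * a * z⁻¹ ≠ 1 := fun a ha e => ha (conj_eq_one_iff.1 e)
  have hzz : ∀ a : PSL, z * (z * (z * a * z⁻¹) * z⁻¹) * z⁻¹ = a := fun a => by
    calc _ = z ^ 3 * a * (z ^ 3)⁻¹ := by rw [pow_succ, pow_two]; group
      _ = a := by rw [hz3]; group
  set v' := z * v * z⁻¹ with hv'
  have hv'T := hzT v hwv
  have hvv : v ≠ v' := by
    intro e
    have hzC : z ∈ Subgroup.centralizer ((T : Subgroup PSL) : Set PSL) := by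
      rw [Subgroup.mem_centralizer_iff]
      intro d hd
      suffices hfix : z * d * z⁻¹ = d by
        calc d * z = z * d * z⁻¹ * z := by rw [hfix]
          _ = z * d := by group
      by_cases hd1 : d = 1
      · subst hd1; group
      by_cases hdv : v = d
      · rw [← hdv]; exact e.symm
      have hd' := hzT d hd
      rcases hfour v d hwv hd hv1 hd1 hdv _ hd' with h1 | h1 | h1 | h1
      · exact absurd h1 (hconj1 d hd1)
      · exact absurd (mul_left_cancel (mul_right_cancel (h1.trans e))).symm hdv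
      · exact h1
      · exfalso
        have h2 : z * (v * d) * z⁻¹ = d := by
          rw [show z * (v * d) * z⁻¹ = (z * v * z⁻¹) * (z * d * z⁻¹) by group, h1, ← hv', ← e, ← mul_assoc,
            hsq v hwv, one_mul]
        have h3 := hzz d
        rw [h1, h2, h1] at h3
        exact hv1 (mul_eq_right.1 h3)
    rw [hcT] at hzC
    have := hsq z hzC
    have := orderOf_le_of_pow_eq_one (n := 2) (by norm_num) (show z ^ 2 = 1 by rw [pow_two]; exact this)
    omega
  have hv'1 : v' ≠ 1 := hconj1 v hv1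
  have hv''T := hzT v' hv'T
  have h2' : z * v' * z⁻¹ = v * v' := by
    rcases hfour v v' hwv hv'T hv1 hv'1 hvv _ hv''T with h1 | h1 | h1 | h1
    · exact absurd h1 (hconj1 v' hv'1)
    · exfalso
      have h3 := hzz v
      rw [← hv', h1, ← hv'] at h3
      exact hvv h3.symm
    · exfalso
      have h4 : z * v * z⁻¹ = z * v' * z⁻¹ := hv'.symm.trans h1.symm
      exact hvv (mul_left_cancel (mul_right_cancel h4))
    · exact h1
  have h3' : z * (v * v') * z⁻¹ = v := by
    rw [← h2']
    exact hzz v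
  refine ⟨up v, up v', up z, ?_, hupC v, ?_, hupC z, ?_, ?_, ?_, ?_, ?_, fun e => hvv (hupinj e)⟩
  · rw [hup]; exact isConj_iff.2 ⟨g, rfl⟩
  · rw [orderOf_injective up hupinj, hz]
  · rw [orderOf_injective up hupinj]; exact CfsgLib.Involutions.klein_orderOf T hkl hv'T hv'1
  · exact (show Commute v v' from congrArg Subtype.val
      ((CfsgLib.Involutions.klein_comm T hkl).is_comm.comm ⟨v, hwv⟩ ⟨v', hv'T⟩)).map up
  · rw [← map_inv, ← map_mul, ← map_mul]
  · rw [← map_inv, ← map_mul, ← map_mul, h2', map_mul]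
  · rw [← map_inv, ← map_mul, ← map_mul, ← map_mul, h3']

theorem exists_frame [Finite G] (hG : IsReeType G) :
    ∃ (F : Type) (_ : Field F) (_ : Fintype F) (_ : DecidableEq F) (_ : CharP F 3),
      Nonempty (Frame G F) := by
  classical
  obtain ⟨hsimple, hnc, t₀, K, k, hk, ht, hodd, hdp, F, iF, iFT, hcard, ⟨ek⟩⟩ := hG
  have hchar : CharP F 3 := by
    obtain ⟨p, hp⟩ := CharP.exists F
    have hpp : p.Prime := CharP.char_is_prime F p
    have hd : p ∣ 3 ^ (2 * k + 1) := hcard ▸ (CharP.cast_eq_zero_iff F p _).1 (Nat.cast_card_eq_zero F)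
    exact (Nat.prime_dvd_prime_iff_eq hpp Nat.prime_three).1 (hpp.dvd_of_dvd_pow hd) ▸ hp
  refine ⟨F, iF, iFT, Classical.decEq F, hchar, ?_⟩
  have hmod := three_pow_mod k
  have h27 : 27 ≤ 3 ^ (2 * k + 1) :=
    le_trans (by norm_num) (Nat.pow_le_pow_right (by norm_num) (show 3 ≤ 2 * k + 1 by omega))
  obtain ⟨E₀⟩ := exists_centData (F := F) ht hdp ek
  have hno : ∀ M : Subgroup G, M.Normal → M.index ≠ 2 := by
    intro M hM h2
    rcases hM.eq_bot_or_eq_top with e | e
    · rw [e, Subgroup.index_bot] at h2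
      have : Fact (Nat.Prime 2) := ⟨Nat.prime_two⟩
      have : IsCyclic G := isCyclic_of_prime_card h2
      exact hnc ⟨⟨fun a b => IsCyclic.commGroup.mul_comm a b⟩⟩
    · rw [e, Subgroup.index_top] at h2; omega
  obtain ⟨s, s', y, hconj, -, hy, hyt, hs', hss', e1, e2, e3, hne⟩ :=
    exists_local (F := F) (by omega) (by omega) E₀ hodd hno
  obtain ⟨E⟩ := E₀.exists_of_isConj hconj
  have hs : orderOf s = 2 := E.orderOf_s
  have hs'C : s' ∈ Subgroup.centralizer ({s} : Set G) := Subgroup.mem_centralizer_singleton_iff.2 hss'.eq.symm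
  -- choose the involution in the second component, and the sense of `y`
  obtain ⟨s₂, y, hs₂, hC₂, hy, hyt, a1, a2, a3, hsgn⟩ : ∃ (s₂ y : G) (_ : orderOf s₂ = 2)
      (hC : s₂ ∈ Subgroup.centralizer ({s} : Set G)), orderOf y = 3 ∧ Commute y t₀ ∧
      y⁻¹ * s * y = s * s₂ ∧ y⁻¹ * s₂ * y = s ∧ y⁻¹ * (s * s₂) * y = s₂ ∧ (E.e ⟨s₂, hC⟩).1 = 1 := by
    have hsC : s ∈ Subgroup.centralizer ({s} : Set G) := Subgroup.mem_centralizer_singleton_iff.2 rfl
    have hss : s * s = 1 := CfsgLib.Involutions.mul_self_eq_one hs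
    rcases E.sgn_cases ⟨s', hs'C⟩ with ⟨hg, -⟩ | ⟨hg, -⟩
    · refine ⟨s', y, hs', hs'C, hy, hyt, ?_, ?_, ?_, hg⟩
      · nth_rw 1 [← e3]; group
      · rw [← e1]; group
      · rw [← e2]; group
    · have hd : orderOf (s * s') = 2 := CfsgLib.Involutions.orderOf_eq_two_iff_mul.2
        ⟨fun e => hne ((inv_eq_of_mul_eq_one_right e).symm.trans
          (CfsgLib.Involutions.inv_eq_self_of_involution hs)).symm, by
          rw [mul_assoc, ← mul_assoc s', ← hss'.eq, mul_assoc, CfsgLib.Involutions.mul_self_eq_one hs',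
            mul_one, hss]⟩
      refine ⟨s * s', y⁻¹, hd, Subgroup.mul_mem _ hsC hs'C, by rw [orderOf_inv, hy], hyt.inv_left, ?_, ?_, ?_, ?_⟩
      · rw [inv_inv, e1, ← mul_assoc, hss, one_mul]
      · rw [inv_inv, e3]
      · rw [inv_inv, ← mul_assoc s s, hss, one_mul, e2]
      · rw [show (⟨s * s', _⟩ : Subgroup.centralizer ({s} : Set G)) = ⟨s, hsC⟩ * ⟨s', hs'C⟩ from rfl,
          map_mul, E.he, Prod.fst_mul, hg]
        show Multiplicative.ofAdd (1 : ZMod 2) * Multiplicative.ofAdd 1 = 1
        decide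
  set r := E.kappa ⟨s₂, hC₂⟩ with hr
  have hsym : ((E.e.symm (1, r) : Subgroup.centralizer ({s} : Set G)) : G) = s₂ := by
    rw [hr, CentData.kappa]
    show ((E.e.symm (1, (E.e ⟨s₂, hC₂⟩).2) : Subgroup.centralizer ({s} : Set G)) : G) = s₂
    rw [← hsgn, Prod.mk.eta, E.e.symm_apply_apply]
  have hrord : orderOf r = 2 := by
    have h1 : orderOf ((1 : Multiplicative (ZMod 2)), r) = 2 := by
      rw [← orderOf_injective E.e.symm.toMonoidHom E.e.symm.injective]
      show orderOf (E.e.symm (1, r)) = 2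
      rw [← Subgroup.orderOf_coe, hsym, hs₂]
    rwa [Prod.orderOf, orderOf_one, Nat.lcm_one_left] at h1
  obtain ⟨c, h, D, hcn, hord, hout, hcent⟩ := exists_torus (F := F) (n := (Fintype.card F + 1) / 4)
    (by omega) (Nat.odd_iff.2 (by omega)) (by omega) hrord
  set n := (Fintype.card F + 1) / 4
  set C := Subgroup.centralizer ({s} : Set G)
  set A : Subgroup G := ((Subgroup.zpowers (prj c)).comap E.kappa).map C.subtype with hA
  have hAmem : ∀ z : C, (z : G) ∈ A ↔ E.kappa z ∈ Subgroup.zpowers (prj c) := fun z => by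
    rw [hA, show (z : G) = C.subtype z from rfl,
      Subgroup.mem_map_iff_mem C.subtype_injective, Subgroup.mem_comap]
  have hn1 : 1 < n := by omega
  have hcomm : ∀ z : C, Commute ((z : G)) s₂ ↔ Commute r (E.kappa z) := by
    intro z
    constructor
    · intro hz
      rw [hr]
      exact ((show Commute (⟨s₂, hC₂⟩ : C) z from Subtype.ext hz.symm).map E.kappa)
    · intro hz
      have : Commute (E.e z) (E.e ⟨s₂, hC₂⟩) :=
        Prod.ext (mul_comm _ _) hz.symm
      have := this.map E.e.symm.toMonoidHom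
      simp only [MulEquiv.coe_toMonoidHom, E.e.symm_apply_apply] at this
      exact congrArg Subtype.val this
  have hrc : r ∈ Subgroup.zpowers (prj c) := by rw [← hcn, map_pow]; exact Subgroup.npow_mem_zpowers _ _
  -- intrinsic description of the torus
  have hint : ∀ x : G, x ∈ A ↔ Commute x s ∧ Commute x s₂ ∧
      ∀ w : G, Commute w s → Commute w s₂ → w ^ n = 1 → Commute x w := by
    intro x
    constructor
    · rintro ⟨z, hz, rfl⟩
      have hz' : E.kappa z ∈ Subgroup.zpowers (prj c) := hz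
      refine ⟨Subgroup.mem_centralizer_singleton_iff.1 z.2, (hcomm z).2 ?_, fun w hw hw2 hwn => ?_⟩
      · obtain ⟨i, hi⟩ := Subgroup.mem_zpowers_iff.1 hz'
        obtain ⟨j, hj⟩ := Subgroup.mem_zpowers_iff.1 hrc
        rw [← hi, ← hj]
        exact (Commute.refl _).zpow_zpow j i
      · set w' : C := ⟨w, Subgroup.mem_centralizer_singleton_iff.2 hw.eq⟩
        have hwc : E.kappa w' ∈ Subgroup.zpowers (prj c) := by
          by_contra hn
          have h2 := hout _ ((hcomm w').1 hw2) hn
          have hn' : E.kappa w' ^ n = 1 := by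
            rw [← map_pow, show w' ^ n = 1 from Subtype.ext hwn, map_one]
          obtain ⟨m, hm⟩ := D.n_odd
          rw [hm, pow_succ, pow_mul, pow_two, h2, one_pow, one_mul] at hn'
          exact hn (hn' ▸ Subgroup.one_mem _)
        obtain ⟨i, hi⟩ := Subgroup.mem_zpowers_iff.1 hz'
        obtain ⟨j, hj⟩ := Subgroup.mem_zpowers_iff.1 hwc
        have h1 : Commute (E.e z) (E.e w') := Prod.ext (mul_comm _ _) (by
          show E.kappa z * E.kappa w' = E.kappa w' * E.kappa z
          rw [← hi, ← hj]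
          exact ((Commute.refl _).zpow_zpow i j).eq)
        have := h1.map E.e.symm.toMonoidHom
        simp only [MulEquiv.coe_toMonoidHom, E.e.symm_apply_apply] at this
        exact congrArg Subtype.val this
    · rintro ⟨hx, hx2, hxw⟩
      set z : C := ⟨x, Subgroup.mem_centralizer_singleton_iff.2 hx.eq⟩
      refine (hAmem z).2 ?_
      by_contra hn
      set f := prj c with hf
      set w : C := E.e.symm (1, f ^ 2) with hw
      have hwk : E.kappa w = f ^ 2 := by
        show (E.e (E.e.symm _)).2 = _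
        rw [E.e.apply_symm_apply]
      have hwn : (w : G) ^ n = 1 := by
        rw [← Subgroup.coe_pow, hw, ← map_pow, Prod.pow_mk, one_pow, ← pow_mul,
          show f ^ (2 * n) = 1 by rw [← hord, pow_orderOf_eq_one]]
        exact congrArg Subtype.val (map_one E.e.symm)
      have hwr : Commute (w : G) s₂ := (hcomm w).2 (by
        rw [hwk]
        obtain ⟨j, hj⟩ := Subgroup.mem_zpowers_iff.1 hrc
        rw [← hj]
        exact ((Commute.refl f).zpow_left j).pow_right 2)
      have hzw : Commute x (w : G) := hxw _ (Subgroup.mem_centralizer_singleton_iff.1 w.2) hwr hwn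
      have hzf2 : Commute (E.kappa z) (f ^ 2) := hwk ▸
        (show Commute z w from Subtype.ext hzw.eq).map E.kappa
      have hzr : Commute (E.kappa z) (f ^ n) := by
        rw [hf, ← map_pow, hcn]; exact ((hcomm z).1 hx2).symm
      have hzf : Commute (E.kappa z) f := by
        obtain ⟨m, hm⟩ := D.n_odd
        have : f = f ^ n * ((f ^ 2) ^ m)⁻¹ := by
          rw [eq_mul_inv_iff_mul_eq, ← pow_mul, ← pow_succ', hm]
        rw [this]
        exact hzr.mul_right (hzf2.pow_right m).inv_right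
      have hcommr : Commute r (E.kappa z) := (hcomm z).1 hx2
      have hrf : Commute r f := by
        obtain ⟨j, hj⟩ := Subgroup.mem_zpowers_iff.1 hrc
        rw [← hj]; exact (Commute.refl f).zpow_left j
      have h1 := hout _ hcommr hn
      have h2 := hout (E.kappa z * f) (hcommr.mul_right hrf) (fun e => hn (by
        have := Subgroup.mul_mem _ e (Subgroup.inv_mem _ (Subgroup.mem_zpowers f))
        rwa [mul_inv_cancel_right] at this))
      rw [hzf.symm.mul_mul_mul_comm, h1, one_mul] at h2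
      have := orderOf_le_of_pow_eq_one (n := 2) (by norm_num) (show f ^ 2 = 1 by rw [pow_two]; exact h2)
      omega
  have hy3 : y ^ 3 = 1 := by rw [← hy, pow_orderOf_eq_one]
  have hcj : ∀ {a b : G}, Commute a b → Commute (y⁻¹ * a * y) (y⁻¹ * b * y) := fun {a b} hab => by
    show _ * _ = _ * _
    calc y⁻¹ * a * y * (y⁻¹ * b * y) = y⁻¹ * (a * b) * y := by group
      _ = y⁻¹ * (b * a) * y := by rw [hab.eq]
      _ = _ := by group
  refine ⟨{ t₀ := t₀, s := s, E₀ := E₀, E := E, c := c, h := h, n := n, A := A, y := y, data := D,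
            hq := ⟨k, hk, hcard⟩, conj := hconj, odd_index := hodd, ord_c := hord,
            torus_out := by rw [hcn]; exact hout, torus_cent := by rw [hcn]; exact hcent,
            hAC := fun x hx => ?_, hA := hAmem, y_three := hy, y_comm := hyt, y_norm := fun a ha => ?_,
            y_s := ?_, y_s2 := ?_ }⟩
  · exact Subgroup.mem_centralizer_singleton_iff.2 ((hint x).1 hx).1.eq
  · obtain ⟨b1, b2, b3⟩ := (hint a).1 ha
    have c2 : Commute (y⁻¹ * a * y) s := a2 ▸ hcj b2
    have c12 : Commute (y⁻¹ * a * y) (s * s₂) := a1 ▸ hcj b1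
    have c1 : Commute (y⁻¹ * a * y) s₂ := by
      have := c2.inv_right.mul_right c12
      rwa [inv_mul_cancel_left] at this
    refine (hint _).2 ⟨c2, c1, fun w hw hw2 hwn => ?_⟩
    set w₀ := y * w * y⁻¹ with hw₀
    have back : w = y⁻¹ * w₀ * y := by rw [hw₀]; group
    have d1 : Commute w₀ s := by
      have h12 : Commute w (s * s₂) := hw.mul_right hw2
      rw [← a1] at h12
      show _ * _ = _ * _
      calc w₀ * s = y * (w * (y⁻¹ * s * y)) * y⁻¹ := by rw [hw₀]; group
        _ = y * ((y⁻¹ * s * y) * w) * y⁻¹ := by rw [h12.eq]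
        _ = s * w₀ := by rw [hw₀]; group
    have d2 : Commute w₀ s₂ := by
      show _ * _ = _ * _
      calc w₀ * s₂ = y * (w * (y⁻¹ * s₂ * y)) * y⁻¹ := by rw [hw₀]; group
        _ = y * ((y⁻¹ * s₂ * y) * w) * y⁻¹ := by rw [a2, hw.eq]
        _ = s₂ * w₀ := by rw [hw₀]; group
    have d3 : w₀ ^ n = 1 := by rw [hw₀, conj_pow, hwn, mul_one, mul_inv_cancel]
    rw [back]
    exact hcj (b3 w₀ d1 d2 d3)
  · rw [hcn, hsym]; exact a1
  · rw [hcn, hsym]; exact a2

end CfsgLib.ReeType
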