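import Cfsg.Agent.Lib.ReeType.Basics

/-!
The three-subgroup of the centralizer of the involution of a frame.
-/

set_option autoImplicit false
set_option linter.unusedSectionVars false

namespace CfsgLib.ReeType

open Matrix Cfsg
open CfsgLib.SL2Char

universe u

variable {G : Type u} [Group G]
variable {F : Type} [Field F] [Fintype F] [DecidableEq F]

namespace Frame

variable (Fr : Frame G F)

/-- The image of `y` in the complement. -/
noncomputable def y₀ : Matrix.ProjectiveSpecialLinearGroup (Fin 2) F :=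
  Fr.E₀.kappa ⟨Fr.y, Subgroup.mem_centralizer_singleton_iff.2 Fr.y_comm.eq⟩

/-- The elementary abelian subgroup of order `q` containing `y`. -/
noncomputable def E3 : Subgroup G :=
  (Subgroup.centralizer ({Fr.y₀} : Set (Matrix.ProjectiveSpecialLinearGroup (Fin 2) F))).map Fr.E₀.up

theorem mem_E3 {x : G} : x ∈ Fr.E3 ↔ ∃ a, Commute a Fr.y₀ ∧ Fr.E₀.up a = x := by
  rw [E3, Subgroup.mem_map]
  exact ⟨fun ⟨a, ha, e⟩ => ⟨a, Subgroup.mem_centralizer_singleton_iff.1 ha, e⟩,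
    fun ⟨a, ha, e⟩ => ⟨a, Subgroup.mem_centralizer_singleton_iff.2 ha.eq, e⟩⟩

theorem card_E3 : Nat.card Fr.E3 = Fintype.card F := by
  have := Fr.char_three
  rw [E3, Subgroup.card_map_of_injective Fr.E₀.up_injective]
  exact (centralizer_three Fr.kappa_y).1

theorem E3_comm {a b : G} (ha : a ∈ Fr.E3) (hb : b ∈ Fr.E3) : Commute a b := by
  have := Fr.char_three
  obtain ⟨a, ha', rfl⟩ := Fr.mem_E3.1 ha
  obtain ⟨b, hb', rfl⟩ := Fr.mem_E3.1 hb
  exact ((centralizer_three Fr.kappa_y).2.1 a b ha' hb').map Fr.E₀.up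

theorem E3_cube {a : G} (ha : a ∈ Fr.E3) : a ^ 3 = 1 := by
  have := Fr.char_three
  obtain ⟨a, ha', rfl⟩ := Fr.mem_E3.1 ha
  rw [← map_pow, (centralizer_three Fr.kappa_y).2.2 a ha', map_one]

theorem E3_t₀ {a : G} (ha : a ∈ Fr.E3) : Commute a Fr.t₀ := by
  obtain ⟨a, -, rfl⟩ := Fr.mem_E3.1 ha
  exact Fr.E₀.up_commute a

theorem y_mem_E3 : Fr.y ∈ Fr.E3 := by
  refine Fr.mem_E3.2 ⟨Fr.y₀, Commute.refl _, ?_⟩
  rcases Fr.E₀.elt_cases ⟨Fr.y, Subgroup.mem_centralizer_singleton_iff.2 Fr.y_comm.eq⟩ with e | e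
  · exact e.symm
  · exfalso
    have e' : Fr.y = Fr.t₀ * Fr.E₀.up Fr.y₀ := e
    have h3 := Fr.y_cube
    have hy0 : Fr.y₀ ^ 3 = 1 := by rw [← show orderOf Fr.y₀ = 3 from Fr.kappa_y, pow_orderOf_eq_one]
    rw [e', (show Commute Fr.t₀ (Fr.E₀.up Fr.y₀) from (Fr.E₀.up_commute _).symm).mul_pow,
      ← map_pow Fr.E₀.up, hy0, map_one, mul_one, pow_succ, pow_two,
      CfsgLib.Involutions.mul_self_eq_one Fr.orderOf_t₀, one_mul] at h3
    exact CfsgLib.Involutions.ne_one_of_involution Fr.orderOf_t₀ h3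

theorem E3_y {a : G} (ha : a ∈ Fr.E3) : Commute a Fr.y := Fr.E3_comm ha Fr.y_mem_E3

/-- `C(t₀) ∩ C(y) = ⟨t₀⟩ × E3`. -/
theorem cases_of_commute {x : G} (ht : Commute x Fr.t₀) (hy : Commute x Fr.y) :
    ∃ a ∈ Fr.E3, x = a ∨ x = Fr.t₀ * a := by
  set z : Subgroup.centralizer ({Fr.t₀} : Set G) := ⟨x, Subgroup.mem_centralizer_singleton_iff.2 ht.eq⟩
  have hc : Commute (Fr.E₀.kappa z) Fr.y₀ :=
    (show Commute z ⟨Fr.y, Subgroup.mem_centralizer_singleton_iff.2 Fr.y_comm.eq⟩ from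
      Subtype.ext hy.eq).map Fr.E₀.kappa
  exact ⟨_, Fr.mem_E3.2 ⟨_, hc, rfl⟩, Fr.E₀.elt_cases z⟩

variable [Finite G]

theorem card_eq : Nat.card G =
    Fintype.card F * ((Fintype.card F - 1) * (Fintype.card F + 1)) *
      (Subgroup.centralizer ({Fr.t₀} : Set G)).index := by
  rw [← Fr.E₀.card_cent_eq Fr.two_ne', Subgroup.card_mul_index]

/-- The three-part of the order. -/
theorem not_three_mul_dvd (h3 : ¬ 3 ∣ (Subgroup.centralizer ({Fr.t₀} : Set G)).index) :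
    ¬ 3 * Fintype.card F ∣ Nat.card G := by
  rw [Fr.card_eq, mul_assoc, mul_comm 3]
  intro h
  have h' := Nat.dvd_of_mul_dvd_mul_left Fintype.card_pos h
  obtain ⟨k, -, hq⟩ := Fr.hq
  have hm : Fintype.card F % 3 = 0 := by rw [hq, pow_succ]; exact Nat.mul_mod_left _ _
  have hpos : 0 < Fintype.card F := Fintype.card_pos
  rcases Nat.prime_three.dvd_mul.1 h' with h1 | h1
  · rcases Nat.prime_three.dvd_mul.1 h1 with h2 | h2 <;> omega
  · exact h3 h1

/-- `E3` is a Sylow subgroup. -/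
theorem factorization_of_le (h3 : ¬ 3 ∣ (Subgroup.centralizer ({Fr.t₀} : Set G)).index)
    {L : Subgroup G} (hL : Fr.E3 ≤ L) :
    3 ^ (Nat.card L).factorization 3 = Fintype.card F := by
  obtain ⟨k, -, hq⟩ := Fr.hq
  have h1 : 3 ^ (2 * k + 1) ∣ Nat.card L := by
    rw [← hq, ← Fr.card_E3]; exact Subgroup.card_dvd_of_le hL
  have h2 : ¬ 3 ^ (2 * k + 1 + 1) ∣ Nat.card L := fun h => Fr.not_three_mul_dvd h3 (by
    rw [hq, ← pow_succ']
    exact h.trans L.card_subgroup_dvd_card)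
  rw [Nat.Prime.pow_dvd_iff_le_factorization Nat.prime_three Nat.card_pos.ne'] at h1 h2
  rw [hq]
  congr 1
  omega

end Frame

end CfsgLib.ReeType
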