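import Cfsg.Agent.Lib.Characters.Generalized
import Cfsg.Agent.Lib.SL2Char.Counting

/-!
Three pairwise orthogonal generalized characters of norm four whose differences are even.
-/

set_option autoImplicit false
set_option linter.unusedSectionVars false

namespace CfsgLib.ReeType

open Cfsg CfsgLib.Characters

universe u

variable {G : Type u} [Group G] [Fintype G]

theorem degree_pos (χ : IrrCharacter G) : ∃ d : ℕ, 0 < d ∧ (χ : G → ℂ) 1 = d :=
  irr_exists_degree χ.2

/-- The fourth constituent. -/
theorem exists_fourth {f : G → ℂ} (hf : IsGeneralizedCharacter G f) (h4 : classInner f f = 4)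
    {P Q R : IrrCharacter G} {a b c : ℤ} (hPQ : P ≠ Q) (hPR : P ≠ R) (hQR : Q ≠ R)
    (ha : classInner f (P : G → ℂ) = a) (hb : classInner f (Q : G → ℂ) = b)
    (hc : classInner f (R : G → ℂ) = c) (ha1 : a ^ 2 = 1) (hb1 : b ^ 2 = 1) (hc1 : c ^ 2 = 1) :
    ∃ (X : IrrCharacter G) (e : ℤ), (e = 1 ∨ e = -1) ∧ X ≠ P ∧ X ≠ Q ∧ X ≠ R ∧
      f = (e : ℂ) • (X : G → ℂ) + (a : ℂ) • (P : G → ℂ) + (b : ℂ) • (Q : G → ℂ) + (c : ℂ) • (R : G → ℂ) := by
  classical
  set r := f - ((a : ℂ) • (P : G → ℂ) + (b : ℂ) • (Q : G → ℂ) + (c : ℂ) • (R : G → ℂ)) with hr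
  have hgen : IsGeneralizedCharacter G r :=
    isGeneralizedCharacter_sub hf (isGeneralizedCharacter_add (isGeneralizedCharacter_add
      (isGeneralizedCharacter_intCast_smul (isGeneralizedCharacter_irr P) a)
      (isGeneralizedCharacter_intCast_smul (isGeneralizedCharacter_irr Q) b))
      (isGeneralizedCharacter_intCast_smul (isGeneralizedCharacter_irr R) c))
  have hcoef : ∀ Z : IrrCharacter G, classInner r (Z : G → ℂ) = classInner f (Z : G → ℂ) -
      ((if P = Z then (a : ℂ) else 0) + (if Q = Z then (b : ℂ) else 0) + (if R = Z then (c : ℂ) else 0)) := by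
    intro Z
    rw [hr, classInner_sub_left, classInner_add_left, classInner_add_left, classInner_smul_left,
      classInner_smul_left, classInner_smul_left, classInner_irr, classInner_irr, classInner_irr]
    simp [mul_ite]
  have rP : classInner r (P : G → ℂ) = 0 := by rw [hcoef, ha]; simp [Ne.symm hPQ, Ne.symm hPR]
  have rQ : classInner r (Q : G → ℂ) = 0 := by rw [hcoef, hb]; simp [hPQ, Ne.symm hQR]
  have rR : classInner r (R : G → ℂ) = 0 := by rw [hcoef, hc]; simp [hPR, hQR]
  have hn : classInner r r = 1 := by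
    have e : classInner r r = classInner f r := by
      nth_rw 1 [hr]
      rw [classInner_sub_left, classInner_add_left, classInner_add_left, classInner_smul_left,
        classInner_smul_left, classInner_smul_left, classInner_conj_symm r (P : G → ℂ),
        classInner_conj_symm r (Q : G → ℂ), classInner_conj_symm r (R : G → ℂ), rP, rQ, rR]
      simp
    rw [e, hr, classInner_sub_right, classInner_add_right, classInner_add_right, classInner_smul_right,
      classInner_smul_right, classInner_smul_right, h4, ha, hb, hc]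
    simp only [map_intCast]
    have e1 : (a : ℂ) ^ 2 = 1 := by exact_mod_cast ha1
    have e2 : (b : ℂ) ^ 2 = 1 := by exact_mod_cast hb1
    have e3 : (c : ℂ) ^ 2 = 1 := by exact_mod_cast hc1
    linear_combination -e1 - e2 - e3
  obtain ⟨X, hX⟩ := eq_irr_or_neg_of_classInner_self_eq_one hgen hn
  obtain ⟨e, he, hXe⟩ : ∃ e : ℤ, (e = 1 ∨ e = -1) ∧ r = (e : ℂ) • (X : G → ℂ) := by
    rcases hX with h | h
    · exact ⟨1, Or.inl rfl, by rw [h]; simp⟩
    · exact ⟨-1, Or.inr rfl, by rw [h]; simp⟩
  have hne : ∀ Z : IrrCharacter G, classInner r (Z : G → ℂ) = 0 → X ≠ Z := by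
    rintro Z h0 rfl
    rw [hXe, classInner_smul_left, classInner_irr_self X.2, mul_one] at h0
    rcases he with rfl | rfl <;> norm_num at h0
  refine ⟨X, e, he, hne P rP, hne Q rQ, hne R rR, ?_⟩
  rw [← hXe, hr]
  abel

/-- A norm two generalized character of degree zero is a difference. -/
theorem exists_difference {b : G → ℂ} (hb : IsGeneralizedCharacter G b) (h2 : classInner b b = 2)
    (h0 : b 1 = 0) : ∃ P Q : IrrCharacter G, P ≠ Q ∧ b = (P : G → ℂ) - (Q : G → ℂ) := by
  obtain ⟨P, Q, e₁, e₂, hne, he₁, he₂, h⟩ := CfsgLib.SL2Char.exists_pair_of_norm_two hb h2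
  obtain ⟨dP, hdP, hP⟩ := degree_pos P
  obtain ⟨dQ, hdQ, hQ⟩ := degree_pos Q
  have hd : e₁ * dP + e₂ * dQ = 0 := by
    have := congrFun h 1
    rw [h0, Pi.add_apply, Pi.smul_apply, Pi.smul_apply, smul_eq_mul, smul_eq_mul, hP, hQ] at this
    exact_mod_cast this.symm
  rcases he₁ with rfl | rfl <;> rcases he₂ with rfl | rfl
  · omega
  · exact ⟨P, Q, hne, by rw [h]; simp [sub_eq_add_neg]⟩
  · exact ⟨Q, P, hne.symm, by rw [h]; simp [sub_eq_add_neg, add_comm]⟩
  · omega

/-- Orthogonality to the four constituents. -/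
theorem coeff_zero {Φ : G → ℂ} {X P Q R : IrrCharacter G} (hΦ : IsGeneralizedCharacter G Φ)
    (hn : ∃ k : ℕ, k ≤ 4 ∧ classInner Φ Φ = k) (h1 : Φ 1 = 0)
    (hXP : X ≠ P) (hXQ : X ≠ Q) (hXR : X ≠ R) (hPQ : P ≠ Q) (hPR : P ≠ R) (hQR : Q ≠ R)
    (dP : (P : G → ℂ) 1 = (X : G → ℂ) 1) (dQ : (Q : G → ℂ) 1 = (X : G → ℂ) 1)
    (dR : (R : G → ℂ) 1 = (X : G → ℂ) 1)
    (eP : classInner Φ (P : G → ℂ) = classInner Φ (X : G → ℂ))
    (eQ : classInner Φ (Q : G → ℂ) = classInner Φ (X : G → ℂ))
    (eR : classInner Φ (R : G → ℂ) = classInner Φ (X : G → ℂ)) :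
    classInner Φ (X : G → ℂ) = 0 := by
  classical
  have hc := isClassFunction_of_isGeneralizedCharacter hΦ
  choose m hm using (isGeneralizedCharacter_iff.mp hΦ).2
  obtain ⟨k, hk, hk'⟩ := hn
  rw [classInner_self_eq_sum_sq hc hm] at hk'
  have hsum : ∑ χ, m χ ^ 2 = (k : ℤ) := by exact_mod_cast hk'
  simp only [hm, Int.cast_inj] at eP eQ eR ⊢
  rw [Int.cast_eq_zero]
  set S : Finset (IrrCharacter G) := {X, P, Q, R} with hS
  have hsplit := Finset.sum_add_sum_compl S (fun χ => m χ ^ 2)
  have hS4 : ∑ χ ∈ S, m χ ^ 2 = 4 * m X ^ 2 := by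
    rw [hS, Finset.sum_insert (by simp [hXP, hXQ, hXR]), Finset.sum_insert (by simp [hPQ, hPR]),
      Finset.sum_pair hQR, eP, eQ, eR]
    ring
  have hnn : 0 ≤ ∑ χ ∈ Sᶜ, m χ ^ 2 := Finset.sum_nonneg fun χ _ => sq_nonneg _
  by_contra hne
  have hpos : 1 ≤ m X ^ 2 := by
    have : 0 < m X ^ 2 := by positivity
    omega
  have hrest : ∑ χ ∈ Sᶜ, m χ ^ 2 = 0 := by omega
  have hz : ∀ χ ∈ Sᶜ, m χ = 0 := fun χ hχ =>
    eq_zero_of_pow_eq_zero ((Finset.sum_eq_zero_iff_of_nonneg fun ψ _ => sq_nonneg (m ψ)).1 hrest χ hχ)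
  have hval := congrFun (classFunction_eq_sum hc) 1
  rw [h1, Finset.sum_apply, ← Finset.sum_add_sum_compl S,
    Finset.sum_eq_zero (s := Sᶜ) fun χ hχ => by simp [hm, hz χ hχ], add_zero, hS,
    Finset.sum_insert (by simp [hXP, hXQ, hXR]), Finset.sum_insert (by simp [hPQ, hPR]),
    Finset.sum_pair hQR] at hval
  simp only [Pi.smul_apply, smul_eq_mul, hm, eP, eQ, eR, dP, dQ, dR] at hval
  have : (4 * m X : ℂ) * (X : G → ℂ) 1 = 0 := by linear_combination -hval
  exact hne (by
    have h' := (mul_eq_zero.1 this).resolve_right (irr_one_ne_zero X)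
    have h'' : (4 : ℤ) * m X = 0 := by exact_mod_cast h'
    omega)

/-- The configuration forced by three functions. -/
theorem triple (F : Fin 3 → G → ℂ) (b₀ b₁ : G → ℂ)
    (hF : ∀ i, IsGeneralizedCharacter G (F i)) (hb₀ : IsGeneralizedCharacter G b₀)
    (hb₁ : IsGeneralizedCharacter G b₁)
    (h01 : F 0 - F 1 = (2 : ℂ) • b₀) (h12 : F 1 - F 2 = (2 : ℂ) • b₁)
    (hin : ∀ i j, classInner (F i) (F j) = if i = j then 4 else 0)
    (hodd : ∀ i g, Odd (orderOf g) → F i g = 0) :
    ∃ U W : IrrCharacter G, (∀ g, Odd (orderOf g) → (U : G → ℂ) g = (W : G → ℂ) g) ∧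
      (∃ e : ℤ, (e = 1 ∨ e = -1) ∧
        classInner (F 0) (U : G → ℂ) + classInner (F 1) (U : G → ℂ) + classInner (F 2) (U : G → ℂ) = 3 * e) ∧
      (∃ e : ℤ, (e = 1 ∨ e = -1) ∧
        classInner (F 0) (W : G → ℂ) + classInner (F 1) (W : G → ℂ) + classInner (F 2) (W : G → ℂ) = e) ∧
      ∀ Φ : G → ℂ, IsGeneralizedCharacter G Φ → (∃ k : ℕ, k ≤ 4 ∧ classInner Φ Φ = k) → Φ 1 = 0 →
        (∀ i, classInner Φ (F i) = 0) → classInner Φ (U : G → ℂ) = 0 ∧ classInner Φ (W : G → ℂ) = 0 := by
  classical
  have e0 : F 0 = F 1 + (2 : ℂ) • b₀ := by rw [← h01]; abel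
  have e2 : F 2 = F 1 - (2 : ℂ) • b₁ := by rw [← h12]; abel
  have hin' := fun i j => hin i j
  have two_b₀ : ∀ f : G → ℂ, 2 * classInner b₀ f = classInner (F 0) f - classInner (F 1) f := fun f => by
    rw [← classInner_sub_left, h01, classInner_smul_left]
  have two_b₁ : ∀ f : G → ℂ, 2 * classInner b₁ f = classInner (F 1) f - classInner (F 2) f := fun f => by
    rw [← classInner_sub_left, h12, classInner_smul_left]
  have b_F : classInner b₀ (F 1) = -2 ∧ classInner b₁ (F 1) = 2 ∧
      classInner b₀ (F 0) = 2 ∧ classInner b₁ (F 0) = 0 ∧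
      classInner b₁ (F 2) = -2 := by
    have a := two_b₀ (F 1); have b := two_b₁ (F 1); have c := two_b₀ (F 0); have d := two_b₁ (F 0)
    have e := two_b₁ (F 2)
    simp only [hin, Fin.reduceEq, if_true, if_false] at a b c d e
    refine ⟨?_, ?_, ?_, ?_, ?_⟩
    · linear_combination a / 2
    · linear_combination b / 2
    · linear_combination c / 2
    · linear_combination d / 2
    · linear_combination e / 2
  obtain ⟨k1, k2, k3, k4, k5⟩ := b_F
  have two_r₀ : ∀ f : G → ℂ, 2 * classInner f b₀ = classInner f (F 0) - classInner f (F 1) := fun f => by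
    rw [← classInner_sub_right, h01, classInner_smul_right, map_ofNat]
  have two_r₁ : ∀ f : G → ℂ, 2 * classInner f b₁ = classInner f (F 1) - classInner f (F 2) := fun f => by
    rw [← classInner_sub_right, h12, classInner_smul_right, map_ofNat]
  have n00 : classInner b₀ b₀ = 2 := by
    have := two_r₀ b₀; rw [k3, k1] at this; linear_combination this / 2
  have n11 : classInner b₁ b₁ = 2 := by
    have := two_r₁ b₁; rw [k2, k5] at this; linear_combination this / 2
  have n10 : classInner b₁ b₀ = -1 := by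
    have := two_r₀ b₁; rw [k4, k2] at this; linear_combination this / 2
  have hb0v : ∀ g, Odd (orderOf g) → b₀ g = 0 := fun g hg => by
    have := congrFun h01 g
    simp only [Pi.sub_apply, Pi.smul_apply, hodd 0 g hg, hodd 1 g hg, sub_zero, smul_eq_mul] at this
    linear_combination -this / 2
  have hb1v : ∀ g, Odd (orderOf g) → b₁ g = 0 := fun g hg => by
    have := congrFun h12 g
    simp only [Pi.sub_apply, Pi.smul_apply, hodd 1 g hg, hodd 2 g hg, sub_zero, smul_eq_mul] at this
    linear_combination -this / 2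
  have hone : Odd (orderOf (1 : G)) := by simp
  obtain ⟨P, Q, hPQ, hb0⟩ := exists_difference hb₀ n00 (hb0v 1 hone)
  obtain ⟨A, B, hAB, hb1⟩ := exists_difference hb₁ n11 (hb1v 1 hone)
  have hcases : (A = Q ∧ B ≠ P ∧ B ≠ Q) ∨ (B = P ∧ A ≠ P ∧ A ≠ Q) := by
    rw [hb0, hb1, classInner_sub_left, classInner_sub_right, classInner_sub_right, classInner_irr,
      classInner_irr, classInner_irr, classInner_irr] at n10
    by_cases h1 : A = P <;> by_cases h2 : A = Q <;> by_cases h3 : B = P <;> by_cases h4 : B = Q <;>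
      simp_all <;> norm_num at n10
  choose m hm using (isGeneralizedCharacter_iff.mp (hF 1)).2
  have hc1 := isClassFunction_of_isGeneralizedCharacter (hF 1)
  have hsum : ∑ χ, m χ ^ 2 = 4 := by
    have h := hin 1 1
    rw [if_pos rfl, classInner_self_eq_sum_sq hc1 hm] at h
    exact_mod_cast h
  have hmb : ∀ (f : G → ℂ) (Y Z : IrrCharacter G) (v : ℤ), f = (Y : G → ℂ) - (Z : G → ℂ) →
      classInner f (F 1) = v → m Y - m Z = v := by
    intro f Y Z v hf hv
    rw [classInner_conj_symm (F 1) f, hf, classInner_sub_right, hm, hm] at hv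
    have e : ((m Y - m Z : ℤ) : ℂ) = v := by
      simpa using hv
    exact_mod_cast e
  have hp : m P - m Q = -2 := hmb b₀ P Q (-2) hb0 (by rw [k1]; norm_num)
  have hab : m A - m B = 2 := hmb b₁ A B 2 hb1 (by rw [k2]; norm_num)
  have hPR : ∀ R : IrrCharacter G, R ≠ P → R ≠ Q → m P ^ 2 + m Q ^ 2 + m R ^ 2 ≤ 4 := fun R h1 h2 => by
    rw [← hsum]
    have : ∑ χ ∈ ({P, Q, R} : Finset (IrrCharacter G)), m χ ^ 2 = m P ^ 2 + m Q ^ 2 + m R ^ 2 := by
      rw [Finset.sum_insert (by simp [hPQ, Ne.symm h1]), Finset.sum_pair (Ne.symm h2), add_assoc]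
    rw [← this]
    exact Finset.sum_le_univ_sum_of_nonneg fun χ => sq_nonneg (m χ)
  have hsolo : ∀ (Y : IrrCharacter G) (v : ℤ), v ^ 2 = 4 → m Y = v → False := by
    intro Y v hv hY
    have hsplit := Finset.add_sum_erase Finset.univ (fun χ => m χ ^ 2) (Finset.mem_univ Y)
    have hz : ∀ χ ∈ Finset.univ.erase Y, m χ = 0 := fun χ hχ =>
      eq_zero_of_pow_eq_zero ((Finset.sum_eq_zero_iff_of_nonneg fun ψ _ => sq_nonneg (m ψ)).1
        (by simp only [hY, hv, hsum] at hsplit; omega) χ hχ)
    have hval := congrFun (classFunction_eq_sum hc1) 1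
    rw [hodd 1 1 hone, Finset.sum_apply, Finset.sum_eq_single Y (fun χ _ h => by
      simp [hm, hz χ (by simp [h])]) (by simp)] at hval
    simp only [Pi.smul_apply, smul_eq_mul, hm, hY] at hval
    have := (mul_eq_zero.1 hval.symm).resolve_right (irr_one_ne_zero Y)
    have : v = 0 := by exact_mod_cast this
    subst this
    norm_num at hv
  rcases hcases with ⟨rfl, hB1, hB2⟩ | ⟨rfl, hA1, hA2⟩
  · -- `b₁ = Q - R`
    have hle := hPR B hB1 hB2
    have hmP : m P = -1 := by
      have h1 : m A = m P + 2 := by omega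
      have h2 : m B = m P := by omega
      rw [h1, h2] at hle
      have ha : -2 < m P := by nlinarith
      have hb' : m P < 1 := by nlinarith
      by_contra hne
      have hP0 : m P = 0 := by omega
      exact hsolo A 2 (by norm_num) (by omega)
    obtain ⟨X, e, he, hXP, hXQ, hXR, hf⟩ := exists_fourth (hF 1) (by rw [hin, if_pos rfl]) hPQ hB1.symm hB2.symm
      (a := -1) (b := 1) (c := -1) (by rw [hm, hmP]) (by rw [hm, show m A = 1 by omega])
      (by rw [hm, show m B = -1 by omega]) (by norm_num) (by norm_num) (by norm_num)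
    have hPA : ∀ g, Odd (orderOf g) → (P : G → ℂ) g = (A : G → ℂ) g := fun g hg => by
      have := hb0v g hg; rw [hb0, Pi.sub_apply] at this; linear_combination this
    have hBA : ∀ g, Odd (orderOf g) → (B : G → ℂ) g = (A : G → ℂ) g := fun g hg => by
      have := hb1v g hg; rw [hb1, Pi.sub_apply] at this; linear_combination -this
    have hXA : ∀ g, Odd (orderOf g) → (e : ℂ) * (X : G → ℂ) g = (A : G → ℂ) g := fun g hg => by
      have := congrFun hf g
      simp only [hodd 1 g hg, Pi.add_apply, Pi.smul_apply, smul_eq_mul, hPA g hg, hBA g hg] at this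
      push_cast at this
      linear_combination -this
    obtain ⟨dX, hdX, hX1⟩ := degree_pos X
    obtain ⟨dA, hdA, hA1⟩ := degree_pos A
    have he1 : e = 1 := by
      rcases he with rfl | rfl
      · rfl
      · have := hXA 1 hone
        rw [hX1, hA1] at this
        have : (-1 : ℤ) * dX = dA := by exact_mod_cast this
        omega
    subst he1
    have hXA' : ∀ g, Odd (orderOf g) → (X : G → ℂ) g = (A : G → ℂ) g := fun g hg => by
      simpa using hXA g hg
    have cX : ∀ Z : IrrCharacter G, classInner (F 1) (Z : G → ℂ) = (if X = Z then 1 else 0) -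
        (if P = Z then 1 else 0) + (if A = Z then 1 else 0) - (if B = Z then 1 else 0) := fun Z => by
      rw [hf]
      simp only [classInner_add_left, classInner_smul_left, classInner_irr]
      push_cast
      ring
    have cb0 : ∀ Z : IrrCharacter G, classInner b₀ (Z : G → ℂ) =
        (if P = Z then 1 else 0) - (if A = Z then 1 else 0) := fun Z => by
      rw [hb0, classInner_sub_left, classInner_irr, classInner_irr]
    have cb1 : ∀ Z : IrrCharacter G, classInner b₁ (Z : G → ℂ) =
        (if A = Z then 1 else 0) - (if B = Z then 1 else 0) := fun Z => by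
      rw [hb1, classInner_sub_left, classInner_irr, classInner_irr]
    have csum : ∀ Z : IrrCharacter G, classInner (F 0) (Z : G → ℂ) + classInner (F 1) (Z : G → ℂ) +
        classInner (F 2) (Z : G → ℂ) = 3 * classInner (F 1) (Z : G → ℂ) + 2 * classInner b₀ (Z : G → ℂ) -
          2 * classInner b₁ (Z : G → ℂ) := fun Z => by
      rw [e0, e2, classInner_add_left, classInner_sub_left, classInner_smul_left, classInner_smul_left]
      ring
    refine ⟨X, A, hXA', ⟨1, Or.inl rfl, ?_⟩, ⟨-1, Or.inr rfl, ?_⟩, ?_⟩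
    · rw [csum, cX, cb0, cb1]
      simp [Ne.symm hXP, Ne.symm hXQ, Ne.symm hXR]
    · rw [csum, cX, cb0, cb1]
      simp [hXQ, hPQ, hB2]
      norm_num
    · intro Φ hΦ hn hΦ1 horth
      have o0 : classInner Φ b₀ = 0 := by
        have := two_r₀ Φ; rw [horth, horth] at this; simpa using this
      have o1 : classInner Φ b₁ = 0 := by
        have := two_r₁ Φ; rw [horth, horth] at this; simpa using this
      rw [hb0, classInner_sub_right] at o0
      rw [hb1, classInner_sub_right] at o1
      have o2 := horth 1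
      rw [hf] at o2
      simp only [classInner_add_right, classInner_smul_right, map_intCast] at o2
      push_cast at o2
      have eA : classInner Φ (A : G → ℂ) = classInner Φ (X : G → ℂ) := by
        linear_combination -o2 - o0 + o1
      have h0 := coeff_zero hΦ hn hΦ1 hXP hXQ hXR hPQ hB1.symm hB2.symm
        ((hPA 1 hone).trans (hXA' 1 hone).symm) ((hXA' 1 hone).symm)
        ((hBA 1 hone).trans (hXA' 1 hone).symm)
        (by linear_combination o0 + eA) eA (by linear_combination -o1 + eA)
      exact ⟨h0, by rw [eA, h0]⟩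
  · -- `b₁ = R - P`
    have hle := hPR A hA1 hA2
    have hmP : m B = -1 := by
      have h1 : m Q = m B + 2 := by omega
      have h2 : m A = m B + 2 := by omega
      rw [h1, h2] at hle
      have ha : -3 < m B := by nlinarith
      have hb' : m B < 0 := by nlinarith
      by_contra hne
      have hP0 : m B = -2 := by omega
      exact hsolo B (-2) (by norm_num) hP0
    obtain ⟨X, e, he, hXP, hXQ, hXR, hf⟩ := exists_fourth (hF 1) (by rw [hin, if_pos rfl]) hPQ hA1.symm hA2.symm
      (a := -1) (b := 1) (c := 1) (by rw [hm, hmP]) (by rw [hm, show m Q = 1 by omega])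
      (by rw [hm, show m A = 1 by omega]) (by norm_num) (by norm_num) (by norm_num)
    have hQB : ∀ g, Odd (orderOf g) → (Q : G → ℂ) g = (B : G → ℂ) g := fun g hg => by
      have := hb0v g hg; rw [hb0, Pi.sub_apply] at this; linear_combination -this
    have hAB' : ∀ g, Odd (orderOf g) → (A : G → ℂ) g = (B : G → ℂ) g := fun g hg => by
      have := hb1v g hg; rw [hb1, Pi.sub_apply] at this; linear_combination this
    have hXB : ∀ g, Odd (orderOf g) → (e : ℂ) * (X : G → ℂ) g = -(B : G → ℂ) g := fun g hg => by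
      have := congrFun hf g
      simp only [hodd 1 g hg, Pi.add_apply, Pi.smul_apply, smul_eq_mul, hQB g hg, hAB' g hg] at this
      push_cast at this
      linear_combination -this
    obtain ⟨dX, hdX, hX1⟩ := degree_pos X
    obtain ⟨dB, hdB, hB1⟩ := degree_pos B
    have he1 : e = -1 := by
      rcases he with rfl | rfl
      · have := hXB 1 hone
        rw [hX1, hB1] at this
        have : (1 : ℤ) * dX = -(dB : ℤ) := by exact_mod_cast this
        omega
      · rfl
    subst he1
    have hXB' : ∀ g, Odd (orderOf g) → (X : G → ℂ) g = (B : G → ℂ) g := fun g hg => by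
      simpa using hXB g hg
    have cX : ∀ Z : IrrCharacter G, classInner (F 1) (Z : G → ℂ) = -(if X = Z then 1 else 0) -
        (if B = Z then 1 else 0) + (if Q = Z then 1 else 0) + (if A = Z then 1 else 0) := fun Z => by
      rw [hf]
      simp only [classInner_add_left, classInner_smul_left, classInner_irr]
      push_cast
      ring
    have cb0 : ∀ Z : IrrCharacter G, classInner b₀ (Z : G → ℂ) =
        (if B = Z then 1 else 0) - (if Q = Z then 1 else 0) := fun Z => by
      rw [hb0, classInner_sub_left, classInner_irr, classInner_irr]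
    have cb1 : ∀ Z : IrrCharacter G, classInner b₁ (Z : G → ℂ) =
        (if A = Z then 1 else 0) - (if B = Z then 1 else 0) := fun Z => by
      rw [hb1, classInner_sub_left, classInner_irr, classInner_irr]
    have csum : ∀ Z : IrrCharacter G, classInner (F 0) (Z : G → ℂ) + classInner (F 1) (Z : G → ℂ) +
        classInner (F 2) (Z : G → ℂ) = 3 * classInner (F 1) (Z : G → ℂ) + 2 * classInner b₀ (Z : G → ℂ) -
          2 * classInner b₁ (Z : G → ℂ) := fun Z => by
      rw [e0, e2, classInner_add_left, classInner_sub_left, classInner_smul_left, classInner_smul_left]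
      ring
    refine ⟨X, B, hXB', ⟨-1, Or.inr rfl, ?_⟩, ⟨1, Or.inl rfl, ?_⟩, ?_⟩
    · rw [csum, cX, cb0, cb1]
      simp [Ne.symm hXP, Ne.symm hXQ, Ne.symm hXR]
    · rw [csum, cX, cb0, cb1]
      simp [hXP, Ne.symm hPQ, hA1]
      norm_num
    · intro Φ hΦ hn hΦ1 horth
      have o0 : classInner Φ b₀ = 0 := by
        have := two_r₀ Φ; rw [horth, horth] at this; simpa using this
      have o1 : classInner Φ b₁ = 0 := by
        have := two_r₁ Φ; rw [horth, horth] at this; simpa using this
      rw [hb0, classInner_sub_right] at o0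
      rw [hb1, classInner_sub_right] at o1
      have o2 := horth 1
      rw [hf] at o2
      simp only [classInner_add_right, classInner_smul_right, map_intCast] at o2
      push_cast at o2
      have eB : classInner Φ (B : G → ℂ) = classInner Φ (X : G → ℂ) := by
        linear_combination o2 + o0 - o1
      have h0 := coeff_zero hΦ hn hΦ1 hXP hXQ hXR hPQ hA1.symm hA2.symm
        ((hXB' 1 hone).symm) ((hQB 1 hone).trans (hXB' 1 hone).symm)
        ((hAB' 1 hone).trans (hXB' 1 hone).symm)
        eB (by linear_combination -o0 + eB) (by linear_combination o1 + eB)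
      exact ⟨h0, by rw [eB, h0]⟩

end CfsgLib.ReeType
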