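import Cfsg.Agent.Lib.ReeType.Section
import Cfsg.Agent.Lib.ReeType.Triple
import Cfsg.Agent.Lib.ReeType.Count
import Mathlib.GroupTheory.SpecificGroups.Cyclic
import Mathlib.RingTheory.RootsOfUnity.Complex

/-!
The three exceptional functions: a torus of the centralizer of an involution, normalized by an
element of order three that permutes the three involutions of the torus.
-/

set_option autoImplicit false
set_option linter.unusedSectionVars false

namespace CfsgLib.ReeType

open Matrix Cfsg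
open CfsgLib.SL2Tori CfsgLib.Schur CfsgLib.Characters CfsgLib.SL2Char
open scoped ComplexConjugate

universe u

variable {G : Type u} [Group G]
variable {F : Type} [Field F] [Fintype F] [DecidableEq F]

local notation "SL2" => Matrix.SpecialLinearGroup (Fin 2) F
local notation "PSL2" => Matrix.ProjectiveSpecialLinearGroup (Fin 2) F

variable {c : Matrix.SpecialLinearGroup (Fin 2) F} {h n : ℕ}

theorem even_theta_congr (D : Data c h n) {θ : Subgroup.zpowers c →* ℂˣ} (hθ : evenTheta D θ)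
    {t t' : Subgroup.zpowers c} (e : prj (t : SL2) = prj (t' : SL2)) : θ t = θ t' := by
  have hz : prj ((t * t'⁻¹ : Subgroup.zpowers c) : SL2) = 1 := by
    rw [Subgroup.coe_mul, Subgroup.coe_inv, map_mul, map_inv, e, mul_inv_cancel]
  have h1 : θ (t * t'⁻¹) = 1 := by
    rcases prj_eq_one.1 hz with e' | e'
    · rw [show t * t'⁻¹ = 1 from Subtype.ext e', map_one]
    · rw [show t * t'⁻¹ = ⟨-1, D.ds.neg_one_mem⟩ from Subtype.ext e']
      exact Units.ext (by rw [Units.val_one]; exact hθ)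
  rw [map_mul, map_inv, mul_inv_eq_one] at h1
  exact h1

/-- The generator. -/
abbrev cgen (c : Matrix.SpecialLinearGroup (Fin 2) F) : Subgroup.zpowers c := ⟨c, Subgroup.mem_zpowers c⟩

/-- The embedding of a conjugate. -/
def conjHom (A : Subgroup G) (y : G) (hy : ∀ a ∈ A, y⁻¹ * a * y ∈ A) : A →* A where
  toFun a := ⟨y⁻¹ * (a : G) * y, hy a a.2⟩
  map_one' := Subtype.ext (by simp)
  map_mul' a b := Subtype.ext (by simp [mul_assoc])

theorem indFun_conjHom [Fintype G] (A : Subgroup G) (y : G) (hy : ∀ a ∈ A, y⁻¹ * a * y ∈ A)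
    (hy3 : y ^ 3 = 1) (f : A → ℂ) :
    Cfsg.indFun A (fun a => f (conjHom A y hy a)) = Cfsg.indFun A f := by
  classical
  funext g
  rw [CfsgLib.Induction.indFun_apply, CfsgLib.Induction.indFun_apply]
  congr 1
  have key : ∀ x : G, Cfsg.extendByZero A (fun a => f (conjHom A y hy a)) x =
      Cfsg.extendByZero A f (y⁻¹ * x * y) := by
    intro x
    by_cases hx : x ∈ A
    · rw [CfsgLib.Induction.extendByZero_mem A _ hx, CfsgLib.Induction.extendByZero_mem A f (hy x hx)]
      rfl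
    · rw [CfsgLib.Induction.extendByZero_notMem A _ hx, CfsgLib.Induction.extendByZero_notMem A f]
      intro hm
      refine hx ?_
      have h2 := hy _ (hy _ hm)
      have e : y⁻¹ * (y⁻¹ * (y⁻¹ * x * y) * y) * y = (y ^ 3)⁻¹ * x * y ^ 3 := by
        rw [pow_succ, pow_two]; group
      rw [e, hy3, inv_one, one_mul, mul_one] at h2
      exact h2
  rw [Finset.sum_congr rfl fun x _ => key _]
  exact Fintype.sum_bijective (fun x => x * y) (Group.mulRight_bijective y) _ _ fun x => by
    congr 1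
    group

/-- The torus of `C(s)` and its element of order three. -/
structure Cyc {s : G} (E : CentData s F) (c : Matrix.SpecialLinearGroup (Fin 2) F) (n : ℕ)
    (A : Subgroup G) (y : G) : Prop where
  hAC : A ≤ Subgroup.centralizer ({s} : Set G)
  hA : ∀ z : Subgroup.centralizer ({s} : Set G),
    (z : G) ∈ A ↔ E.kappa z ∈ Subgroup.zpowers (prj c)
  y_cube : y ^ 3 = 1
  y_norm : ∀ a ∈ A, y⁻¹ * a * y ∈ A
  y_s : y⁻¹ * s * y = s * (E.e.symm (1, prj (c ^ n)) : G)
  y_s2 : y⁻¹ * (E.e.symm (1, prj (c ^ n)) : G) * y = s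
  moved : ∃ a ∈ A, a ^ n = 1 ∧ y⁻¹ * a * y ≠ a
  one_lt : 1 < n

namespace Cyc

variable {s : G} {E : CentData s F} {A : Subgroup G} {y : G}
variable (T : Cyc E c n A y)
include T

/-- The lift of the torus. -/
noncomputable def iota : Subgroup.zpowers c →* A where
  toFun t := ⟨(E.e.symm (1, prj (t : SL2)) : G), (T.hA _).2 (by
    show (E.e (E.e.symm _)).2 ∈ _
    rw [E.e.apply_symm_apply]
    obtain ⟨i, hi⟩ := Subgroup.mem_zpowers_iff.1 t.2
    exact Subgroup.mem_zpowers_iff.2 ⟨i, by rw [← hi, map_zpow]⟩)⟩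
  map_one' := Subtype.ext (by simp [show ((1, 1) : Multiplicative (ZMod 2) × PSL2) = 1 from rfl])
  map_mul' t t' := Subtype.ext (by
    show (E.e.symm (1, prj ((t : SL2) * (t' : SL2))) : G) =
      (E.e.symm (1, prj (t : SL2)) : G) * (E.e.symm (1, prj (t' : SL2)) : G)
    rw [map_mul,
      show ((1, prj (t : SL2) * prj (t' : SL2)) : Multiplicative (ZMod 2) × PSL2) =
        (1, prj (t : SL2)) * (1, prj (t' : SL2)) by rw [Prod.mk_mul_mk, one_mul],
      map_mul, Subgroup.coe_mul])

/-- `s` in the torus. -/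
def selt : A := ⟨s, (T.hA ⟨s, Subgroup.mem_centralizer_singleton_iff.2 rfl⟩).2 (by
  rw [E.kappa_self]; exact Subgroup.one_mem _)⟩

/-- The projection of the torus. -/
noncomputable def kappaA : A →* Matrix.ProjectiveSpecialLinearGroup (Fin 2) F :=
  E.kappa.comp (Subgroup.inclusion T.hAC)

/-- The sign on the torus. -/
noncomputable def sigma : A →* ℂˣ := E.sgn.comp (Subgroup.inclusion T.hAC)

theorem kappaA_iota (t : Subgroup.zpowers c) : T.kappaA (T.iota t) = prj (t : SL2) := by
  show (E.e (Subgroup.inclusion T.hAC (T.iota t))).2 = _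
  rw [show Subgroup.inclusion T.hAC (T.iota t) = E.e.symm (1, prj (t : SL2)) from Subtype.ext rfl,
    E.e.apply_symm_apply]

theorem kappaA_selt : T.kappaA T.selt = 1 := E.kappa_self

theorem sigma_iota (t : Subgroup.zpowers c) : T.sigma (T.iota t) = 1 := by
  show signTwo (E.e (Subgroup.inclusion T.hAC (T.iota t))).1 = 1
  rw [show Subgroup.inclusion T.hAC (T.iota t) = E.e.symm (1, prj (t : SL2)) from Subtype.ext rfl,
    E.e.apply_symm_apply, map_one]

theorem sigma_selt : (T.sigma T.selt : ℂ) = -1 := E.sgn_self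

theorem exists_lift (a : A) : ∃ t : Subgroup.zpowers c, prj (t : SL2) = T.kappaA a := by
  obtain ⟨i, hi⟩ := Subgroup.mem_zpowers_iff.1 ((T.hA (Subgroup.inclusion T.hAC a)).1 a.2)
  exact ⟨⟨c ^ i, Subgroup.zpow_mem_zpowers c i⟩, by rw [map_zpow, hi]; rfl⟩

/-- A preimage in the torus of `SL₂`. -/
noncomputable def liftT (a : A) : Subgroup.zpowers c := (T.exists_lift a).choose

theorem liftT_spec (a : A) : prj (T.liftT a : SL2) = T.kappaA a := (T.exists_lift a).choose_spec

theorem cases_elt (a : A) :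
    a = T.iota (T.liftT a) ∨ a = T.selt * T.iota (T.liftT a) := by
  have hk : (E.e (Subgroup.inclusion T.hAC a)).2 = prj (T.liftT a : SL2) := (T.liftT_spec a).symm
  have hsym : ∀ {p : Multiplicative (ZMod 2) × PSL2}, E.e (Subgroup.inclusion T.hAC a) = p →
      (a : G) = (E.e.symm p : G) := fun {p} e => by rw [← e, E.e.symm_apply_apply]; rfl
  rcases E.sgn_cases (Subgroup.inclusion T.hAC a) with ⟨h1, -⟩ | ⟨h1, -⟩
  · exact Or.inl (Subtype.ext (hsym (p := (1, prj (T.liftT a : SL2))) (Prod.ext h1 hk)))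
  · refine Or.inr (Subtype.ext ((hsym (p := (Multiplicative.ofAdd 1, prj (T.liftT a : SL2))) (Prod.ext h1 hk)).trans ?_))
    have hs' : ((E.e.symm (Multiplicative.ofAdd 1, 1)) : G) = s := by
      rw [← E.he, E.e.symm_apply_apply]
    show _ = s * (E.e.symm (1, prj (T.liftT a : SL2)) : G)
    rw [show ((Multiplicative.ofAdd 1, prj (T.liftT a : SL2)) : Multiplicative (ZMod 2) × PSL2) =
      (Multiplicative.ofAdd 1, 1) * (1, prj (T.liftT a : SL2)) by rw [Prod.mk_mul_mk, mul_one, one_mul],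
      map_mul, Subgroup.coe_mul, hs']

theorem selt_sq : T.selt ^ 2 = 1 := Subtype.ext (by
  show s ^ 2 = 1
  rw [← E.orderOf_s, pow_orderOf_eq_one])

theorem selt_comm (a : A) : Commute T.selt a :=
  Subtype.ext (Subgroup.mem_centralizer_singleton_iff.1 (T.hAC a.2)).symm

theorem commute (a b : A) : Commute a b := by
  let _ : CommGroup (Subgroup.zpowers c) := IsCyclic.commGroup
  have hi : ∀ t t' : Subgroup.zpowers c, Commute (T.iota t) (T.iota t') := fun t t' =>
    (Commute.all t t').map T.iota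
  rcases T.cases_elt a with ea | ea <;> rcases T.cases_elt b with eb | eb <;> rw [ea, eb]
  · exact hi _ _
  · exact ((T.selt_comm _).symm).mul_right (hi _ _)
  · exact (T.selt_comm _).mul_left (hi _ _)
  · exact ((Commute.refl _).mul_right (T.selt_comm _)).mul_left
      ((T.selt_comm _).symm.mul_right (hi _ _))

theorem hom_apply {χ : A →* ℂˣ} (hs : χ T.selt = 1) (a : A) : χ a = χ (T.iota (T.liftT a)) := by
  rcases T.cases_elt a with e | e <;> nth_rw 1 [e]
  rw [map_mul, hs, one_mul]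

theorem iota_congr {t t' : Subgroup.zpowers c} (e : prj (t : SL2) = prj (t' : SL2)) :
    T.iota t = T.iota t' := Subtype.ext (by
  show (E.e.symm (1, prj (t : SL2)) : G) = (E.e.symm (1, prj (t' : SL2)) : G)
  rw [e])

/-- A character of the torus killing `s` from an even character of the torus of `SL₂`. -/
noncomputable def pull (D : Data c h n) (θ : Subgroup.zpowers c →* ℂˣ) (hθ : evenTheta D θ) :
    A →* ℂˣ where
  toFun a := θ (T.liftT a)
  map_one' := by
    rw [← map_one θ]
    exact even_theta_congr D hθ (by rw [T.liftT_spec, map_one, Subgroup.coe_one, map_one])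
  map_mul' a b := by
    rw [← map_mul θ]
    exact even_theta_congr D hθ (by
      rw [T.liftT_spec, map_mul, Subgroup.coe_mul, map_mul, T.liftT_spec, T.liftT_spec])

theorem pull_selt (D : Data c h n) {θ : Subgroup.zpowers c →* ℂˣ} (hθ : evenTheta D θ) :
    T.pull D θ hθ T.selt = 1 := by
  show θ (T.liftT T.selt) = 1
  rw [← map_one θ]
  exact even_theta_congr D hθ (by rw [T.liftT_spec, T.kappaA_selt, Subgroup.coe_one, map_one])

theorem pull_iota (D : Data c h n) {θ : Subgroup.zpowers c →* ℂˣ} (hθ : evenTheta D θ)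
    (t : Subgroup.zpowers c) : T.pull D θ hθ (T.iota t) = θ t :=
  even_theta_congr D hθ (by rw [T.liftT_spec, T.kappaA_iota])

/-- The element of order three acting on the torus. -/
def act : A →* A := conjHom A y T.y_norm

theorem act_cube (a : A) : T.act (T.act (T.act a)) = a := Subtype.ext (by
  show y⁻¹ * (y⁻¹ * (y⁻¹ * (a : G) * y) * y) * y = a
  calc _ = (y ^ 3)⁻¹ * (a : G) * y ^ 3 := by rw [pow_succ, pow_two]; group
    _ = a := by rw [T.y_cube]; group)

theorem act_selt : T.act T.selt = T.selt * T.iota ((cgen c) ^ n) := Subtype.ext T.y_s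

theorem act_iota : T.act (T.iota ((cgen c) ^ n)) = T.selt := Subtype.ext T.y_s2

theorem exists_zpow_gen (t : Subgroup.zpowers c) : ∃ j : ℤ, t = (cgen c) ^ j := by
  obtain ⟨j, hj⟩ := Subgroup.mem_zpowers_iff.1 t.2
  exact ⟨j, Subtype.ext (by rw [Subgroup.coe_zpow]; exact hj.symm)⟩

theorem iota_gen_pow (D : Data c h n) : T.iota ((cgen c) ^ (2 * n)) = 1 := by
  rw [← map_one T.iota]
  refine T.iota_congr ?_
  rw [Subgroup.coe_pow, show ((cgen c : Subgroup.zpowers c) : SL2) = c from rfl, ← D.h_eq,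
    TorusGen.pow_h_eq D.ds.torus, Subgroup.coe_one, map_one, prj_eq_one]
  exact Or.inr rfl

theorem sq_ext {χ χ' : A →* ℂˣ} (hn : Odd n) (h1 : ∀ a, χ a ^ 2 = 1) (h1' : ∀ a, χ' a ^ 2 = 1)
    (es : χ T.selt = χ' T.selt)
    (e2 : χ (T.iota ((cgen c) ^ n)) = χ' (T.iota ((cgen c) ^ n))) : χ = χ' := by
  have hp : ∀ u : ℂˣ, u ^ 2 = 1 → u ^ n = u := fun u hu => by
    obtain ⟨k, hk⟩ := hn
    rw [hk, pow_succ, pow_mul, hu, one_pow, one_mul]
  have key : ∀ ξ : A →* ℂˣ, (∀ a, ξ a ^ 2 = 1) → ξ (T.iota (cgen c)) = ξ (T.iota ((cgen c) ^ n)) :=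
    fun ξ hξ => by rw [map_pow, map_pow, hp _ (hξ _)]
  refine MonoidHom.ext fun a => ?_
  obtain ⟨j, hj⟩ := T.exists_zpow_gen (T.liftT a)
  rcases T.cases_elt a with e | e <;> rw [e, hj]
  · rw [map_zpow, map_zpow, map_zpow, key χ h1, key χ' h1', e2]
  · rw [map_mul, map_mul, map_zpow, map_zpow, map_zpow, key χ h1, key χ' h1', e2, es]

section Fin

variable [Fintype G]

theorem card_A (D : Data c h n) : (Nat.card A : ℂ) = 2 * h := by
  classical
  have hc : Nat.card (Subgroup.zpowers (prj c)) = h := by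
    rw [Nat.card_zpowers]
    refine (orderOf_eq_iff (show 0 < h by have := T.one_lt; have := D.h_eq; omega)).2 ⟨?_, ?_⟩
    · rw [← map_pow, TorusGen.pow_h_eq D.ds.torus, prj_eq_one]; exact Or.inr rfl
    · intro m hm hm0 e
      rw [← map_pow, prj_eq_one] at e
      have ho := D.ds.torus.order
      have hd : orderOf c ∣ 2 * m := orderOf_dvd_of_pow_eq_one (by
        rcases e with e | e <;> rw [mul_comm, pow_mul, e]
        · exact one_pow 2
        · exact neg_one_sq)
      have := Nat.le_of_dvd (by omega) hd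
      omega
  have e : A ≃ Multiplicative (ZMod 2) × Subgroup.zpowers (prj c) :=
    { toFun := fun a => ((E.e (Subgroup.inclusion T.hAC a)).1,
        ⟨T.kappaA a, (T.hA (Subgroup.inclusion T.hAC a)).1 a.2⟩)
      invFun := fun p => ⟨(E.e.symm (p.1, (p.2 : PSL2)) : G), (T.hA _).2 (by
        show (E.e (E.e.symm _)).2 ∈ _
        rw [E.e.apply_symm_apply]; exact p.2.2)⟩
      left_inv := fun a => Subtype.ext (by
        show (E.e.symm ((E.e (Subgroup.inclusion T.hAC a)).1, (E.e (Subgroup.inclusion T.hAC a)).2) : G) = a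
        rw [Prod.mk.eta, E.e.symm_apply_apply]
        rfl)
      right_inv := fun p => by
        refine Prod.ext ?_ (Subtype.ext ?_)
        · show (E.e (Subgroup.inclusion T.hAC ⟨(E.e.symm (p.1, (p.2 : PSL2)) : G), _⟩)).1 = p.1
          rw [show ∀ hm, Subgroup.inclusion T.hAC ⟨(E.e.symm (p.1, (p.2 : PSL2)) : G), hm⟩ =
            E.e.symm (p.1, (p.2 : PSL2)) from fun hm => Subtype.ext rfl, E.e.apply_symm_apply]
        · show (E.e (Subgroup.inclusion T.hAC ⟨(E.e.symm (p.1, (p.2 : PSL2)) : G), _⟩)).2 = _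
          rw [show ∀ hm, Subgroup.inclusion T.hAC ⟨(E.e.symm (p.1, (p.2 : PSL2)) : G), hm⟩ =
            E.e.symm (p.1, (p.2 : PSL2)) from fun hm => Subtype.ext rfl, E.e.apply_symm_apply] }
  rw [Nat.card_congr e, Nat.card_prod, hc, Nat.card_eq_fintype_card,
    show Fintype.card (Multiplicative (ZMod 2)) = 2 from rfl]
  push_cast
  ring

/-- Induction from the torus inside the centralizer. -/
theorem bar_ind (D : Data c h n) {θ : Subgroup.zpowers c →* ℂˣ} (hθ : evenTheta D θ)
    [Fintype (Subgroup.centralizer ({s} : Set G))] :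
    IsEven (indFun (Subgroup.zpowers c) (fun t => (θ t : ℂ))) ∧
    ∀ x : Subgroup.centralizer ({s} : Set G),
      bar (indFun (Subgroup.zpowers c) (fun t => (θ t : ℂ))) (E.kappa x) =
        indFun (A.subgroupOf (Subgroup.centralizer ({s} : Set G)))
          (fun z => (T.pull D θ hθ ⟨((z : Subgroup.centralizer ({s} : Set G)) : G), z.2⟩ : ℂ)) x := by
  classical
  have hev : IsEven (indFun (Subgroup.zpowers c) (fun t => (θ t : ℂ))) := indFun_neg (Subgroup.zpowers c) D.ds.neg_one_mem _ fun t => by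
    rw [map_mul, Units.val_mul]
    show zsign D.ds θ * _ = _
    rw [hθ, one_mul]
  refine ⟨hev, fun x => ?_⟩
  have : Fintype PSL2 := Fintype.ofFinite _
  obtain ⟨g, hg⟩ := prj_surjective (E.kappa x)
  rw [← hg, bar_prj hev, CfsgLib.Induction.indFun_apply, CfsgLib.Induction.indFun_apply]
  set f := Cfsg.extendByZero (Subgroup.zpowers c) (fun t => (θ t : ℂ)) with hf
  have hfe : IsEven f := by
    intro w
    by_cases hw : w ∈ (Subgroup.zpowers c)
    · rw [hf, CfsgLib.Induction.extendByZero_mem (Subgroup.zpowers c) _ hw,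
        CfsgLib.Induction.extendByZero_mem (Subgroup.zpowers c) _ ((Subgroup.zpowers c).mul_mem D.ds.neg_one_mem hw)]
      rw [show (⟨-1 * w, _⟩ : (Subgroup.zpowers c)) = ⟨-1, D.ds.neg_one_mem⟩ * ⟨w, hw⟩ from rfl, map_mul, Units.val_mul]
      show zsign D.ds θ * _ = _
      rw [hθ, one_mul]
    · rw [hf, CfsgLib.Induction.extendByZero_notMem (Subgroup.zpowers c) _ hw, CfsgLib.Induction.extendByZero_notMem (Subgroup.zpowers c)]
      exact fun e => hw (by simpa [← mul_assoc] using (Subgroup.zpowers c).mul_mem ((Subgroup.zpowers c).inv_mem D.ds.neg_one_mem) e)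
  have hterm : ∀ k : SL2, f (k⁻¹ * g * k) = bar f ((prj k)⁻¹ * E.kappa x * prj k) := fun k => by
    rw [← hg, ← map_inv, ← map_mul, ← map_mul, bar_prj hfe]
  have hterm' : ∀ z : (Subgroup.centralizer ({s} : Set G)), Cfsg.extendByZero (A.subgroupOf (Subgroup.centralizer ({s} : Set G)))
      (fun w => (T.pull D θ hθ ⟨((w : (Subgroup.centralizer ({s} : Set G))) : G), w.2⟩ : ℂ)) (z⁻¹ * x * z) =
      bar f ((E.kappa z)⁻¹ * E.kappa x * E.kappa z) := by
    intro z
    rw [← map_inv, ← map_mul, ← map_mul]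
    set w := z⁻¹ * x * z
    obtain ⟨k, hk⟩ := prj_surjective (E.kappa w)
    rw [← hk, bar_prj hfe]
    by_cases hw : (w : G) ∈ A
    · rw [CfsgLib.Induction.extendByZero_mem (A.subgroupOf (Subgroup.centralizer ({s} : Set G))) _ (Subgroup.mem_subgroupOf.2 hw)]
      have hkH : k ∈ (Subgroup.zpowers c) := by
        have hl := T.liftT_spec ⟨(w : G), hw⟩
        have : prj k = prj (T.liftT ⟨(w : G), hw⟩ : SL2) := hk.trans hl.symm
        have h1 : prj (k * (T.liftT ⟨(w : G), hw⟩ : SL2)⁻¹) = 1 := by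
          rw [map_mul, map_inv, this, mul_inv_cancel]
        rcases prj_eq_one.1 h1 with e | e
        · rw [mul_inv_eq_one.1 e]; exact (T.liftT _).2
        · rw [mul_inv_eq_iff_eq_mul.1 e]; exact (Subgroup.zpowers c).mul_mem D.ds.neg_one_mem (T.liftT _).2
      rw [hf, CfsgLib.Induction.extendByZero_mem (Subgroup.zpowers c) _ hkH]
      exact congrArg Units.val (even_theta_congr D hθ (by
        show prj (T.liftT ⟨(w : G), hw⟩ : SL2) = prj k
        rw [T.liftT_spec, hk]; rfl))
    · rw [CfsgLib.Induction.extendByZero_notMem (A.subgroupOf (Subgroup.centralizer ({s} : Set G))) _ (fun e => hw (Subgroup.mem_subgroupOf.1 e)),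
        hf, CfsgLib.Induction.extendByZero_notMem (Subgroup.zpowers c)]
      intro hkH
      refine hw ((T.hA w).2 ?_)
      rw [← hk]
      obtain ⟨i, rfl⟩ := Subgroup.mem_zpowers_iff.1 hkH
      exact Subgroup.mem_zpowers_iff.2 ⟨i, (map_zpow _ _ _).symm⟩
  rw [Finset.sum_congr rfl fun k _ => hterm k, Finset.sum_congr rfl fun z _ => hterm' z]
  set F' : PSL2 → ℂ := fun k => bar f (k⁻¹ * E.kappa x * k)
  have h20 := two_ne D
  have hL : ∑ k : SL2, F' (prj k) = 2 * ∑ k : PSL2, F' k := by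
    rw [sum_bar h20 (f := fun k => F' (prj k)) (isEven_bar_one F')]
    congr 1
    refine Finset.sum_congr rfl fun k _ => ?_
    show F' (prj (Function.surjInv prj_surjective k)) = _
    rw [Function.surjInv_eq prj_surjective]
  have hR : ∑ z : (Subgroup.centralizer ({s} : Set G)), F' (E.kappa z) = 2 * ∑ k : PSL2, F' k := by
    rw [← Equiv.sum_comp E.e.symm.toEquiv (fun z => F' (E.kappa z)), Fintype.sum_prod_type]
    have : ∀ (a : Multiplicative (ZMod 2)) (k : PSL2), F' (E.kappa (E.e.symm.toEquiv (a, k))) = F' k :=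
      fun a k => by
        show F' (E.e (E.e.symm (a, k))).2 = _
        rw [E.e.apply_symm_apply]
    simp only [this, Finset.sum_const, Finset.card_univ, nsmul_eq_mul]
    rw [show Fintype.card (Multiplicative (ZMod 2)) = 2 from rfl]
    norm_num
  show (Nat.card (Subgroup.zpowers c) : ℂ)⁻¹ * ∑ k : SL2, F' (prj k) = (Nat.card (A.subgroupOf (Subgroup.centralizer ({s} : Set G))) : ℂ)⁻¹ * ∑ z : (Subgroup.centralizer ({s} : Set G)), F' (E.kappa z)
  rw [hL, hR, Nat.card_congr (Subgroup.subgroupOfEquivOfLe T.hAC).toEquiv, T.card_A D,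
    D.ds.torus.card_torus]
  push_cast
  ring

/-- The basic relation. -/
theorem sec_diff (D : Data c h n) {χ χ' : A →* ℂˣ} (hs : χ T.selt = 1) (hs' : χ' T.selt = 1) :
    E.sec (psi D (χ.comp T.iota)) - E.sec (psi D (χ'.comp T.iota)) =
      -indFun A (fun a => (1 - (T.sigma a : ℂ)) *
        (1 + (T.pull D (delta D) (delta_spec D).2.2.1 a : ℂ)) * ((χ a : ℂ) - (χ' a : ℂ))) := by
  classical
  set C := Subgroup.centralizer ({s} : Set G)
  have : Fintype C := Fintype.ofFinite _
  have hev : ∀ {ξ : A →* ℂˣ}, ξ T.selt = 1 → evenTheta D (ξ.comp T.iota) := fun {ξ} _ => by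
    show (ξ (T.iota _) : ℂ) = 1
    rw [T.iota_congr (t' := 1) (by rw [Subgroup.coe_one, map_one, prj_eq_one]; exact Or.inr rfl), map_one, map_one,
      Units.val_one]
  have hd := delta_spec D
  obtain ⟨e1, b1⟩ := T.bar_ind D (hev hs)
  obtain ⟨e2, b2⟩ := T.bar_ind D (even_mul D (hev hs) hd.2.2.1)
  obtain ⟨e3, b3⟩ := T.bar_ind D (hev hs')
  obtain ⟨e4, b4⟩ := T.bar_ind D (even_mul D (hev hs') hd.2.2.1)
  rw [← E.sec_sub]
  have hpsi : psi D (χ.comp T.iota) - psi D (χ'.comp T.iota) =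
      (indFun (Subgroup.zpowers c) (fun t => ((χ'.comp T.iota) t : ℂ)) + indFun (Subgroup.zpowers c) (fun t => (((χ'.comp T.iota) * delta D) t : ℂ))) -
      (indFun (Subgroup.zpowers c) (fun t => ((χ.comp T.iota) t : ℂ)) + indFun (Subgroup.zpowers c) (fun t => (((χ.comp T.iota) * delta D) t : ℂ))) := by
    simp only [psi_def, ds]
    abel
  rw [hpsi, CentData.sec, ← CfsgLib.Induction.indFun_trans T.hAC, ← neg_eq_iff_eq_neg]
  rw [show ∀ f : C → ℂ, -indFun C f = indFun C (-f) from fun f => (map_neg (CfsgLib.Induction.indLinear C) f).symm]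
  congr 1
  funext x
  have hbar : ∀ (f g : SL2 → ℂ), bar (f - g) (E.kappa x) = bar f (E.kappa x) - bar g (E.kappa x) :=
    fun f g => rfl
  have hbar' : ∀ (f g : SL2 → ℂ), bar (f + g) (E.kappa x) = bar f (E.kappa x) + bar g (E.kappa x) :=
    fun f g => rfl
  simp only [Pi.neg_apply, CentData.phi, hbar, hbar', b1, b2, b3, b4]
  set AC := A.subgroupOf C
  have hσ : IsClassFunction C (fun z => 1 - (E.sgn z : ℂ)) := fun a b => by
    simp only [map_mul, map_inv, Units.val_mul, Units.val_inv_eq_inv_val]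
    rw [mul_comm ((E.sgn b : ℂ)), mul_assoc, mul_inv_cancel₀ (Units.ne_zero _), mul_one]
  have hmul : ∀ f : AC → ℂ, (1 - (E.sgn x : ℂ)) * indFun AC f x =
      indFun AC (fun z => f z * (1 - (E.sgn (z : C) : ℂ))) x := fun f => by
    rw [← CfsgLib.Induction.indFun_mul AC hσ f, Pi.mul_apply, mul_comm]
  rw [neg_mul_eq_mul_neg, neg_sub, mul_sub, mul_add, mul_add, hmul, hmul, hmul, hmul,
    ← Pi.add_apply, ← CfsgLib.Induction.indFun_add, ← Pi.add_apply, ← CfsgLib.Induction.indFun_add,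
    ← Pi.sub_apply, ← CfsgLib.Induction.indFun_sub]
  congr 1
  funext z
  have hσa : E.sgn (z : C) = T.sigma ⟨((z : C) : G), z.2⟩ := rfl
  have hp : ∀ (ξ : A →* ℂˣ) (hξ : ξ T.selt = 1) (a : A), T.pull D (ξ.comp T.iota) (hev hξ) a = ξ a :=
    fun ξ hξ a => (T.hom_apply hξ a).symm
  have hpm : ∀ (ξ : A →* ℂˣ) (hξ : ξ T.selt = 1) (a : A),
      T.pull D (ξ.comp T.iota * delta D) (even_mul D (hev hξ) hd.2.2.1) a =
        ξ a * T.pull D (delta D) hd.2.2.1 a := fun ξ hξ a => by
    rw [T.hom_apply hξ a]; rfl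
  simp only [Pi.sub_apply, Pi.add_apply, hp _ hs, hp _ hs', hpm _ hs, hpm _ hs', hσa, Units.val_mul]
  ring

theorem sigma_sq (a : A) : T.sigma a ^ 2 = 1 := by
  refine Units.ext ?_
  rcases E.sgn_cases (Subgroup.inclusion T.hAC a) with ⟨-, e⟩ | ⟨-, e⟩ <;>
    rw [Units.val_pow_eq_pow_val, show (T.sigma a : ℂ) = _ from e] <;> norm_num

/-- The character of order two killing `s`. -/
noncomputable def dA (D : Data c h n) : A →* ℂˣ := T.pull D (delta D) (delta_spec D).2.2.1

theorem dA_sq (D : Data c h n) (a : A) : T.dA D a ^ 2 = 1 :=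
  DFunLike.congr_fun (delta_spec D).2.1 (T.liftT a)

theorem dA_iota_n (D : Data c h n) : T.dA D (T.iota ((cgen c) ^ n)) = -1 := by
  rw [dA, T.pull_iota D, map_pow]
  refine Units.ext ?_
  rw [Units.val_pow_eq_pow_val, show ((delta D) (cgen c) : ℂ) = -1 from
    theta0_gen D.ds (delta_spec D).1 (delta_spec D).2.1, D.n_odd.neg_one_pow, Units.val_neg, Units.val_one]

theorem act_tables (D : Data c h n) :
    (T.dA D).comp T.act = T.sigma ∧ T.sigma.comp T.act = T.sigma * T.dA D ∧
      (T.sigma * T.dA D).comp T.act = T.dA D := by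
  have s1 : T.sigma T.selt = -1 := Units.ext (by rw [T.sigma_selt, Units.val_neg, Units.val_one])
  have s2 := T.sigma_iota ((cgen c) ^ n)
  have d1 : T.dA D T.selt = 1 := T.pull_selt D _
  have d2 := T.dA_iota_n D
  have q1 : ∀ a, (T.sigma * T.dA D) a ^ 2 = 1 := fun a => by
    rw [MonoidHom.mul_apply, mul_pow, T.sigma_sq, T.dA_sq, one_mul]
  refine ⟨T.sq_ext D.n_odd (fun a => T.dA_sq D _) T.sigma_sq ?_ ?_,
    T.sq_ext D.n_odd (fun a => T.sigma_sq _) q1 ?_ ?_,
    T.sq_ext D.n_odd (fun a => q1 _) (T.dA_sq D) ?_ ?_⟩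
  all_goals simp only [MonoidHom.comp_apply, T.act_selt, T.act_iota, map_mul, MonoidHom.mul_apply, s1, s2, d1, d2]
  all_goals simp

/-- The halved difference. -/
noncomputable def halfDiff (D : Data c h n) (χ : A →* ℂˣ) : G → ℂ :=
  -indFun A (fun a => ((T.dA D a : ℂ) - ((T.sigma * T.dA D) a : ℂ)) * (χ a : ℂ))

theorem halfDiff_gen (D : Data c h n) (χ : A →* ℂˣ) : IsGeneralizedCharacter G (T.halfDiff D χ) := by
  classical
  refine ⟨indFun A (fun a => ((T.sigma * T.dA D * χ) a : ℂ)), indFun A (fun a => ((T.dA D * χ) a : ℂ)),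
    CfsgLib.Induction.isCharacter_indFun _ (isCharacter_of_irr (isIrrCharacter_of_hom _)),
    CfsgLib.Induction.isCharacter_indFun _ (isCharacter_of_irr (isIrrCharacter_of_hom _)), ?_⟩
  rw [← CfsgLib.Induction.indFun_sub, halfDiff,
    show ∀ f : A → ℂ, -indFun A f = indFun A (-f) from fun f => (map_neg (CfsgLib.Induction.indLinear A) f).symm]
  congr 1
  funext a
  simp only [Pi.neg_apply, Pi.sub_apply, MonoidHom.mul_apply, Units.val_mul]
  ring

theorem sec_step (D : Data c h n) {χ : A →* ℂˣ} (hs : χ T.selt = 1) (hs' : χ.comp T.act T.selt = 1) :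
    E.sec (psi D (χ.comp T.iota)) - E.sec (psi D ((χ.comp T.act).comp T.iota)) =
      (2 : ℂ) • T.halfDiff D χ := by
  classical
  rw [T.sec_diff D hs hs']
  obtain ⟨t1, t2, t3⟩ := T.act_tables D
  have e1 : ∀ a, T.dA D (T.act a) = T.sigma a := fun a => DFunLike.congr_fun t1 a
  have e2 : ∀ a, T.sigma (T.act a) = (T.sigma * T.dA D) a := fun a => DFunLike.congr_fun t2 a
  have e3 : ∀ a, (T.sigma * T.dA D) (T.act a) = T.dA D a := fun a => DFunLike.congr_fun t3 a
  set f₁ : A → ℂ := fun a => (1 - (T.sigma a : ℂ)) * (1 + (T.dA D a : ℂ)) * (χ a : ℂ) with hf₁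
  set f₂ : A → ℂ := fun a => (1 - (T.sigma a : ℂ)) * (1 + (T.dA D a : ℂ)) * (χ (T.act a) : ℂ) with hf₂
  set g : A → ℂ := fun a => (1 - (T.dA D a : ℂ) + ((T.sigma * T.dA D) a : ℂ) - (T.sigma a : ℂ)) * (χ a : ℂ) with hg
  have hf : f₂ = fun a => g (T.act a) := funext fun a => by
    simp only [hf₂, hg, e3]
    simp only [e1, e2, MonoidHom.mul_apply, Units.val_mul]
    ring
  have hsub : (fun a : A => (1 - (T.sigma a : ℂ)) *
      (1 + (T.pull D (delta D) (delta_spec D).2.2.1 a : ℂ)) * ((χ a : ℂ) - ((χ.comp T.act) a : ℂ))) =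
      f₁ - f₂ := funext fun a => by
    simp only [hf₁, hf₂, Pi.sub_apply, MonoidHom.comp_apply, dA]
    ring
  rw [hsub, CfsgLib.Induction.indFun_sub, hf, act, indFun_conjHom A y T.y_norm T.y_cube,
    ← CfsgLib.Induction.indFun_sub, halfDiff, smul_neg, ← CfsgLib.Induction.indFun_smul]
  congr 2
  funext a
  simp only [hf₁, hg, Pi.sub_apply, Pi.smul_apply, smul_eq_mul, MonoidHom.mul_apply, Units.val_mul]
  ring

end Fin

end Cyc

end CfsgLib.ReeType
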